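import Cfsg.Agent.Lib.SchurMult.TwoCollect

/-! Collector certificate for a Sylow `2`-subgroup of the Held group. -/

set_option autoImplicit false
set_option maxRecDepth 100000

namespace CfsgLib.HeldMult

open CfsgLib.SchurMult

/-- Part of a collection table. -/
def tblHe_0_0 : Trie := (.node (.node (.node (.node (.node (.node (.leaf 1) (.leaf 18446744073709552311)) (.node (.leaf 9223372036854776065) (.leaf 27679140902550389687))) (.node (.node (.leaf 4611686018427388321) (.leaf 23073123965654799575)) (.node (.leaf 13835058055282165921) (.leaf 32287471211068806615)))) (.node (.node (.node (.leaf 2305843009213694487) (.leaf 20771414518232037217)) (.node (.leaf 11529215046068474647) (.leaf 30003811345982357089))) (.node (.node (.leaf 6917529027657869431) (.leaf 25368433051253078721)) (.node (.leaf 16140901064512645495) (.leaf 34600829880093883329))))) (.node (.node (.node (.node (.leaf 1152921504606847713) (.leaf 19625581069434969175)) (.node (.leaf 10376293541461627873) (.leaf 28857942713358175575))) (.node (.node (.leaf 5764607523058932545)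 (.leaf 24240666776990563895)) (.node (.leaf 14987979559913701953) (.leaf 33455049207322160951)))) (.node (.node (.node (.leaf 3484680004954330359) (.leaf 21924353615115044225)) (.node (.leaf 12708052041809106423) (.leaf 31156715259038502017))) (.node (.node (.leaf 8096366023382771351) (.leaf 26521372147696040993)) (.node (.leaf 17319738060237551511) (.leaf 35753733791619247393)))))) (.node (.node (.node (.node (.node (.leaf 576460752303424075) (.leaf 19043870431068536605)) (.node (.leaf 9799832789158204235) (.leaf 28276267259364107805))) (.node (.node (.leaf 5188146770750356203) (.leaf 23661155164306082941)) (.node (.leaf 14411518807605128171) (.leaf 32893551992056122749)))) (.node (.node (.node (.leaf 2902969366569524925) (.leaf 21337739475592942635)) (.node (.leaf 12126341403424296893) (.leaf 30570136303888237867))) (.node (.node (.leaf 7514655385016727005) (.leaf 25973056198655196299)) (.node (.leaf 16738027421871504605) (.leaf 35187403444069203339))))) (.node (.node (.node (.node (.leaf 1729382256929369259) (.leaf 20182170631368114685))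 (.node (.leaf 10952754293784145323) (.leaf 29414532274762844413))) (.node (.node (.leaf 6341068275361989643) (.leaf 24788196362680806045)) (.node (.leaf 15564440312216765707) (.leaf 34020558006604299165)))) (.node (.node (.node (.leaf 4041269566858240093) (.leaf 22490678573176398539)) (.node (.leaf 13264641603713016157) (.leaf 31723040216554628043))) (.node (.node (.leaf 8652955585283496765) (.leaf 27125960111404656235)) (.node (.leaf 17876327622138266173) (.leaf 36340342540645492587)))))))

/-- Part of a collection table. -/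
def tblHe_0_1 : Trie := (.node (.node (.node (.node (.node (.node (.leaf 36028797018964150) (.leaf 18489220904473639424)) (.node (.leaf 9259400833873740214) (.leaf 27721617732769213184))) (.node (.node (.leaf 4647714815451605014) (.leaf 23095264228291324256)) (.node (.leaf 13871086852306381078) (.leaf 32327625871686049888)))) (.node (.node (.node (.leaf 2348319839966253984) (.leaf 20816446115601856214)) (.node (.leaf 11571691876821027488) (.leaf 30030793360470603734))) (.node (.node (.leaf 6960005858422337728) (.leaf 25404519022633153142)) (.node (.leaf 16183377895277113792) (.leaf 34636880667085366134))))) (.node (.node (.node (.node (.leaf 1188950301631212118) (.leaf 19656759315835587808)) (.node (.leaf 10412322338485992278) (.leaf 28889120959759076832))) (.node (.node (.leaf 5800636320077861622) (.leaf 24274088029404678016)) (.node (.leaf 15024008356932633590) (.leaf 33506484857172024960)))) (.node (.node (.node (.leaf 3515858251312084288) (.leaf 21969350027504629814)) (.node (.leaf 12739230288166861888) (.leaf 31183732457819203894)))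 (.node (.node (.leaf 8127544269749999136) (.leaf 26557422935585989782)) (.node (.leaf 17350916306604771104) (.leaf 35789819763353089430)))))) (.node (.node (.node (.node (.node (.leaf 618893223468254236) (.leaf 19065234042715552074)) (.node (.leaf 9842265260323030300) (.leaf 28297595687167516746))) (.node (.node (.leaf 5230579241895642556) (.leaf 23680337344730117930)) (.node (.leaf 14453951278750420156) (.leaf 32894684590144122410)))) (.node (.node (.node (.leaf 2924332978194768362) (.leaf 21376372034744810364)) (.node (.leaf 12147705015049545962) (.leaf 30590754465059103356))) (.node (.node (.leaf 7536018996629472138) (.leaf 26004933356643347164)) (.node (.leaf 16759391033484253834) (.leaf 35219280602602580956))))) (.node (.node (.node (.node (.leaf 1771814728075101948) (.leaf 20232825232011962282)) (.node (.leaf 10995186764929882108) (.leaf 29465222059762282154))) (.node (.node (.leaf 6383500746519748444) (.leaf 24859108367744922058)) (.node (.leaf 15606872783374517852) (.leaf 34073490797530986698)))) (.node (.node (.node (.leaf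 4091924167507732234) (.leaf 22529311130858543516)) (.node (.leaf 13315296204362513930) (.leaf 31743658375744028828))) (.node (.node (.leaf 8703610185960541546) (.leaf 27157837270282602556)) (.node (.leaf 17926982222815315050) (.leaf 36372219699540220220)))))))

/-- Part of a collection table. -/
def tblHe_0_2 : Trie := (.node (.node (.node (.node (.node (.node (.leaf 72057594037928373) (.leaf 18534152499477035327)) (.node (.leaf 9295429630892705973) (.leaf 27748534929808384063))) (.node (.node (.leaf 4683743612478974229) (.leaf 23140248601118481823)) (.node (.leaf 13907115649333747733) (.leaf 32354631030904575135)))) (.node (.node (.node (.leaf 2393251434987505503) (.leaf 20850941644934136789)) (.node (.leaf 11616623471842287199) (.leaf 30083338472684423893))) (.node (.node (.leaf 7004937453424472063) (.leaf 25456958579643617141)) (.node (.leaf 16228309490279249663) (.leaf 34689355407939196533))))) (.node (.node (.node (.node (.leaf 1224979098658810709) (.leaf 19701730494996986143)) (.node (.leaf 10448351135513588309) (.leaf 28916077740410707999)))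 (.node (.node (.leaf 5836665117096805365) (.leaf 24319085595282286015)) (.node (.leaf 15060037153951587061) (.leaf 33533432840167533759)))) (.node (.node (.node (.leaf 3560829430495856511) (.leaf 21979062563793363253)) (.node (.leaf 12784201467350638207) (.leaf 31211424207716579381))) (.node (.node (.leaf 8172515448945405919) (.leaf 26594165865859419541)) (.node (.leaf 17395887485800183519) (.leaf 35826527509254427797)))))) (.node (.node (.node (.node (.node (.leaf 663858773398507747) (.leaf 19107311743509403721)) (.node (.leaf 9887230810253283811) (.leaf 28321694172750235977))) (.node (.node (.leaf 5275544791818560131) (.leaf 23735917046081901097)) (.node (.leaf 14498916828673340291) (.leaf 32950299476396446505)))) (.node (.node (.node (.leaf 2966410679038234857) (.leaf 21416798258364749891)) (.node (.leaf 12189782715893010921) (.leaf 30631180688696101187))) (.node (.node (.leaf 7578096697458287241) (.leaf 26047664158454305315)) (.node (.leaf 16801468734313067401) (.leaf 35262046587711886115))))) (.node (.node (.node (.node (.leaf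 1816780277998531779) (.leaf 20261396531361660585)) (.node (.leaf 11040152314853307843) (.leaf 29475743776775663529))) (.node (.node (.leaf 6428466296432199331) (.leaf 24887688462307756233)) (.node (.leaf 15651838333286979491) (.leaf 34102035707721763273)))) (.node (.node (.node (.leaf 4120495466865802761) (.leaf 22585548334403730531)) (.node (.leaf 13343867503720574729) (.leaf 31799895579817454947))) (.node (.node (.leaf 8732181485276402793) (.leaf 27175802670775828995)) (.node (.leaf 17955553522131178857) (.leaf 36390149916189840131)))))))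

/-- Part of a collection table. -/
def tblHe_0_3 : Trie := (.node (.node (.node (.node (.node (.node (.leaf 108098761916123378) (.leaf 18563406115719946136)) (.node (.leaf 9331470798770899442) (.leaf 27795767759643428504))) (.node (.node (.leaf 4719784780346669714) (.leaf 23189671658362396152)) (.node (.leaf 13943156817201441682) (.leaf 32422068486658213112)))) (.node (.node (.node (.leaf 2422505051216764728) (.leaf 20894846029329539154)) (.node (.leaf 11645877088071534136) (.leaf 30109228459115635026))) (.node (.node (.leaf 7034191069668013400) (.leaf 25487369759605255730)) (.node (.leaf 16257563106522791000) (.leaf 34701717005019234098))))) (.node (.node (.node (.node (.leaf 1261020266525617362) (.leaf 19715181929736394104)) (.node (.leaf 10484392303380393426) (.leaf 28947578758031940728))) (.node (.node (.leaf 5872706284950904498) (.leaf 24343734455385558808)) (.node (.leaf 15096078321805676466) (.leaf 33576096099309291032)))) (.node (.node (.node (.leaf 3574280865268600280) (.leaf 22022984542963334258)) (.node (.leaf 12797652902123373784)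 (.leaf 31237331788377308530))) (.node (.node (.leaf 8185966883685527480) (.leaf 26656084648660674066)) (.node (.leaf 17409338920540305080) (.leaf 35870467078447015698)))))) (.node (.node (.node (.node (.node (.leaf 693074392113992868) (.leaf 19134370936105950254)) (.node (.leaf 9916446428968768932) (.leaf 28366732580029406510))) (.node (.node (.leaf 5304760410536147972) (.leaf 23751638074331080846)) (.node (.leaf 14528132447390924036) (.leaf 32984034902097897870)))) (.node (.node (.node (.leaf 2993469871608033870) (.leaf 21456005759684889284)) (.node (.leaf 12216841908462805838) (.leaf 30688402588508916676))) (.node (.node (.leaf 7605155890021124846) (.leaf 26073378451790167652)) (.node (.leaf 16828527926875905006) (.leaf 35305740095713378148))))) (.node (.node (.node (.node (.leaf 1845995896715460164) (.leaf 20308647154899807246)) (.node (.leaf 11069367933570232132) (.leaf 29541043983195352334))) (.node (.node (.leaf 6457681915161315044) (.leaf 24914752052313746606)) (.node (.leaf 15681053952016095204) (.leaf 34147113696782740910))))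 (.node (.node (.node (.leaf 4167746090407051886) (.leaf 22597716644258831396)) (.node (.leaf 13391118127261832046) (.leaf 31830078287637306660))) (.node (.node (.leaf 8779432108847692494) (.leaf 27205967786933468292)) (.node (.leaf 18002804145702464462) (.leaf 36438364615229287812)))))))

/-- Part of a collection table. -/
def tblHe_0_4 : Trie := (.node (.node (.node (.node (.node (.node (.leaf 144115188075856377) (.leaf 18608640838781554323)) (.node (.leaf 9367487224930633977) (.leaf 27823023268567621523))) (.node (.node (.leaf 4755801206518997913) (.leaf 23234941565801434355)) (.node (.leaf 13979173243373779609) (.leaf 32449288811215166963)))) (.node (.node (.node (.leaf 2467739774286745139) (.leaf 20930880050368145753)) (.node (.leaf 11691111811141525299) (.leaf 30145262480154206297))) (.node (.node (.leaf 7079425792729867347) (.leaf 25523403780656342841)) (.node (.leaf 16302797829584643411) (.leaf 34737751026070355513))))) (.node (.node (.node (.node (.leaf 1297036692699231705) (.leaf 19760456235221828723)) (.node (.leaf 10520408729554009305)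 (.leaf 28974803480635802995))) (.node (.node (.leaf 5908722711111948217) (.leaf 24388973579174813203)) (.node (.leaf 15132094747966721721) (.leaf 33603356008961154835)))) (.node (.node (.node (.leaf 3619555170748468435) (.leaf 22059000969139893625)) (.node (.leaf 12842927207603244499) (.leaf 31273348214553902201))) (.node (.node (.leaf 8231241189169577651) (.leaf 26692101077513695001)) (.node (.leaf 17454613226024349619) (.leaf 35906483507299509785)))))) (.node (.node (.node (.node (.node (.leaf 738309054383736207) (.leaf 19171497469280977157)) (.node (.leaf 9961681091238513807) (.leaf 28403859113732954117))) (.node (.node (.leaf 5349995072798534959) (.leaf 23786574381230222757)) (.node (.leaf 14573367109653308463) (.leaf 33018971209525765285)))) (.node (.node (.node (.leaf 3030596404779941733) (.leaf 21500818900041365487)) (.node (.leaf 12253968441634711141) (.leaf 30715201329827426031))) (.node (.node (.leaf 7642282423228946373) (.leaf 26118191593129273167)) (.node (.leaf 16865654460083719877) (.leaf 35332538838014766671)))))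 (.node (.node (.node (.node (.leaf 1891230558977617775) (.leaf 20343579064439398693)) (.node (.leaf 11114602595832395375) (.leaf 29575975893263706149))) (.node (.node (.leaf 6502916577426884559) (.leaf 24951874187847696773)) (.node (.leaf 15726288614281666255) (.leaf 34184235831770912901)))) (.node (.node (.node (.leaf 4202677999933005637) (.leaf 22642547377189821711)) (.node (.leaf 13426050036787775045) (.leaf 31856894622603826191))) (.node (.node (.leaf 8814364018353715173) (.leaf 27250798521819778479)) (.node (.leaf 18037736055208488677) (.leaf 36465180951060333743)))))))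

/-- Part of a collection table. -/
def tblHe_0_5 : Trie := (.node (.node (.node (.node (.node (.node (.leaf 180144032543734174) (.leaf 18641482395769030932)) (.node (.leaf 9403516069398507678) (.leaf 27855829641711763476))) (.node (.node (.leaf 4791830050983678270) (.leaf 23249830295673873844)) (.node (.leaf 14015202087838455870) (.leaf 32464177541087882420)))) (.node (.node (.node (.leaf 2500581331267893108) (.leaf 20959028056850758654)) (.node (.leaf 11723953368122666612) (.leaf 30191424885691835134))) (.node (.node (.leaf 7112267349717950420) (.leaf 25565044993582329694)) (.node (.leaf 16335639386572719828) (.leaf 34797441821877876318))))) (.node (.node (.node (.node (.leaf 1333065537163023230) (.leaf 19811277004504954164)) (.node (.leaf 10556437574017796734) (.leaf 29025659434291293236))) (.node (.node (.leaf 5944751555597368286) (.leaf 24426380306117958036)) (.node (.leaf 15168123592452137694) (.leaf 33640762736432529556)))) (.node (.node (.node (.leaf 3670375940015328084) (.leaf 22087148976523548958)) (.node (.leaf 12893747976870105684)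 (.leaf 31319510620447277086))) (.node (.node (.leaf 8282061958454125556) (.leaf 26702252276993066430)) (.node (.leaf 17505433995308907252) (.leaf 35934613920388320446)))))) (.node (.node (.node (.node (.node (.leaf 771173694524291880) (.leaf 19227802103519025026)) (.node (.leaf 9994545731379061288) (.leaf 28460198932343328386))) (.node (.node (.leaf 5382859712975524168) (.leaf 23822568836342129122)) (.node (.leaf 14606231749830301768) (.leaf 33054965664109230306)))) (.node (.node (.node (.leaf 3086901039015843618) (.leaf 21523409474899852168)) (.node (.leaf 12310273075870617122) (.leaf 30737791904140403336))) (.node (.node (.leaf 7698587057434066242) (.leaf 26156527174368792040)) (.node (.leaf 16921959094288839746) (.leaf 35370909604700148968))))) (.node (.node (.node (.node (.leaf 1924095199155163912) (.leaf 20379595509652885858)) (.node (.leaf 11147467236009937416) (.leaf 29611957153576618082))) (.node (.node (.leaf 6535781217557133672) (.leaf 24976675614756568834)) (.node (.leaf 15759153254411907176) (.leaf 34209037258680018434))))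 (.node (.node (.node (.leaf 4238694445155699138) (.leaf 22692159549572387752)) (.node (.leaf 13462066482010472642) (.leaf 31906506794986392232))) (.node (.node (.leaf 8850380463568399266) (.leaf 27284665687237588424)) (.node (.leaf 18073752500423176866) (.leaf 36499012932651564232)))))))

/-- Part of a collection table. -/
def tblHe_0_6 : Trie := (.node (.node (.node (.node (.node (.node (.leaf 216172898827427997) (.leaf 18668448881829612043)) (.node (.leaf 9439544935682204061) (.leaf 27900845710125193995))) (.node (.node (.leaf 4827858917259003965) (.leaf 23276735210975762795)) (.node (.leaf 14051230954113780029) (.leaf 32509096855444754539)))) (.node (.node (.node (.leaf 2527547817320145835) (.leaf 20997735412504284925)) (.node (.leaf 11750919854174927531) (.leaf 30212082658446499837))) (.node (.node (.leaf 7139233835777523915) (.leaf 25583494946965410397)) (.node (.leaf 16362605872632299979) (.leaf 34815856590343607133))))) (.node (.node (.node (.node (.leaf 1369094403438578301) (.leaf 19838243492524834027)) (.node (.leaf 10592466440293358461)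 (.leaf 29070605136448323051))) (.node (.node (.leaf 5980780421881049821) (.leaf 24453329199688906635)) (.node (.leaf 15204152458735821789) (.leaf 33685726028529462923)))) (.node (.node (.node (.leaf 3697342428002092363) (.leaf 22150639323972502557)) (.node (.leaf 12920714464856869963) (.leaf 31365021753229837597))) (.node (.node (.leaf 8309028446439958059) (.leaf 26736398857928464573)) (.node (.leaf 17532400483294738219) (.leaf 35968795686752246205)))))) (.node (.node (.node (.node (.node (.leaf 798139561749734391) (.leaf 19270196645207309953)) (.node (.leaf 10021511598604516087) (.leaf 28484543890076299137))) (.node (.node (.leaf 5409825580167963223) (.leaf 23876213581813040353)) (.node (.leaf 14633197617022743383) (.leaf 33108575225736496609)))) (.node (.node (.node (.leaf 3129295580712500769) (.leaf 21556832286815456407)) (.node (.leaf 12352667617567272737) (.leaf 30771214716073074071))) (.node (.node (.leaf 7740981599122052161) (.leaf 26185463977299247415)) (.node (.leaf 16964353635976828225) (.leaf 35399811222168000567)))))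 (.node (.node (.node (.node (.leaf 1951061066346968343) (.leaf 20406165880174001249)) (.node (.leaf 11174433103201745943) (.leaf 29620548309431336289))) (.node (.node (.leaf 6562747084765985975) (.leaf 25005506581362918913)) (.node (.leaf 15786119121620762039) (.leaf 34237903409658468097)))) (.node (.node (.node (.leaf 4265264815655580865) (.leaf 22709771383608063607)) (.node (.leaf 13488636852510356929) (.leaf 31924118628493830007))) (.node (.node (.leaf 8876950834089248417) (.leaf 27338367889696488407)) (.node (.leaf 18100322870944028577) (.leaf 36552750318954066647)))))))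

/-- Part of a collection table. -/
def tblHe_0_7 : Trie := (.node (.node (.node (.node (.node (.node (.leaf 252214015066113994) (.leaf 18733138323211244892)) (.node (.leaf 9475586051920895690) (.leaf 27947485568625495132))) (.node (.node (.leaf 4863900033479132778) (.leaf 23332391063850279740)) (.node (.leaf 14087272070333912938) (.leaf 32564787891617626684)))) (.node (.node (.node (.leaf 2592237258706750972) (.leaf 21024767128500146346)) (.node (.leaf 11815609295561524476) (.leaf 30257128771878371754))) (.node (.node (.leaf 7203923277126823836) (.leaf 25619533861715384586)) (.node (.leaf 16427295313981601436) (.leaf 34851895505093857290))))) (.node (.node (.node (.node (.leaf 1405135519658529066) (.leaf 19862396137320897468)) (.node (.leaf 10628507556513306666) (.leaf 29076778566578475708))) (.node (.node (.leaf 6016821538078562442) (.leaf 24468439461637769692)) (.node (.leaf 15240193574933338506) (.leaf 33700801105561223388)))) (.node (.node (.node (.leaf 3721495072833411868) (.leaf 22177671040935273034)) (.node (.leaf 12944867109688181276)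 (.leaf 31410067869230854986))) (.node (.node (.leaf 8333181091235901820) (.leaf 26772437774784871402)) (.node (.leaf 17556553128090679420) (.leaf 36004834603080442602)))))) (.node (.node (.node (.node (.node (.leaf 862853363332516416) (.leaf 19289285057750099766)) (.node (.leaf 10086225400187296576) (.leaf 28503667488081706550))) (.node (.node (.leaf 5474539381773939424) (.leaf 23897624162503027798)) (.node (.leaf 14697911418628711392) (.leaf 33112006592289373526)))) (.node (.node (.node (.leaf 3148383993250039446) (.leaf 21609269353081478176)) (.node (.leaf 12371756030104819606) (.leaf 30823651782867815712))) (.node (.node (.leaf 7760070011698523638) (.leaf 26197368646536115328)) (.node (.leaf 16983442048553297142) (.leaf 35429730290459604352))))) (.node (.node (.node (.node (.leaf 2015774867953869984) (.leaf 20459110455505631702)) (.node (.leaf 11239146904808646048) (.leaf 29673457700919636182))) (.node (.node (.leaf 6627460886386494464) (.leaf 25074204960096046774)) (.node (.leaf 15850832923241270528) (.leaf 34288552204964761526))))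 (.node (.node (.node (.leaf 4318209391026149494) (.leaf 22762208448846842560)) (.node (.leaf 13541581427880925558) (.leaf 31976555693715557312))) (.node (.node (.leaf 8929895409454555926) (.leaf 27350272559732149856)) (.node (.leaf 18153267446309337622) (.leaf 36582669387482435424)))))))

/-- Part of a collection table. -/
def tblHe_0_8 : Trie := (.node (.node (.node (.node (.node (.node (.leaf 288230376151712565) (.leaf 18763874563790301567)) (.node (.leaf 9511602413006494261) (.leaf 27978256993030856831))) (.node (.node (.leaf 4899916394605586773) (.leaf 23358650094170751775)) (.node (.leaf 14123288431460360277) (.leaf 32572997340113209887)))) (.node (.node (.node (.leaf 2622973499305210335) (.leaf 21067083640252781461)) (.node (.leaf 11846345536159987935) (.leaf 30299445284176235157))) (.node (.node (.leaf 7234659517738898367) (.leaf 25657399551203359221)) (.node (.leaf 16458031554593671871) (.leaf 34889796379498934517))))) (.node (.node (.node (.node (.leaf 1441151880784997141) (.leaf 19915689959155832735)) (.node (.leaf 10664523917639774741)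 (.leaf 29130037205115100831))) (.node (.node (.leaf 6052837899187470709) (.leaf 24512682105112970751)) (.node (.leaf 15276209936042248309) (.leaf 33727064534370307327)))) (.node (.node (.node (.leaf 3774788894669428543) (.leaf 22195266133678251957)) (.node (.leaf 12998160931524202047) (.leaf 31427662961973548725))) (.node (.node (.leaf 8386474913103904095) (.leaf 26826070458831444437)) (.node (.leaf 17609846949958677599) (.leaf 36058432102754930901)))))) (.node (.node (.node (.node (.node (.leaf 893542506738454947) (.leaf 19334753569913365449)) (.node (.leaf 10116914543593232547) (.leaf 28567115214382082761))) (.node (.node (.leaf 5505228525152237827) (.leaf 23943075082575136617)) (.node (.leaf 14728600562007011331) (.leaf 33175471910870687337)))) (.node (.node (.node (.leaf 3193852505439112617) (.leaf 21646481991698087875)) (.node (.leaf 12417224542293886121) (.leaf 30860864420955666115))) (.node (.node (.leaf 7805538523861280009) (.leaf 26261602884266154851)) (.node (.leaf 17028910560716057609) (.leaf 35475950129680122467)))))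 (.node (.node (.node (.node (.leaf 2046464011331812163) (.leaf 20468554567888820201)) (.node (.leaf 11269836048186581571) (.leaf 29700951395639107305))) (.node (.node (.leaf 6658150029752243171) (.leaf 25083605093045176137)) (.node (.leaf 15881522066607016675) (.leaf 34315966736968670793)))) (.node (.node (.node (.leaf 4327653503405144457) (.leaf 22788210466563739939)) (.node (.leaf 13551025540259917961) (.leaf 32002557711448987683))) (.node (.node (.leaf 8939339521836732713) (.leaf 27394209811076774275)) (.node (.leaf 18162711558691510313) (.leaf 36608592240862834819)))))))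

/-- Part of a collection table. -/
def tblHe_0_9 : Trie := (.node (.node (.node (.node (.node (.node (.leaf 324271544029923954) (.leaf 18793049015227892696)) (.node (.leaf 9547643580884704114) (.leaf 28025410659151354584))) (.node (.node (.leaf 4935957562472395474) (.leaf 23408152315701015416)) (.node (.leaf 14159329599327167442) (.leaf 32640513959079246456)))) (.node (.node (.node (.leaf 2652147950729276856) (.leaf 21111018811878252562)) (.node (.leaf 11875519987584050360) (.leaf 30325401241664348434))) (.node (.node (.leaf 7263833969143039256) (.leaf 25719287548279048370)) (.node (.leaf 16487206005997816856) (.leaf 34933669977536383410))))) (.node (.node (.node (.node (.leaf 1477193048652293266) (.leaf 19929062228168296440)) (.node (.leaf 10700565085507069330) (.leaf 29161459056992325368))) (.node (.node (.leaf 6088879067083869234) (.leaf 24537410129617860440)) (.node (.leaf 15312251103938645298) (.leaf 33769806957913435736)))) (.node (.node (.node (.leaf 3788161163685407128) (.leaf 22239157325607633650)) (.node (.leaf 13011533200540180632)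 (.leaf 31453504570476381170))) (.node (.node (.leaf 8399847182116995384) (.leaf 26856512425227657810)) (.node (.leaf 17623219218971772984) (.leaf 36070859670641668946)))))) (.node (.node (.node (.node (.node (.leaf 922757822555008484) (.leaf 19379809267006376878)) (.node (.leaf 10146129859409781988) (.leaf 28594191696792474286))) (.node (.node (.leaf 5534443840996036484) (.leaf 23976827800263821774)) (.node (.leaf 14757815877850814084) (.leaf 33191210230049640654)))) (.node (.node (.node (.leaf 3238908202502146830) (.leaf 21658716236648460612)) (.node (.leaf 12462280239356924430) (.leaf 30891077880571951172))) (.node (.node (.leaf 7850594220954444142) (.leaf 26291754771631422244)) (.node (.leaf 17073966257809221742) (.leaf 35524116415554904612))))) (.node (.node (.node (.node (.leaf 2075679327175219652) (.leaf 20533836880783740238)) (.node (.leaf 11299051364029993156) (.leaf 29748184125652489294))) (.node (.node (.leaf 6687365345587952548) (.leaf 25128665186670474030)) (.node (.leaf 15910737382442721956) (.leaf 34343012432629459502))))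 (.node (.node (.node (.leaf 4392935816290293230) (.leaf 22827351962649867620)) (.node (.leaf 13616307853145070830) (.leaf 32059748790399908964))) (.node (.node (.leaf 9004621834731304846) (.leaf 27419937264823061252)) (.node (.leaf 18227993871586078350) (.leaf 36652334093663863300)))))))

/-- Part of a collection table. -/
def tblHe_0_10 : Trie := (.node (.node (.node (.node (.node (.node (.leaf 360317933763414897) (.leaf 18838026452189252039)) (.node (.leaf 9583689970618192497) (.leaf 28052373697602982087))) (.node (.node (.leaf 4972003952214533073) (.leaf 23453103366241172135)) (.node (.leaf 14195375989069314769) (.leaf 32667485795499027367)))) (.node (.node (.node (.leaf 2697125387709524071) (.leaf 21140732501733612817)) (.node (.leaf 11920497424564300135) (.leaf 30355079747147617297))) (.node (.node (.leaf 7308811406137987847) (.leaf 25728743836755085745)) (.node (.leaf 16532183442992761351) (.leaf 34961105480678297777))))) (.node (.node (.node (.node (.leaf 1513239438394176913) (.leaf 19974066057130866471)) (.node (.leaf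 10736611475248954513) (.leaf 29188448486916927015))) (.node (.node (.leaf 6124925456817380657) (.leaf 24582361180475508807)) (.node (.leaf 15348297493672154161) (.leaf 33796708425344227655)))) (.node (.node (.node (.leaf 3833164992630806151) (.leaf 22293636413598784497)) (.node (.leaf 13056537029485578119) (.leaf 31508018843384840945))) (.node (.node (.leaf 8444851011045735911) (.leaf 26881647748626974545)) (.node (.leaf 17668223047900509415) (.leaf 36114044576922558033)))))) (.node (.node (.node (.node (.node (.leaf 967740957912731707) (.leaf 19413146643042202285)) (.node (.leaf 10191112994767507771) (.leaf 28627493888456172461))) (.node (.node (.leaf 5579426976339071387) (.leaf 24021494544487354573)) (.node (.leaf 14802799013193848987) (.leaf 33253856188955824589)))) (.node (.node (.node (.leaf 3272245578546344461) (.leaf 21700869983073480539)) (.node (.leaf 12495617615401116429) (.leaf 30915217229032994395))) (.node (.node (.leaf 7883931596956948589) (.leaf 26329396123380196091)) (.node (.leaf 17107303633811724653) (.leaf 35543778552621032443)))))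 (.node (.node (.node (.node (.leaf 2120662462518530779) (.leaf 20551442443890201677)) (.node (.leaf 11344034499373302747) (.leaf 29765824873676297549))) (.node (.node (.leaf 6732348480955927419) (.leaf 25148452182112881197)) (.node (.leaf 15955720517810705019) (.leaf 34380849009862925101)))) (.node (.node (.node (.leaf 4410541379370802413) (.leaf 22853773897515819451)) (.node (.leaf 13633913416225578477) (.leaf 32068156326756378811))) (.node (.node (.leaf 9022227397805534861) (.leaf 27482335218687211547)) (.node (.leaf 18245599434660315021) (.leaf 36696682464646199579)))))))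

/-- Part of a collection table. -/
def tblHe_0_11 : Trie := (.node (.node (.node (.node (.node (.node (.leaf 396321440904842246) (.leaf 18843278765561605808)) (.node (.leaf 9619693477759618310) (.leaf 28075675594385633200))) (.node (.node (.leaf 5008007459332230566) (.leaf 23469649861401245904)) (.node (.leaf 14231379496187004070) (.leaf 32683997106815220176)))) (.node (.node (.node (.leaf 2702377701065747984) (.leaf 21167722213162634086)) (.node (.leaf 11925749737920528144) (.leaf 30400083857085842022))) (.node (.node (.leaf 7314063719509902448) (.leaf 25764811116734873286)) (.node (.leaf 16537435756364678512) (.leaf 34997172760658325446))))) (.node (.node (.node (.node (.leaf 1549242945511689958) (.leaf 20022111361217853520)) (.node (.leaf 10772614982366470118) (.leaf 29254473005141309776))) (.node (.node (.leaf 6160928963963770694) (.leaf 24637188274269332016)) (.node (.leaf 15384301000818544198) (.leaf 33851570703526945584)))) (.node (.node (.node (.leaf 3881210296740294896) (.leaf 22320626127079121286)) (.node (.leaf 13104582333595070960)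 (.leaf 31553022954829686918))) (.node (.node (.leaf 8492896315166622352) (.leaf 26917715029413397542)) (.node (.leaf 17716268352021402512) (.leaf 36150111857180738854)))))) (.node (.node (.node (.node (.node (.leaf 972993511419145836) (.leaf 19441286647850193146)) (.node (.leaf 10196365548273925996) (.leaf 28673648291773399546))) (.node (.node (.leaf 5584679529862911692) (.leaf 24056389947842092954)) (.node (.leaf 14808051566717683660) (.leaf 33288751592310556314)))) (.node (.node (.node (.leaf 3300385583327209818) (.leaf 21754116221494921228)) (.node (.leaf 12523757620181983322) (.leaf 30968498650735761676))) (.node (.node (.leaf 7912071601765026362) (.leaf 26339884551019820204)) (.node (.leaf 17135443638619806522) (.leaf 35572246195488290220))))) (.node (.node (.node (.node (.leaf 2125915016041758860) (.leaf 20577299863551828506)) (.node (.leaf 11349287052896534924) (.leaf 29809696691302114074))) (.node (.node (.leaf 6737601034464962604) (.leaf 25185647764379346298)) (.node (.leaf 15960973071319738668) (.leaf 34418044592674925690))))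 (.node (.node (.node (.leaf 4436398799050705850) (.leaf 22907055316372227820)) (.node (.leaf 13659770835905483450) (.leaf 32121402561786238956))) (.node (.node (.leaf 9048084817466714330) (.leaf 27492788464297689676)) (.node (.leaf 18271456854321490394) (.leaf 36725185292593238860)))))))

/-- Part of a collection table. -/
def tblHe_0_12 : Trie := (.node (.node (.node (.node (.node (.node (.leaf 432380200423965965) (.leaf 18888519882981020763)) (.node (.leaf 9655752237278743565) (.leaf 28102902313295320411))) (.node (.node (.leaf 5044066218859728045) (.leaf 23496885377725876795)) (.node (.leaf 14267438255714504109) (.leaf 32729247021649337147)))) (.node (.node (.node (.leaf 2747618818460507387) (.leaf 21202663921826868845)) (.node (.leaf 11970990855315283451) (.leaf 30417011167786135405))) (.node (.node (.leaf 7359304836895239835) (.leaf 25828947056888758221)) (.node (.leaf 16582676873750019995) (.leaf 35043294301774280397))))) (.node (.node (.node (.node (.leaf 1585301705038923757) (.leaf 20067356878158791355)) (.node (.leaf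 10808673741893705453) (.leaf 29281704123572802491))) (.node (.node (.leaf 6196987723477567053) (.leaf 24664428187317774555)) (.node (.leaf 15420359760332347213) (.leaf 33896825015084591579)))) (.node (.node (.node (.leaf 3926455813662933531) (.leaf 22355567834885399693)) (.node (.leaf 13149827850517713691) (.leaf 31569950264671221133))) (.node (.node (.leaf 8538141832073554043) (.leaf 26981850970309321005)) (.node (.leaf 17761513868928330107) (.leaf 36196233400095385645)))))) (.node (.node (.node (.node (.node (.leaf 1018253391849079655) (.leaf 19477323345258641937)) (.node (.leaf 10241625428703861351) (.leaf 28709684989182376721))) (.node (.node (.leaf 5629939410288929735) (.leaf 24092426646850338161)) (.node (.leaf 14853311447143707335) (.leaf 33324788291302270065)))) (.node (.node (.node (.leaf 3336422280757515185) (.leaf 21778087710752985351)) (.node (.leaf 12559794317612288689) (.leaf 30992470140539049991))) (.node (.node (.leaf 7948108299173785809) (.leaf 26397703407654239655)) (.node (.leaf 17171480336028561873) (.leaf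 35630065051577693351))))) (.node (.node (.node (.node (.leaf 2171174896467656071) (.leaf 20613336560404394225)) (.node (.leaf 11394546933322429575) (.leaf 29845733388171735537))) (.node (.node (.leaf 6782860914907632935) (.leaf 25221684462161659793)) (.node (.leaf 16006232951762410535) (.leaf 34454081290457243281)))) (.node (.node (.node (.leaf 4472435495931464017) (.leaf 22931026806921401319)) (.node (.leaf 13695807532786237521) (.leaf 32145374052864133863))) (.node (.node (.leaf 9084121514352519729) (.leaf 27550607318557836103)) (.node (.leaf 18307493551207299889) (.leaf 36783004147381865031)))))))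

/-- Part of a collection table. -/
def tblHe_0_13 : Trie := (.node (.node (.node (.node (.node (.node (.leaf 468402712868942426) (.leaf 18936317617930793740)) (.node (.leaf 9691774749723714394) (.leaf 28168679261308992012))) (.node (.node (.leaf 5080088731311655674) (.leaf 23553655124465740908)) (.node (.leaf 14303460768166435834) (.leaf 32786051952761285996)))) (.node (.node (.node (.leaf 2795416553438073516) (.leaf 21229679236690995258)) (.node (.leaf 12018788590292845484) (.leaf 30462040880085973306))) (.node (.node (.leaf 7407102571879217612) (.leaf 25864978366463327386)) (.node (.leaf 16630474608733991116) (.leaf 35079325611348848026))))) (.node (.node (.node (.node (.leaf 1621324217490513082) (.leaf 20074635408202522092)) (.node (.leaf 10844696254345289146) (.leaf 29307032235969578220))) (.node (.node (.leaf 6233010235914761242) (.leaf 24680669938005618316)) (.node (.leaf 15456382272769537306) (.leaf 33913031581929111436)))) (.node (.node (.node (.leaf 3933734343688191052) (.leaf 22382583149241182938)) (.node (.leaf 13157106380542967116)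 (.leaf 31614979978082270170))) (.node (.node (.leaf 8545420362117629740) (.leaf 27017882279559522938)) (.node (.leaf 17768792398972411436) (.leaf 36232264709890845562)))))) (.node (.node (.node (.node (.node (.leaf 1066062497644285200) (.leaf 19521244224236545126)) (.node (.leaf 10289434534499058704) (.leaf 28735626653494404454))) (.node (.node (.leaf 5677748516080075952) (.leaf 24129512961994661382)) (.node (.leaf 14901120552934852016) (.leaf 33361909790290235142)))) (.node (.node (.node (.leaf 3380343159722290374) (.leaf 21829379787077425776)) (.node (.leaf 12603715196577066438) (.leaf 31043762216863517552))) (.node (.node (.leaf 7992029178151771814) (.leaf 26426486281258970064)) (.node (.leaf 17215401215006543782) (.leaf 35640833526672978640))))) (.node (.node (.node (.node (.leaf 2218984002259275760) (.leaf 20659518034292630150)) (.node (.leaf 11442356039114053360) (.leaf 29873865280235086726))) (.node (.node (.leaf 6830670020688514640) (.leaf 25256606938383205606)) (.node (.leaf 16054042057543294800) (.leaf 34488968582306420198))))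 (.node (.node (.node (.leaf 4518616969797820966) (.leaf 22982318883305061520)) (.node (.leaf 13741989006652601126) (.leaf 32196666128718785936))) (.node (.node (.leaf 9130302988240930886) (.leaf 27579390193142547760)) (.node (.leaf 18353675025095706950) (.leaf 36793772622928612400)))))))

/-- Part of a collection table. -/
def tblHe_0_14 : Trie := (.node (.node (.node (.node (.node (.node (.leaf 504413986421584729) (.leaf 18981316289294488627)) (.node (.leaf 9727786023276358233) (.leaf 28195698719609029939))) (.node (.node (.leaf 5116100004872428537) (.leaf 23598592225135773843)) (.node (.leaf 14339472041727197945) (.leaf 32812974654922119571)))) (.node (.node (.node (.leaf 2840415224796510803) (.leaf 21266377162810021177)) (.node (.leaf 12063787261651282771) (.leaf 30480724408752475193))) (.node (.node (.leaf 7452101243242103539) (.leaf 25883732264032770457)) (.node (.leaf 16675473280096883699) (.leaf 35098079509446492313))))) (.node (.node (.node (.node (.leaf 1657335491051572665) (.leaf 20119616489868148755)) (.node (.leaf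 10880707527906346169) (.leaf 29333963735282123027))) (.node (.node (.leaf 6269021509467415833) (.leaf 24725633426221541555)) (.node (.leaf 15492393546322193433) (.leaf 33939980671106787763)))) (.node (.node (.node (.leaf 3978715425371221619) (.leaf 22444081660972263385)) (.node (.leaf 13202087462226001779) (.leaf 31658464090758332121))) (.node (.node (.leaf 8590401443782219475) (.leaf 27052350397370668921)) (.node (.leaf 17813773480636991443) (.leaf 36266732827685248633)))))) (.node (.node (.node (.node (.node (.leaf 1110992720148805103) (.leaf 19552049637653140837)) (.node (.leaf 10334364757003582703) (.leaf 28784411281047870565))) (.node (.node (.leaf 5722678738575153039) (.leaf 24146877943530334981)) (.node (.leaf 14946050775429926543) (.leaf 33379239587982303749)))) (.node (.node (.node (.leaf 3411148573154348485) (.leaf 21864493563327977807)) (.node (.leaf 12634520610009121989) (.leaf 31078875993642549327))) (.node (.node (.leaf 8022834591567081381) (.leaf 26454827066718381871)) (.node (.leaf 17246206628421858981) (.leaf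 35669209495976246831))))) (.node (.node (.node (.node (.leaf 2263914224755376591) (.leaf 20703869431131908997)) (.node (.leaf 11487286261610154191) (.leaf 29936266259427488389))) (.node (.node (.leaf 6875600243184886703) (.leaf 25300887964375514597)) (.node (.leaf 16098972280039668399) (.leaf 34533284792670807269)))) (.node (.node (.node (.leaf 4562968366628727589) (.leaf 23001700849749411183)) (.node (.leaf 13786340403483505189) (.leaf 32216048095163386991))) (.node (.node (.leaf 9174654385079959877) (.leaf 27632487582751099663)) (.node (.leaf 18398026421934737477) (.leaf 36846834828165108239)))))))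

/-- Part of a collection table. -/
def tblHe_0_15 : Trie := (.node (.node (.node (.node (.node (.node (.leaf 540493318853357054) (.leaf 19005148356400097652)) (.node (.leaf 9763865355708130558) (.leaf 28219495601814102132))) (.node (.node (.leaf 5152179337273380766) (.leaf 23631493065548598036)) (.node (.leaf 14375551374128158366) (.leaf 32845875495334695444)))) (.node (.node (.node (.leaf 2864247291911303636) (.leaf 21294526730390325598)) (.node (.leaf 12087619328766081236) (.leaf 30526888373768798302))) (.node (.node (.leaf 7475933310349153204) (.leaf 25925375037283144510)) (.node (.leaf 16699305347203926708) (.leaf 35157771865050483262))))) (.node (.node (.node (.node (.leaf 1693414823452596702) (.leaf 20156928568471436180)) (.node (.leaf 10916786860307370206) (.leaf 29371310998257525396))) (.node (.node (.leaf 6305100841886268350) (.leaf 24785560259551973876)) (.node (.leaf 15528472878741037758) (.leaf 33999907504965949684)))) (.node (.node (.node (.leaf 4016027503968254772) (.leaf 22472231225435918718)) (.node (.leaf 13239399540823024180)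 (.leaf 31704628054259701886))) (.node (.node (.leaf 8627713522420011348) (.leaf 27062503156792998686)) (.node (.leaf 17851085559274788948) (.leaf 36294864800171225630)))))) (.node (.node (.node (.node (.node (.leaf 1134895632892447112) (.leaf 19567824618093584674)) (.node (.leaf 10358267669747220616) (.leaf 28800221445843626018))) (.node (.node (.leaf 5746581651315630376) (.leaf 24182875141773068674)) (.node (.leaf 14969953688170407976) (.leaf 33415236785696555138)))) (.node (.node (.node (.leaf 3426923553591418690) (.leaf 21898340952590234600)) (.node (.leaf 12650295590446188098) (.leaf 31112723381831072488))) (.node (.node (.leaf 8038609572041226210) (.leaf 26513461844445946696)) (.node (.leaf 17261981608895999714) (.leaf 35727809089859926600))))) (.node (.node (.node (.node (.leaf 2287817137495237480) (.leaf 20739884222726695170)) (.node (.leaf 11511189174350019176) (.leaf 29972245866121945090))) (.node (.node (.leaf 6899503155911478216) (.leaf 25348205734717046178)) (.node (.leaf 16122875192766255816) (.leaf 34580602563012621474))))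 (.node (.node (.node (.leaf 4598983158240286562) (.leaf 23040051835536973064)) (.node (.leaf 13822355195095060066) (.leaf 32254399080405439496))) (.node (.node (.leaf 9210669176674631618) (.leaf 27646051180681546152)) (.node (.leaf 18434041213529401026) (.leaf 36860433610467606696)))))))

/-- Part of a collection table. -/
def tblHe_1_0 : Trie := (.node (.node (.node (.node (.node (.node (.leaf 2) (.leaf 18014398509482738)) (.node (.leaf 9007199254741250) (.leaf 27021598309762034))) (.node (.node (.leaf 4503599627370658) (.leaf 22517998486628178)) (.node (.leaf 13510798882111906) (.leaf 31525198270131794)))) (.node (.node (.node (.leaf 2251799813685394) (.leaf 20266198638339938)) (.node (.leaf 11258999068426642) (.leaf 29273398421843554))) (.node (.node (.leaf 6755399445258546) (.leaf 24769798608498626)) (.node (.leaf 15762598700001330) (.leaf 33776997334509250))))) (.node (.node (.node (.node (.leaf 1125899906843362) (.leaf 19140299969411026)) (.node (.leaf 10133099161588706) (.leaf 28147499752632018))) (.node (.node (.leaf 5629499558906434)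 (.leaf 23643899272620658)) (.node (.leaf 14636698813651778) (.leaf 32651099072625522)))) (.node (.node (.node (.leaf 3377701264438706) (.leaf 21392100014069122)) (.node (.leaf 12384900519181490) (.leaf 30399298740329602))) (.node (.node (.leaf 7881300905450514) (.leaf 25895699454724386)) (.node (.leaf 16888500160191762) (.leaf 34902899254722594)))))) (.node (.node (.node (.node (.node (.leaf 562949953421794) (.leaf 18577349485865426)) (.node (.leaf 9570149208164578) (.leaf 27584548195627218))) (.node (.node (.leaf 5066549596549762) (.leaf 23080949453079474)) (.node (.leaf 14073748851286914) (.leaf 32088149253327538)))) (.node (.node (.node (.leaf 2814750774097010) (.leaf 20829149138013506)) (.node (.leaf 11821950028838258) (.leaf 29836347864519746))) (.node (.node (.leaf 7318350404640274) (.leaf 25332750038421026)) (.node (.leaf 16325549659377426) (.leaf 34339948764925730))))) (.node (.node (.node (.node (.leaf 1688849876792770) (.leaf 19703249342449202)) (.node (.leaf 10696049131535554) (.leaf 28710448051935026))) (.node (.node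 (.leaf 6192449489487522) (.leaf 24206849409535058)) (.node (.leaf 15199648744232866) (.leaf 33214049209535826)))) (.node (.node (.node (.leaf 3940650629836690) (.leaf 21955049430857058)) (.node (.leaf 12947849884579474) (.leaf 30962249230859362))) (.node (.node (.leaf 8444250261800434) (.leaf 26458647941511682)) (.node (.leaf 17451449516543218) (.leaf 35465847724731138)))))))

/-- Part of a collection table. -/
def tblHe_1_1 : Trie := (.node (.node (.node (.node (.node (.node (.leaf 3) (.leaf 18014398509482739)) (.node (.leaf 9007199254741251) (.leaf 27021598309762035))) (.node (.node (.leaf 4503599627370659) (.leaf 22517998486628179)) (.node (.leaf 13510798882111907) (.leaf 31525198270131795)))) (.node (.node (.node (.leaf 2251799813685395) (.leaf 20266198638339939)) (.node (.leaf 11258999068426643) (.leaf 29273398421843555))) (.node (.node (.leaf 6755399445258547) (.leaf 24769798608498627)) (.node (.leaf 15762598700001331) (.leaf 33776997334509251))))) (.node (.node (.node (.node (.leaf 1125899906843363) (.leaf 19140299969411027))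 (.node (.leaf 10133099161588707) (.leaf 28147499752632019))) (.node (.node (.leaf 5629499558906435) (.leaf 23643899272620659)) (.node (.leaf 14636698813651779) (.leaf 32651099072625523)))) (.node (.node (.node (.leaf 3377701264438707) (.leaf 21392100014069123)) (.node (.leaf 12384900519181491) (.leaf 30399298740329603))) (.node (.node (.leaf 7881300905450515) (.leaf 25895699454724387)) (.node (.leaf 16888500160191763) (.leaf 34902899254722595)))))) (.node (.node (.node (.node (.node (.leaf 562949953421795) (.leaf 18577349485865427)) (.node (.leaf 9570149208164579) (.leaf 27584548195627219))) (.node (.node (.leaf 5066549596549763) (.leaf 23080949453079475)) (.node (.leaf 14073748851286915) (.leaf 32088149253327539)))) (.node (.node (.node (.leaf 2814750774097011) (.leaf 20829149138013507)) (.node (.leaf 11821950028838259) (.leaf 29836347864519747))) (.node (.node (.leaf 7318350404640275) (.leaf 25332750038421027)) (.node (.leaf 16325549659377427) (.leaf 34339948764925731))))) (.node (.node (.node (.node (.leaf 1688849876792771)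 (.leaf 19703249342449203)) (.node (.leaf 10696049131535555) (.leaf 28710448051935027))) (.node (.node (.leaf 6192449489487523) (.leaf 24206849409535059)) (.node (.leaf 15199648744232867) (.leaf 33214049209535827)))) (.node (.node (.node (.leaf 3940650629836691) (.leaf 21955049430857059)) (.node (.leaf 12947849884579475) (.leaf 30962249230859363))) (.node (.node (.leaf 8444250261800435) (.leaf 26458647941511683)) (.node (.leaf 17451449516543219) (.leaf 35465847724731139)))))))

/-- Part of a collection table. -/
def tblHe_1_2 : Trie := (.node (.node (.node (.node (.node (.node (.leaf 70368744178492) (.leaf 18084768992190668)) (.node (.leaf 9077567998925372) (.leaf 27091967701672396))) (.node (.node (.leaf 4573968398035036) (.leaf 22588367062979244)) (.node (.leaf 13581167652776284) (.leaf 31595566846198700)))) (.node (.node (.node (.leaf 2322170301097324) (.leaf 20336568312778652)) (.node (.leaf 11329369555840108) (.leaf 29343768112780956))) (.node (.node (.leaf 6825769919012620) (.leaf 24840166816051452)) (.node (.leaf 15832969173747212)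 (.leaf 33847366616052220))))) (.node (.node (.node (.node (.leaf 1196268677458716) (.leaf 19210668806482732)) (.node (.leaf 10203467932201500) (.leaf 28217867533017644))) (.node (.node (.leaf 5699868279914620) (.leaf 23714267044411724)) (.node (.leaf 14707067534655868) (.leaf 32721466844651596)))) (.node (.node (.node (.leaf 3448070135614092) (.leaf 21462467818470332)) (.node (.leaf 12455269390359436) (.leaf 30469666545005244))) (.node (.node (.leaf 7951669750554860) (.leaf 25966068726438108)) (.node (.leaf 16958869005296108) (.leaf 34973267435669980)))))) (.node (.node (.node (.node (.node (.leaf 633318724034588) (.leaf 18647717248021804)) (.node (.leaf 9640517978775836) (.leaf 27654917048024108))) (.node (.node (.leaf 5136918351405244) (.leaf 23151317224767628)) (.node (.leaf 14144117606146492) (.leaf 32158517024768396)))) (.node (.node (.node (.leaf 2885118571285324) (.leaf 20899518821477244)) (.node (.leaf 11892317826028108) (.leaf 29906717547737724))) (.node (.node (.leaf 7388718176252652) (.leaf 25403118236698588)) (.node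 (.leaf 16395917430989804) (.leaf 34410318019927772))))) (.node (.node (.node (.node (.leaf 1759218630877948) (.leaf 19773618708477964)) (.node (.leaf 10766417885623292) (.leaf 28780818508720396))) (.node (.node (.leaf 6262818247256668) (.leaf 24277218004661676)) (.node (.leaf 15270017502002012) (.leaf 33284417804381356)))) (.node (.node (.node (.leaf 4011020003153516) (.leaf 22025417259960732)) (.node (.leaf 13018219257890668) (.leaf 31032617042907292))) (.node (.node (.leaf 8514619643770828) (.leaf 26529017203892540)) (.node (.leaf 17521818898509516) (.leaf 35536215913134140)))))))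

/-- Part of a collection table. -/
def tblHe_1_3 : Trie := (.node (.node (.node (.node (.node (.node (.leaf 70368744178493) (.leaf 18084768992190669)) (.node (.leaf 9077567998925373) (.leaf 27091967701672397))) (.node (.node (.leaf 4573968398035037) (.leaf 22588367062979245)) (.node (.leaf 13581167652776285) (.leaf 31595566846198701)))) (.node (.node (.node (.leaf 2322170301097325) (.leaf 20336568312778653)) (.node (.leaf 11329369555840109) (.leaf 29343768112780957))) (.node (.node (.leaf 6825769919012621) (.leaf 24840166816051453)) (.node (.leaf 15832969173747213) (.leaf 33847366616052221))))) (.node (.node (.node (.node (.leaf 1196268677458717) (.leaf 19210668806482733)) (.node (.leaf 10203467932201501) (.leaf 28217867533017645))) (.node (.node (.leaf 5699868279914621) (.leaf 23714267044411725)) (.node (.leaf 14707067534655869) (.leaf 32721466844651597)))) (.node (.node (.node (.leaf 3448070135614093) (.leaf 21462467818470333)) (.node (.leaf 12455269390359437) (.leaf 30469666545005245))) (.node (.node (.leaf 7951669750554861)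 (.leaf 25966068726438109)) (.node (.leaf 16958869005296109) (.leaf 34973267435669981)))))) (.node (.node (.node (.node (.node (.leaf 633318724034589) (.leaf 18647717248021805)) (.node (.leaf 9640517978775837) (.leaf 27654917048024109))) (.node (.node (.leaf 5136918351405245) (.leaf 23151317224767629)) (.node (.leaf 14144117606146493) (.leaf 32158517024768397)))) (.node (.node (.node (.leaf 2885118571285325) (.leaf 20899518821477245)) (.node (.leaf 11892317826028109) (.leaf 29906717547737725))) (.node (.node (.leaf 7388718176252653) (.leaf 25403118236698589)) (.node (.leaf 16395917430989805) (.leaf 34410318019927773))))) (.node (.node (.node (.node (.leaf 1759218630877949) (.leaf 19773618708477965)) (.node (.leaf 10766417885623293) (.leaf 28780818508720397))) (.node (.node (.leaf 6262818247256669) (.leaf 24277218004661677)) (.node (.leaf 15270017502002013) (.leaf 33284417804381357)))) (.node (.node (.node (.leaf 4011020003153517) (.leaf 22025417259960733)) (.node (.leaf 13018219257890669) (.leaf 31032617042907293))) (.node (.node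 (.leaf 8514619643770829) (.leaf 26529017203892541)) (.node (.leaf 17521818898509517) (.leaf 35536215913134141)))))))

/-- Part of a collection table. -/
def tblHe_1_4 : Trie := (.node (.node (.node (.node (.node (.node (.leaf 140737488355578) (.leaf 18155136508864266)) (.node (.leaf 9147936743096826) (.leaf 27162336308870666))) (.node (.node (.leaf 4644337123077018) (.leaf 22658737551683946)) (.node (.leaf 13651536377819802) (.leaf 31665936261167210)))) (.node (.node (.node (.leaf 2392537837209258) (.leaf 20406937083808858)) (.node (.leaf 11399737091954602) (.leaf 29414136867032410))) (.node (.node (.leaf 6896137444551882) (.leaf 24910535559612218)) (.node (.leaf 15903336699293130) (.leaf 33917735359618618))))) (.node (.node (.node (.node (.leaf 1266637403088090) (.leaf 19281036342271210)) (.node (.leaf 10273836657829338) (.leaf 28288236142022122))) (.node (.node (.leaf 5770237024161722) (.leaf 23784637522602634)) (.node (.leaf 14777436278904506) (.leaf 32791836231805834)))) (.node (.node (.node (.leaf 3518437653305674) (.leaf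 21532836562990202)) (.node (.leaf 12525636908044362) (.leaf 30540035288966522))) (.node (.node (.leaf 8022037286986538) (.leaf 26036437480989466)) (.node (.leaf 17029236541733418) (.leaf 35043636206971418)))))) (.node (.node (.node (.node (.node (.leaf 703687449670618) (.leaf 18718088006094570)) (.node (.leaf 9710886704409306) (.leaf 27725286732357610))) (.node (.node (.leaf 5207287095667578) (.leaf 23221687434626890)) (.node (.leaf 14214486350410362) (.leaf 32228886144114250)))) (.node (.node (.node (.leaf 2955489310297226) (.leaf 20969887565947066)) (.node (.leaf 11962688565038474) (.leaf 29977086292206010))) (.node (.node (.leaf 7459088933481770) (.leaf 25473486990979098)) (.node (.leaf 16466288188220458) (.leaf 34480686790979866))))) (.node (.node (.node (.node (.leaf 1829587375596858) (.leaf 19843986511113162)) (.node (.leaf 10836786630339642) (.leaf 28851185220346570))) (.node (.node (.leaf 6333186993546650) (.leaf 24347586345732714)) (.node (.leaf 15340386248289434) (.leaf 33354785071745898)))) (.node (.node (.node (.leaf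 4081387807713706) (.leaf 22095785976219226)) (.node (.leaf 13088587062452394) (.leaf 31102985775941466))) (.node (.node (.leaf 8584987438235658) (.leaf 26599385947718394)) (.node (.leaf 17592186692976906) (.leaf 35606584657445882)))))))

/-- Part of a collection table. -/
def tblHe_1_5 : Trie := (.node (.node (.node (.node (.node (.node (.leaf 140737488355579) (.leaf 18155136508864267)) (.node (.leaf 9147936743096827) (.leaf 27162336308870667))) (.node (.node (.leaf 4644337123077019) (.leaf 22658737551683947)) (.node (.leaf 13651536377819803) (.leaf 31665936261167211)))) (.node (.node (.node (.leaf 2392537837209259) (.leaf 20406937083808859)) (.node (.leaf 11399737091954603) (.leaf 29414136867032411))) (.node (.node (.leaf 6896137444551883) (.leaf 24910535559612219)) (.node (.leaf 15903336699293131) (.leaf 33917735359618619))))) (.node (.node (.node (.node (.leaf 1266637403088091) (.leaf 19281036342271211)) (.node (.leaf 10273836657829339) (.leaf 28288236142022123))) (.node (.node (.leaf 5770237024161723) (.leaf 23784637522602635))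 (.node (.leaf 14777436278904507) (.leaf 32791836231805835)))) (.node (.node (.node (.leaf 3518437653305675) (.leaf 21532836562990203)) (.node (.leaf 12525636908044363) (.leaf 30540035288966523))) (.node (.node (.leaf 8022037286986539) (.leaf 26036437480989467)) (.node (.leaf 17029236541733419) (.leaf 35043636206971419)))))) (.node (.node (.node (.node (.node (.leaf 703687449670619) (.leaf 18718088006094571)) (.node (.leaf 9710886704409307) (.leaf 27725286732357611))) (.node (.node (.leaf 5207287095667579) (.leaf 23221687434626891)) (.node (.leaf 14214486350410363) (.leaf 32228886144114251)))) (.node (.node (.node (.leaf 2955489310297227) (.leaf 20969887565947067)) (.node (.leaf 11962688565038475) (.leaf 29977086292206011))) (.node (.node (.leaf 7459088933481771) (.leaf 25473486990979099)) (.node (.leaf 16466288188220459) (.leaf 34480686790979867))))) (.node (.node (.node (.node (.leaf 1829587375596859) (.leaf 19843986511113163)) (.node (.leaf 10836786630339643) (.leaf 28851185220346571))) (.node (.node (.leaf 6333186993546651)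 (.leaf 24347586345732715)) (.node (.leaf 15340386248289435) (.leaf 33354785071745899)))) (.node (.node (.node (.leaf 4081387807713707) (.leaf 22095785976219227)) (.node (.leaf 13088587062452395) (.leaf 31102985775941467))) (.node (.node (.leaf 8584987438235659) (.leaf 26599385947718395)) (.node (.leaf 17592186692976907) (.leaf 35606584657445883)))))))

/-- Part of a collection table. -/
def tblHe_1_6 : Trie := (.node (.node (.node (.node (.node (.node (.leaf 211328075882532) (.leaf 18225726521554196)) (.node (.leaf 9218527330623780) (.leaf 27232925247814676))) (.node (.node (.leaf 4714927704301700) (.leaf 22729326497074356)) (.node (.leaf 13722126959042948) (.leaf 31736525206556084)))) (.node (.node (.node (.leaf 2463127822404468) (.leaf 20477527052052292)) (.node (.leaf 11470327077147252) (.leaf 29484726835281476))) (.node (.node (.leaf 6966727457518292) (.leaf 24981127418087396)) (.node (.leaf 15973926712255444) (.leaf 33988326127574756))))) (.node (.node (.node (.node (.leaf 1337227983774404) (.leaf 19351627980780596)) (.node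 (.leaf 10344427238519748) (.leaf 28358826690012468))) (.node (.node (.leaf 5840827622107748) (.leaf 23855227248244116)) (.node (.leaf 14848026876853092) (.leaf 32862425974746260)))) (.node (.node (.node (.leaf 3589029274442324) (.leaf 21603426548516260)) (.node (.leaf 12596228529179476) (.leaf 30610625275059364))) (.node (.node (.leaf 8092628916108276) (.leaf 26107025310753028)) (.node (.leaf 17099828170842868) (.leaf 35114225094260740)))))) (.node (.node (.node (.node (.node (.leaf 774278030352836) (.leaf 18788676422242868)) (.node (.leaf 9781477285095620) (.leaf 27795876205462324))) (.node (.node (.leaf 5277877643023012) (.leaf 23292277428787284)) (.node (.leaf 14285076897760164) (.leaf 32299476155046228)))) (.node (.node (.node (.leaf 3026077709597588) (.leaf 21040477517308260)) (.node (.leaf 12033276964332180) (.leaf 30047676243568740))) (.node (.node (.leaf 7529677341528564) (.leaf 25544075893714436)) (.node (.leaf 16536876596271348) (.leaf 34551274603200260))))) (.node (.node (.node (.node (.leaf 1900177922774500) (.leaf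 19914576244112852)) (.node (.leaf 10907377177517284) (.leaf 28921776027575508))) (.node (.node (.leaf 6403777563764356) (.leaf 24418177419188148)) (.node (.leaf 15410976818509700) (.leaf 33425376145727156)))) (.node (.node (.node (.leaf 4151977535447156) (.leaf 22166375963334980)) (.node (.leaf 13159176790188404) (.leaf 31173575763607620))) (.node (.node (.leaf 8655577163827732) (.leaf 26669976729524772)) (.node (.leaf 17662776418573076) (.leaf 35677176529804068)))))))

/-- Part of a collection table. -/
def tblHe_1_7 : Trie := (.node (.node (.node (.node (.node (.node (.leaf 211328075882533) (.leaf 18225726521554197)) (.node (.leaf 9218527330623781) (.leaf 27232925247814677))) (.node (.node (.leaf 4714927704301701) (.leaf 22729326497074357)) (.node (.leaf 13722126959042949) (.leaf 31736525206556085)))) (.node (.node (.node (.leaf 2463127822404469) (.leaf 20477527052052293)) (.node (.leaf 11470327077147253) (.leaf 29484726835281477))) (.node (.node (.leaf 6966727457518293) (.leaf 24981127418087397)) (.node (.leaf 15973926712255445)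 (.leaf 33988326127574757))))) (.node (.node (.node (.node (.leaf 1337227983774405) (.leaf 19351627980780597)) (.node (.leaf 10344427238519749) (.leaf 28358826690012469))) (.node (.node (.leaf 5840827622107749) (.leaf 23855227248244117)) (.node (.leaf 14848026876853093) (.leaf 32862425974746261)))) (.node (.node (.node (.leaf 3589029274442325) (.leaf 21603426548516261)) (.node (.leaf 12596228529179477) (.leaf 30610625275059365))) (.node (.node (.leaf 8092628916108277) (.leaf 26107025310753029)) (.node (.leaf 17099828170842869) (.leaf 35114225094260741)))))) (.node (.node (.node (.node (.node (.leaf 774278030352837) (.leaf 18788676422242869)) (.node (.leaf 9781477285095621) (.leaf 27795876205462325))) (.node (.node (.leaf 5277877643023013) (.leaf 23292277428787285)) (.node (.leaf 14285076897760165) (.leaf 32299476155046229)))) (.node (.node (.node (.leaf 3026077709597589) (.leaf 21040477517308261)) (.node (.leaf 12033276964332181) (.leaf 30047676243568741))) (.node (.node (.leaf 7529677341528565) (.leaf 25544075893714437)) (.node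 (.leaf 16536876596271349) (.leaf 34551274603200261))))) (.node (.node (.node (.node (.leaf 1900177922774501) (.leaf 19914576244112853)) (.node (.leaf 10907377177517285) (.leaf 28921776027575509))) (.node (.node (.leaf 6403777563764357) (.leaf 24418177419188149)) (.node (.leaf 15410976818509701) (.leaf 33425376145727157)))) (.node (.node (.node (.leaf 4151977535447157) (.leaf 22166375963334981)) (.node (.leaf 13159176790188405) (.leaf 31173575763607621))) (.node (.node (.leaf 8655577163827733) (.leaf 26669976729524773)) (.node (.leaf 17662776418573077) (.leaf 35677176529804069)))))))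

/-- Part of a collection table. -/
def tblHe_1_8 : Trie := (.node (.node (.node (.node (.node (.node (.leaf 281474976711478) (.leaf 18295875224723654)) (.node (.leaf 9288674231458358) (.leaf 27303073934205382))) (.node (.node (.leaf 4785074630568022) (.leaf 22799473295512230)) (.node (.leaf 13792273885309270) (.leaf 31806673078731686)))) (.node (.node (.node (.leaf 2533276533630310) (.leaf 20547674545311638)) (.node (.leaf 11540475788373094) (.leaf 29554874345313942))) (.node (.node (.leaf 7036876151545606) (.leaf 25051273048584438)) (.node (.leaf 16044075406280198) (.leaf 34058472848585206))))) (.node (.node (.node (.node (.leaf 1407374909991702) (.leaf 19421775039015718)) (.node (.leaf 10414574164734486) (.leaf 28428973765550630))) (.node (.node (.leaf 5910974512447606) (.leaf 23925373276944710)) (.node (.leaf 14918173767188854) (.leaf 32932573077184582)))) (.node (.node (.node (.leaf 3659176368147078) (.leaf 21673574051003318)) (.node (.leaf 12666375622892422) (.leaf 30680772777538230))) (.node (.node (.leaf 8162775983087846)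 (.leaf 26177174958971094)) (.node (.leaf 17169975237829094) (.leaf 35184373668202966)))))) (.node (.node (.node (.node (.node (.leaf 844424956567574) (.leaf 18858823480554790)) (.node (.leaf 9851624211308822) (.leaf 27866023280557094))) (.node (.node (.leaf 5348024583938230) (.leaf 23362423457300614)) (.node (.leaf 14355223838679478) (.leaf 32369623257301382)))) (.node (.node (.node (.leaf 3096224803818310) (.leaf 21110625054010230)) (.node (.leaf 12103424058561094) (.leaf 30117823780270710))) (.node (.node (.leaf 7599824408785638) (.leaf 25614224469231574)) (.node (.leaf 16607023663522790) (.leaf 34621424252460758))))) (.node (.node (.node (.node (.leaf 1970324863410934) (.leaf 19984724941010950)) (.node (.leaf 10977524118156278) (.leaf 28991924741253382))) (.node (.node (.leaf 6473924479789654) (.leaf 24488324237194662)) (.node (.leaf 15481123734534998) (.leaf 33495524036914342)))) (.node (.node (.node (.leaf 4222126235686502) (.leaf 22236523492493718)) (.node (.leaf 13229325490423654) (.leaf 31243723275440278))) (.node (.node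 (.leaf 8725725876303814) (.leaf 26740123436425526)) (.node (.leaf 17732925131042502) (.leaf 35747322145667126)))))))

/-- Part of a collection table. -/
def tblHe_1_9 : Trie := (.node (.node (.node (.node (.node (.node (.leaf 281474976711479) (.leaf 18295875224723655)) (.node (.leaf 9288674231458359) (.leaf 27303073934205383))) (.node (.node (.leaf 4785074630568023) (.leaf 22799473295512231)) (.node (.leaf 13792273885309271) (.leaf 31806673078731687)))) (.node (.node (.node (.leaf 2533276533630311) (.leaf 20547674545311639)) (.node (.leaf 11540475788373095) (.leaf 29554874345313943))) (.node (.node (.leaf 7036876151545607) (.leaf 25051273048584439)) (.node (.leaf 16044075406280199) (.leaf 34058472848585207))))) (.node (.node (.node (.node (.leaf 1407374909991703) (.leaf 19421775039015719)) (.node (.leaf 10414574164734487) (.leaf 28428973765550631))) (.node (.node (.leaf 5910974512447607) (.leaf 23925373276944711)) (.node (.leaf 14918173767188855) (.leaf 32932573077184583)))) (.node (.node (.node (.leaf 3659176368147079) (.leaf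 21673574051003319)) (.node (.leaf 12666375622892423) (.leaf 30680772777538231))) (.node (.node (.leaf 8162775983087847) (.leaf 26177174958971095)) (.node (.leaf 17169975237829095) (.leaf 35184373668202967)))))) (.node (.node (.node (.node (.node (.leaf 844424956567575) (.leaf 18858823480554791)) (.node (.leaf 9851624211308823) (.leaf 27866023280557095))) (.node (.node (.leaf 5348024583938231) (.leaf 23362423457300615)) (.node (.leaf 14355223838679479) (.leaf 32369623257301383)))) (.node (.node (.node (.leaf 3096224803818311) (.leaf 21110625054010231)) (.node (.leaf 12103424058561095) (.leaf 30117823780270711))) (.node (.node (.leaf 7599824408785639) (.leaf 25614224469231575)) (.node (.leaf 16607023663522791) (.leaf 34621424252460759))))) (.node (.node (.node (.node (.leaf 1970324863410935) (.leaf 19984724941010951)) (.node (.leaf 10977524118156279) (.leaf 28991924741253383))) (.node (.node (.leaf 6473924479789655) (.leaf 24488324237194663)) (.node (.leaf 15481123734534999) (.leaf 33495524036914343)))) (.node (.node (.node (.leaf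 4222126235686503) (.leaf 22236523492493719)) (.node (.leaf 13229325490423655) (.leaf 31243723275440279))) (.node (.node (.leaf 8725725876303815) (.leaf 26740123436425527)) (.node (.leaf 17732925131042503) (.leaf 35747322145667127)))))))

/-- Part of a collection table. -/
def tblHe_1_10 : Trie := (.node (.node (.node (.node (.node (.node (.leaf 408754158702312) (.leaf 18423151133998040)) (.node (.leaf 9415953413447656) (.leaf 27430349843473112))) (.node (.node (.leaf 4912353797129800) (.leaf 22926751102527096)) (.node (.leaf 13919553051875144) (.leaf 31933949828790136)))) (.node (.node (.node (.leaf 2660552428501432) (.leaf 20674950699981192)) (.node (.leaf 11667751683240120) (.leaf 29682150499979400))) (.node (.node (.leaf 7164152061120536) (.leaf 25178550547744040)) (.node (.leaf 16171351315861784) (.leaf 34185749274004520))))) (.node (.node (.node (.node (.leaf 1534654077061128) (.leaf 19549052586543864)) (.node (.leaf 10541853331802376) (.leaf 28556251312524280))) (.node (.node (.leaf 6038253704431784) (.leaf 24052651889323864))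 (.node (.leaf 15045452959173032) (.leaf 33059850598524504)))) (.node (.node (.node (.leaf 3786453890746520) (.leaf 21800852110241640)) (.node (.leaf 12793653145487768) (.leaf 30808050819442280))) (.node (.node (.leaf 8290053522319672) (.leaf 26304451374114760)) (.node (.leaf 17297252777058360) (.leaf 35311651174362824)))))) (.node (.node (.node (.node (.node (.leaf 971704123645704) (.leaf 18986101028024568)) (.node (.leaf 9978903378380296) (.leaf 27993300828025336))) (.node (.node (.leaf 5475303742370920) (.leaf 23489702070161048)) (.node (.leaf 14482502997112168) (.leaf 32496900779646872)))) (.node (.node (.node (.leaf 3223502326445400) (.leaf 21237901200580520)) (.node (.leaf 12230701581188184) (.leaf 30245099910055592))) (.node (.node (.leaf 7727101964275512) (.leaf 25741501957319880)) (.node (.leaf 16734301219018296) (.leaf 34748700683578824))))) (.node (.node (.node (.node (.leaf 2097604022155048) (.leaf 20112000860714776)) (.node (.leaf 11104803276893736) (.leaf 29119200660438552))) (.node (.node (.leaf 6601203656596552)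 (.leaf 24615602041940344)) (.node (.leaf 15608402911337800) (.leaf 33622800751145080)))) (.node (.node (.node (.leaf 4349402157536952) (.leaf 22363801507376008)) (.node (.leaf 13356601412274104) (.leaf 31371001290351240))) (.node (.node (.leaf 8853001804954840) (.leaf 26867399876330728)) (.node (.leaf 17860201059696088) (.leaf 35874599659804136)))))))

/-- Part of a collection table. -/
def tblHe_1_11 : Trie := (.node (.node (.node (.node (.node (.node (.leaf 408754158702313) (.leaf 18423151133998041)) (.node (.leaf 9415953413447657) (.leaf 27430349843473113))) (.node (.node (.leaf 4912353797129801) (.leaf 22926751102527097)) (.node (.leaf 13919553051875145) (.leaf 31933949828790137)))) (.node (.node (.node (.leaf 2660552428501433) (.leaf 20674950699981193)) (.node (.leaf 11667751683240121) (.leaf 29682150499979401))) (.node (.node (.leaf 7164152061120537) (.leaf 25178550547744041)) (.node (.leaf 16171351315861785) (.leaf 34185749274004521))))) (.node (.node (.node (.node (.leaf 1534654077061129) (.leaf 19549052586543865)) (.node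 (.leaf 10541853331802377) (.leaf 28556251312524281))) (.node (.node (.leaf 6038253704431785) (.leaf 24052651889323865)) (.node (.leaf 15045452959173033) (.leaf 33059850598524505)))) (.node (.node (.node (.leaf 3786453890746521) (.leaf 21800852110241641)) (.node (.leaf 12793653145487769) (.leaf 30808050819442281))) (.node (.node (.leaf 8290053522319673) (.leaf 26304451374114761)) (.node (.leaf 17297252777058361) (.leaf 35311651174362825)))))) (.node (.node (.node (.node (.node (.leaf 971704123645705) (.leaf 18986101028024569)) (.node (.leaf 9978903378380297) (.leaf 27993300828025337))) (.node (.node (.leaf 5475303742370921) (.leaf 23489702070161049)) (.node (.leaf 14482502997112169) (.leaf 32496900779646873)))) (.node (.node (.node (.leaf 3223502326445401) (.leaf 21237901200580521)) (.node (.leaf 12230701581188185) (.leaf 30245099910055593))) (.node (.node (.leaf 7727101964275513) (.leaf 25741501957319881)) (.node (.leaf 16734301219018297) (.leaf 34748700683578825))))) (.node (.node (.node (.node (.leaf 2097604022155049) (.leaf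 20112000860714777)) (.node (.leaf 11104803276893737) (.leaf 29119200660438553))) (.node (.node (.leaf 6601203656596553) (.leaf 24615602041940345)) (.node (.leaf 15608402911337801) (.leaf 33622800751145081)))) (.node (.node (.node (.leaf 4349402157536953) (.leaf 22363801507376009)) (.node (.leaf 13356601412274105) (.leaf 31371001290351241))) (.node (.node (.leaf 8853001804954841) (.leaf 26867399876330729)) (.node (.leaf 17860201059696089) (.leaf 35874599659804137)))))))

/-- Part of a collection table. -/
def tblHe_1_12 : Trie := (.node (.node (.node (.node (.node (.node (.leaf 439257020400654) (.leaf 18453655529883390)) (.node (.leaf 9446456275141902) (.leaf 27460854239643646))) (.node (.node (.leaf 4942856647771310) (.leaf 22957254818112350)) (.node (.leaf 13950055902512558) (.leaf 31964453544651358)))) (.node (.node (.node (.leaf 2691056834086046) (.leaf 20705455036932974)) (.node (.leaf 11698256088827294) (.leaf 29712653763471982))) (.node (.node (.leaf 7194656465659198) (.leaf 25209054349306830)) (.node (.leaf 16201855720401982)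 (.leaf 34216254132282062))))) (.node (.node (.node (.node (.leaf 1565156927244014) (.leaf 19579553885762526)) (.node (.leaf 10572356181989358) (.leaf 28586752612018910))) (.node (.node (.leaf 6068756573998670) (.leaf 24083153871531646)) (.node (.leaf 15075955828744014) (.leaf 33090352581017470)))) (.node (.node (.node (.leaf 3816955197567422) (.leaf 21831353477370254)) (.node (.leaf 12824154452310206) (.leaf 30838553260595342))) (.node (.node (.leaf 8320554821802014) (.leaf 26334953316748590)) (.node (.leaf 17327754076543262) (.leaf 35342152026227758)))))) (.node (.node (.node (.node (.node (.leaf 1002206973822446) (.leaf 19016604470980062)) (.node (.leaf 10009406228565230) (.leaf 28023804271260894))) (.node (.node (.leaf 5505806595978894) (.leaf 23520203783555006)) (.node (.leaf 14513005850716046) (.leaf 32527402493284030)))) (.node (.node (.node (.leaf 3254005781229694) (.leaf 21268404479641934)) (.node (.leaf 12261205035970942) (.leaf 30275604263112782))) (.node (.node (.leaf 7757605407513118) (.leaf 25772002825718318)) (.node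 (.leaf 16764804662250270) (.leaf 34779202609187630))))) (.node (.node (.node (.node (.leaf 2128106875171278) (.leaf 20142504461517374)) (.node (.leaf 11135306129914062) (.leaf 29149704261522238))) (.node (.node (.leaf 6631706508837550) (.leaf 24646103605790814)) (.node (.leaf 15638905763582894) (.leaf 33653302315272542)))) (.node (.node (.node (.leaf 4379905749101470) (.leaf 22394303966916974)) (.node (.leaf 13387105003844254) (.leaf 31401502676400238))) (.node (.node (.leaf 8883505397580286) (.leaf 26897904742497806)) (.node (.leaf 17890704652323070) (.leaf 35905103468752654)))))))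

/-- Part of a collection table. -/
def tblHe_1_13 : Trie := (.node (.node (.node (.node (.node (.node (.leaf 439257020400655) (.leaf 18453655529883391)) (.node (.leaf 9446456275141903) (.leaf 27460854239643647))) (.node (.node (.leaf 4942856647771311) (.leaf 22957254818112351)) (.node (.leaf 13950055902512559) (.leaf 31964453544651359)))) (.node (.node (.node (.leaf 2691056834086047) (.leaf 20705455036932975)) (.node (.leaf 11698256088827295) (.leaf 29712653763471983))) (.node (.node (.leaf 7194656465659199) (.leaf 25209054349306831)) (.node (.leaf 16201855720401983) (.leaf 34216254132282063))))) (.node (.node (.node (.node (.leaf 1565156927244015) (.leaf 19579553885762527)) (.node (.leaf 10572356181989359) (.leaf 28586752612018911))) (.node (.node (.leaf 6068756573998671) (.leaf 24083153871531647)) (.node (.leaf 15075955828744015) (.leaf 33090352581017471)))) (.node (.node (.node (.leaf 3816955197567423) (.leaf 21831353477370255)) (.node (.leaf 12824154452310207) (.leaf 30838553260595343))) (.node (.node (.leaf 8320554821802015)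 (.leaf 26334953316748591)) (.node (.leaf 17327754076543263) (.leaf 35342152026227759)))))) (.node (.node (.node (.node (.node (.leaf 1002206973822447) (.leaf 19016604470980063)) (.node (.leaf 10009406228565231) (.leaf 28023804271260895))) (.node (.node (.leaf 5505806595978895) (.leaf 23520203783555007)) (.node (.leaf 14513005850716047) (.leaf 32527402493284031)))) (.node (.node (.node (.leaf 3254005781229695) (.leaf 21268404479641935)) (.node (.leaf 12261205035970943) (.leaf 30275604263112783))) (.node (.node (.leaf 7757605407513119) (.leaf 25772002825718319)) (.node (.leaf 16764804662250271) (.leaf 34779202609187631))))) (.node (.node (.node (.node (.leaf 2128106875171279) (.leaf 20142504461517375)) (.node (.leaf 11135306129914063) (.leaf 29149704261522239))) (.node (.node (.leaf 6631706508837551) (.leaf 24646103605790815)) (.node (.leaf 15638905763582895) (.leaf 33653302315272543)))) (.node (.node (.node (.leaf 4379905749101471) (.leaf 22394303966916975)) (.node (.leaf 13387105003844255) (.leaf 31401502676400239))) (.node (.node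 (.leaf 8883505397580287) (.leaf 26897904742497807)) (.node (.leaf 17890704652323071) (.leaf 35905103468752655)))))))

/-- Part of a collection table. -/
def tblHe_1_14 : Trie := (.node (.node (.node (.node (.node (.node (.leaf 495276954805040) (.leaf 18509675908235456)) (.node (.leaf 9502476209551920) (.leaf 27516875708236224))) (.node (.node (.leaf 4998876589246544) (.leaf 23013275179201184)) (.node (.leaf 14006075843987792) (.leaf 32020473905456032)))) (.node (.node (.node (.leaf 2747077206689120) (.leaf 20761476449906576)) (.node (.leaf 11754276461431904) (.leaf 29768675159389840))) (.node (.node (.leaf 7250676843527936) (.leaf 25265074819010800)) (.node (.leaf 16257876098262528) (.leaf 34272273528492528))))) (.node (.node (.node (.node (.leaf 1621176869161744) (.leaf 19635575874079520)) (.node (.leaf 10628376123904528) (.leaf 28642775657021984))) (.node (.node (.leaf 6124776487886960) (.leaf 24139175045273920)) (.node (.leaf 15131975742628208) (.leaf 33146373754503232)))) (.node (.node (.node (.leaf 3872977186515584) (.leaf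 21887374877678512)) (.node (.leaf 12880176441260928) (.leaf 30894574660620976))) (.node (.node (.leaf 8376576793018592) (.leaf 26390975640500432)) (.node (.leaf 17383776047759840) (.leaf 35398175440742864)))))) (.node (.node (.node (.node (.node (.leaf 1058226915737616) (.leaf 19072625376777504)) (.node (.leaf 10065426170478864) (.leaf 28079824086260768))) (.node (.node (.leaf 5561826543108272) (.leaf 23576225225580672)) (.node (.leaf 14569025797849520) (.leaf 32583423935062400)))) (.node (.node (.node (.leaf 3310026695863104) (.leaf 21324425880161136)) (.node (.leaf 12317225950605888) (.leaf 30331625663386224))) (.node (.node (.leaf 7813626312872672) (.leaf 25828026224437200)) (.node (.leaf 16820825567609824) (.leaf 34835224950701776))))) (.node (.node (.node (.node (.leaf 2184126822580976) (.leaf 20198526717663232)) (.node (.leaf 11191326077326320) (.leaf 29205725426895104))) (.node (.node (.leaf 6687726428441168) (.leaf 24702126139217312)) (.node (.leaf 15694925683186512) (.leaf 33709324848975008)))) (.node (.node (.node (.leaf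 4435927997707872) (.leaf 22450325377755536)) (.node (.leaf 13443127252445024) (.leaf 31457524104294544))) (.node (.node (.leaf 8939527644600256) (.leaf 26953924117872944)) (.node (.leaf 17946726899338944) (.leaf 35961123918125104)))))))

/-- Part of a collection table. -/
def tblHe_1_15 : Trie := (.node (.node (.node (.node (.node (.node (.leaf 495276954805041) (.leaf 18509675908235457)) (.node (.leaf 9502476209551921) (.leaf 27516875708236225))) (.node (.node (.leaf 4998876589246545) (.leaf 23013275179201185)) (.node (.leaf 14006075843987793) (.leaf 32020473905456033)))) (.node (.node (.node (.leaf 2747077206689121) (.leaf 20761476449906577)) (.node (.leaf 11754276461431905) (.leaf 29768675159389841))) (.node (.node (.leaf 7250676843527937) (.leaf 25265074819010801)) (.node (.leaf 16257876098262529) (.leaf 34272273528492529))))) (.node (.node (.node (.node (.leaf 1621176869161745) (.leaf 19635575874079521)) (.node (.leaf 10628376123904529) (.leaf 28642775657021985))) (.node (.node (.leaf 6124776487886961) (.leaf 24139175045273921))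 (.node (.leaf 15131975742628209) (.leaf 33146373754503233)))) (.node (.node (.node (.leaf 3872977186515585) (.leaf 21887374877678513)) (.node (.leaf 12880176441260929) (.leaf 30894574660620977))) (.node (.node (.leaf 8376576793018593) (.leaf 26390975640500433)) (.node (.leaf 17383776047759841) (.leaf 35398175440742865)))))) (.node (.node (.node (.node (.node (.leaf 1058226915737617) (.leaf 19072625376777505)) (.node (.leaf 10065426170478865) (.leaf 28079824086260769))) (.node (.node (.leaf 5561826543108273) (.leaf 23576225225580673)) (.node (.leaf 14569025797849521) (.leaf 32583423935062401)))) (.node (.node (.node (.leaf 3310026695863105) (.leaf 21324425880161137)) (.node (.leaf 12317225950605889) (.leaf 30331625663386225))) (.node (.node (.leaf 7813626312872673) (.leaf 25828026224437201)) (.node (.leaf 16820825567609825) (.leaf 34835224950701777))))) (.node (.node (.node (.node (.leaf 2184126822580977) (.leaf 20198526717663233)) (.node (.leaf 11191326077326321) (.leaf 29205725426895105))) (.node (.node (.leaf 6687726428441169)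 (.leaf 24702126139217313)) (.node (.leaf 15694925683186513) (.leaf 33709324848975009)))) (.node (.node (.node (.leaf 4435927997707873) (.leaf 22450325377755537)) (.node (.leaf 13443127252445025) (.leaf 31457524104294545))) (.node (.node (.leaf 8939527644600257) (.leaf 26953924117872945)) (.node (.leaf 17946726899338945) (.leaf 35961123918125105)))))))

/-- Part of a collection table. -/
def tblHe_2_0 : Trie := (.node (.node (.node (.node (.node (.node (.leaf 4) (.leaf 35184372089140)) (.node (.leaf 17592186044676) (.leaf 52777103394868))) (.node (.node (.leaf 8796093022372) (.leaf 43980815271060)) (.node (.leaf 26388279067044) (.leaf 61573529798036)))) (.node (.node (.node (.leaf 4398046511956) (.leaf 39584216599396)) (.node (.leaf 21990232562260) (.leaf 57175874163300))) (.node (.node (.leaf 13194167728884) (.leaf 48380109395908)) (.node (.leaf 30786353769460) (.leaf 65972840697540))))) (.node (.node (.node (.node (.leaf 2199023255588) (.leaf 37383495756500)) (.node (.leaf 19791209300260) (.leaf 54976210037716))) (.node (.node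 (.leaf 10995117326468) (.leaf 46179777426292)) (.node (.leaf 28587303371140) (.leaf 63772509010548)))) (.node (.node (.node (.leaf 6597137863860) (.leaf 41781757897540)) (.node (.leaf 24189323908532) (.leaf 59374472143428))) (.node (.node (.leaf 15393236137236) (.leaf 50578192818148)) (.node (.leaf 32985422183444) (.leaf 68169850099428)))))) (.node (.node (.node (.node (.node (.leaf 1099511628580) (.leaf 36285588693204)) (.node (.leaf 18691697678884) (.leaf 53877229478356))) (.node (.node (.leaf 9895631136836) (.leaf 45080131150516)) (.node (.leaf 27487817181508) (.leaf 62672862458804)))) (.node (.node (.node (.leaf 5499236365684) (.leaf 40683202438020)) (.node (.leaf 23091422411892) (.leaf 58275916970628))) (.node (.node (.leaf 14295340896020) (.leaf 49478144404708)) (.node (.leaf 31887526942228) (.leaf 67070875708900))))) (.node (.node (.node (.node (.leaf 3298561376708) (.leaf 38483856022004)) (.node (.leaf 20890747422916) (.leaf 56075497046260))) (.node (.node (.leaf 12094652297892) (.leaf 47280431107988)) (.node (.leaf 29686838338468)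 (.leaf 64873162163860)))) (.node (.node (.node (.leaf 7697547740244) (.leaf 42881806253412)) (.node (.leaf 25289733784916) (.leaf 60473446786148))) (.node (.node (.leaf 16493642903092) (.leaf 51679171609092)) (.node (.leaf 34085828951860) (.leaf 69270812672772)))))))

/-- Part of a collection table. -/
def tblHe_2_1 : Trie := (.node (.node (.node (.node (.node (.node (.leaf 5) (.leaf 35184372089141)) (.node (.leaf 17592186044677) (.leaf 52777103394869))) (.node (.node (.leaf 8796093022373) (.leaf 43980815271061)) (.node (.leaf 26388279067045) (.leaf 61573529798037)))) (.node (.node (.node (.leaf 4398046511957) (.leaf 39584216599397)) (.node (.leaf 21990232562261) (.leaf 57175874163301))) (.node (.node (.leaf 13194167728885) (.leaf 48380109395909)) (.node (.leaf 30786353769461) (.leaf 65972840697541))))) (.node (.node (.node (.node (.leaf 2199023255589) (.leaf 37383495756501)) (.node (.leaf 19791209300261) (.leaf 54976210037717))) (.node (.node (.leaf 10995117326469) (.leaf 46179777426293)) (.node (.leaf 28587303371141) (.leaf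 63772509010549)))) (.node (.node (.node (.leaf 6597137863861) (.leaf 41781757897541)) (.node (.leaf 24189323908533) (.leaf 59374472143429))) (.node (.node (.leaf 15393236137237) (.leaf 50578192818149)) (.node (.leaf 32985422183445) (.leaf 68169850099429)))))) (.node (.node (.node (.node (.node (.leaf 1099511628581) (.leaf 36285588693205)) (.node (.leaf 18691697678885) (.leaf 53877229478357))) (.node (.node (.leaf 9895631136837) (.leaf 45080131150517)) (.node (.leaf 27487817181509) (.leaf 62672862458805)))) (.node (.node (.node (.leaf 5499236365685) (.leaf 40683202438021)) (.node (.leaf 23091422411893) (.leaf 58275916970629))) (.node (.node (.leaf 14295340896021) (.leaf 49478144404709)) (.node (.leaf 31887526942229) (.leaf 67070875708901))))) (.node (.node (.node (.node (.leaf 3298561376709) (.leaf 38483856022005)) (.node (.leaf 20890747422917) (.leaf 56075497046261))) (.node (.node (.leaf 12094652297893) (.leaf 47280431107989)) (.node (.leaf 29686838338469) (.leaf 64873162163861)))) (.node (.node (.node (.leaf 7697547740245) (.leaf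 42881806253413)) (.node (.leaf 25289733784917) (.leaf 60473446786149))) (.node (.node (.leaf 16493642903093) (.leaf 51679171609093)) (.node (.leaf 34085828951861) (.leaf 69270812672773)))))))

/-- Part of a collection table. -/
def tblHe_2_2 : Trie := (.node (.node (.node (.node (.node (.node (.leaf 6) (.leaf 35184372089142)) (.node (.leaf 17592186044678) (.leaf 52777103394870))) (.node (.node (.leaf 8796093022374) (.leaf 43980815271062)) (.node (.leaf 26388279067046) (.leaf 61573529798038)))) (.node (.node (.node (.leaf 4398046511958) (.leaf 39584216599398)) (.node (.leaf 21990232562262) (.leaf 57175874163302))) (.node (.node (.leaf 13194167728886) (.leaf 48380109395910)) (.node (.leaf 30786353769462) (.leaf 65972840697542))))) (.node (.node (.node (.node (.leaf 2199023255590) (.leaf 37383495756502)) (.node (.leaf 19791209300262) (.leaf 54976210037718))) (.node (.node (.leaf 10995117326470) (.leaf 46179777426294)) (.node (.leaf 28587303371142) (.leaf 63772509010550)))) (.node (.node (.node (.leaf 6597137863862) (.leaf 41781757897542))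 (.node (.leaf 24189323908534) (.leaf 59374472143430))) (.node (.node (.leaf 15393236137238) (.leaf 50578192818150)) (.node (.leaf 32985422183446) (.leaf 68169850099430)))))) (.node (.node (.node (.node (.node (.leaf 1099511628582) (.leaf 36285588693206)) (.node (.leaf 18691697678886) (.leaf 53877229478358))) (.node (.node (.leaf 9895631136838) (.leaf 45080131150518)) (.node (.leaf 27487817181510) (.leaf 62672862458806)))) (.node (.node (.node (.leaf 5499236365686) (.leaf 40683202438022)) (.node (.leaf 23091422411894) (.leaf 58275916970630))) (.node (.node (.leaf 14295340896022) (.leaf 49478144404710)) (.node (.leaf 31887526942230) (.leaf 67070875708902))))) (.node (.node (.node (.node (.leaf 3298561376710) (.leaf 38483856022006)) (.node (.leaf 20890747422918) (.leaf 56075497046262))) (.node (.node (.leaf 12094652297894) (.leaf 47280431107990)) (.node (.leaf 29686838338470) (.leaf 64873162163862)))) (.node (.node (.node (.leaf 7697547740246) (.leaf 42881806253414)) (.node (.leaf 25289733784918) (.leaf 60473446786150))) (.node (.node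 (.leaf 16493642903094) (.leaf 51679171609094)) (.node (.leaf 34085828951862) (.leaf 69270812672774)))))))

/-- Part of a collection table. -/
def tblHe_2_3 : Trie := (.node (.node (.node (.node (.node (.node (.leaf 7) (.leaf 35184372089143)) (.node (.leaf 17592186044679) (.leaf 52777103394871))) (.node (.node (.leaf 8796093022375) (.leaf 43980815271063)) (.node (.leaf 26388279067047) (.leaf 61573529798039)))) (.node (.node (.node (.leaf 4398046511959) (.leaf 39584216599399)) (.node (.leaf 21990232562263) (.leaf 57175874163303))) (.node (.node (.leaf 13194167728887) (.leaf 48380109395911)) (.node (.leaf 30786353769463) (.leaf 65972840697543))))) (.node (.node (.node (.node (.leaf 2199023255591) (.leaf 37383495756503)) (.node (.leaf 19791209300263) (.leaf 54976210037719))) (.node (.node (.leaf 10995117326471) (.leaf 46179777426295)) (.node (.leaf 28587303371143) (.leaf 63772509010551)))) (.node (.node (.node (.leaf 6597137863863) (.leaf 41781757897543)) (.node (.leaf 24189323908535) (.leaf 59374472143431))) (.node (.node (.leaf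 15393236137239) (.leaf 50578192818151)) (.node (.leaf 32985422183447) (.leaf 68169850099431)))))) (.node (.node (.node (.node (.node (.leaf 1099511628583) (.leaf 36285588693207)) (.node (.leaf 18691697678887) (.leaf 53877229478359))) (.node (.node (.leaf 9895631136839) (.leaf 45080131150519)) (.node (.leaf 27487817181511) (.leaf 62672862458807)))) (.node (.node (.node (.leaf 5499236365687) (.leaf 40683202438023)) (.node (.leaf 23091422411895) (.leaf 58275916970631))) (.node (.node (.leaf 14295340896023) (.leaf 49478144404711)) (.node (.leaf 31887526942231) (.leaf 67070875708903))))) (.node (.node (.node (.node (.leaf 3298561376711) (.leaf 38483856022007)) (.node (.leaf 20890747422919) (.leaf 56075497046263))) (.node (.node (.leaf 12094652297895) (.leaf 47280431107991)) (.node (.leaf 29686838338471) (.leaf 64873162163863)))) (.node (.node (.node (.leaf 7697547740247) (.leaf 42881806253415)) (.node (.leaf 25289733784919) (.leaf 60473446786151))) (.node (.node (.leaf 16493642903095) (.leaf 51679171609095)) (.node (.leaf 34085828951863)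 (.leaf 69270812672775)))))))

/-- Part of a collection table. -/
def tblHe_2_4 : Trie := (.node (.node (.node (.node (.node (.node (.leaf 274877906976) (.leaf 35459350407888)) (.node (.leaf 17867063951648) (.leaf 53052064689104))) (.node (.node (.leaf 9070971977856) (.leaf 44255632077680)) (.node (.leaf 26663158022528) (.leaf 61848363661936)))) (.node (.node (.node (.leaf 4672992515248) (.leaf 39857612548928)) (.node (.leaf 22265178559920) (.leaf 57450326794816))) (.node (.node (.leaf 13469090788624) (.leaf 48654047469536)) (.node (.leaf 31061276834832) (.leaf 66245704750816))))) (.node (.node (.node (.node (.leaf 2473902211072) (.leaf 37658274300208)) (.node (.leaf 20066088255744) (.leaf 55251005605936))) (.node (.node (.leaf 11269995233440) (.leaf 46454715384976)) (.node (.leaf 28862181278112) (.leaf 64047429911952)))) (.node (.node (.node (.leaf 6871948723024) (.leaf 42058118810464)) (.node (.leaf 24464134773328) (.leaf 59649776374368))) (.node (.node (.leaf 15668069939952) (.leaf 50854009509824)) (.node (.leaf 33260255980528)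 (.leaf 68446740811456)))))) (.node (.node (.node (.node (.node (.leaf 1374390584064) (.leaf 36560379900720)) (.node (.leaf 18966576634368) (.leaf 54152037186096))) (.node (.node (.leaf 10170509043808) (.leaf 45355069165904)) (.node (.leaf 27762695088480) (.leaf 62947783936080)))) (.node (.node (.node (.leaf 5774048182928) (.leaf 40957651091360)) (.node (.leaf 23366234231696) (.leaf 58549308372640))) (.node (.node (.leaf 14570162039024) (.leaf 49755034463424)) (.node (.leaf 32162348083696) (.leaf 67346691784128))))) (.node (.node (.node (.node (.leaf 3573439283680) (.leaf 38758814711312)) (.node (.leaf 21165625329888) (.leaf 56350472269584))) (.node (.node (.leaf 12369529156224) (.leaf 47555231336560)) (.node (.leaf 29961715196800) (.leaf 65147945863536)))) (.node (.node (.node (.leaf 7972492564400) (.leaf 43157092462912)) (.node (.leaf 25564678606512) (.leaf 60749823768640))) (.node (.node (.leaf 16768563166672) (.leaf 51952035922464)) (.node (.leaf 34360749208784) (.leaf 69544750453536)))))))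

/-- Part of a collection table. -/
def tblHe_2_5 : Trie := (.node (.node (.node (.node (.node (.node (.leaf 274877906977) (.leaf 35459350407889)) (.node (.leaf 17867063951649) (.leaf 53052064689105))) (.node (.node (.leaf 9070971977857) (.leaf 44255632077681)) (.node (.leaf 26663158022529) (.leaf 61848363661937)))) (.node (.node (.node (.leaf 4672992515249) (.leaf 39857612548929)) (.node (.leaf 22265178559921) (.leaf 57450326794817))) (.node (.node (.leaf 13469090788625) (.leaf 48654047469537)) (.node (.leaf 31061276834833) (.leaf 66245704750817))))) (.node (.node (.node (.node (.leaf 2473902211073) (.leaf 37658274300209)) (.node (.leaf 20066088255745) (.leaf 55251005605937))) (.node (.node (.leaf 11269995233441) (.leaf 46454715384977)) (.node (.leaf 28862181278113) (.leaf 64047429911953)))) (.node (.node (.node (.leaf 6871948723025) (.leaf 42058118810465)) (.node (.leaf 24464134773329) (.leaf 59649776374369))) (.node (.node (.leaf 15668069939953) (.leaf 50854009509825)) (.node (.leaf 33260255980529) (.leaf 68446740811457))))))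 (.node (.node (.node (.node (.node (.leaf 1374390584065) (.leaf 36560379900721)) (.node (.leaf 18966576634369) (.leaf 54152037186097))) (.node (.node (.leaf 10170509043809) (.leaf 45355069165905)) (.node (.leaf 27762695088481) (.leaf 62947783936081)))) (.node (.node (.node (.leaf 5774048182929) (.leaf 40957651091361)) (.node (.leaf 23366234231697) (.leaf 58549308372641))) (.node (.node (.leaf 14570162039025) (.leaf 49755034463425)) (.node (.leaf 32162348083697) (.leaf 67346691784129))))) (.node (.node (.node (.node (.leaf 3573439283681) (.leaf 38758814711313)) (.node (.leaf 21165625329889) (.leaf 56350472269585))) (.node (.node (.leaf 12369529156225) (.leaf 47555231336561)) (.node (.leaf 29961715196801) (.leaf 65147945863537)))) (.node (.node (.node (.leaf 7972492564401) (.leaf 43157092462913)) (.node (.leaf 25564678606513) (.leaf 60749823768641))) (.node (.node (.leaf 16768563166673) (.leaf 51952035922465)) (.node (.leaf 34360749208785) (.leaf 69544750453537)))))))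

/-- Part of a collection table. -/
def tblHe_2_6 : Trie := (.node (.node (.node (.node (.node (.node (.leaf 274877906978) (.leaf 35459350407890)) (.node (.leaf 17867063951650) (.leaf 53052064689106))) (.node (.node (.leaf 9070971977858) (.leaf 44255632077682)) (.node (.leaf 26663158022530) (.leaf 61848363661938)))) (.node (.node (.node (.leaf 4672992515250) (.leaf 39857612548930)) (.node (.leaf 22265178559922) (.leaf 57450326794818))) (.node (.node (.leaf 13469090788626) (.leaf 48654047469538)) (.node (.leaf 31061276834834) (.leaf 66245704750818))))) (.node (.node (.node (.node (.leaf 2473902211074) (.leaf 37658274300210)) (.node (.leaf 20066088255746) (.leaf 55251005605938))) (.node (.node (.leaf 11269995233442) (.leaf 46454715384978)) (.node (.leaf 28862181278114) (.leaf 64047429911954)))) (.node (.node (.node (.leaf 6871948723026) (.leaf 42058118810466)) (.node (.leaf 24464134773330) (.leaf 59649776374370))) (.node (.node (.leaf 15668069939954) (.leaf 50854009509826)) (.node (.leaf 33260255980530) (.leaf 68446740811458))))))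 (.node (.node (.node (.node (.node (.leaf 1374390584066) (.leaf 36560379900722)) (.node (.leaf 18966576634370) (.leaf 54152037186098))) (.node (.node (.leaf 10170509043810) (.leaf 45355069165906)) (.node (.leaf 27762695088482) (.leaf 62947783936082)))) (.node (.node (.node (.leaf 5774048182930) (.leaf 40957651091362)) (.node (.leaf 23366234231698) (.leaf 58549308372642))) (.node (.node (.leaf 14570162039026) (.leaf 49755034463426)) (.node (.leaf 32162348083698) (.leaf 67346691784130))))) (.node (.node (.node (.node (.leaf 3573439283682) (.leaf 38758814711314)) (.node (.leaf 21165625329890) (.leaf 56350472269586))) (.node (.node (.leaf 12369529156226) (.leaf 47555231336562)) (.node (.leaf 29961715196802) (.leaf 65147945863538)))) (.node (.node (.node (.leaf 7972492564402) (.leaf 43157092462914)) (.node (.leaf 25564678606514) (.leaf 60749823768642))) (.node (.node (.leaf 16768563166674) (.leaf 51952035922466)) (.node (.leaf 34360749208786) (.leaf 69544750453538)))))))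

/-- Part of a collection table. -/
def tblHe_2_7 : Trie := (.node (.node (.node (.node (.node (.node (.leaf 274877906979) (.leaf 35459350407891)) (.node (.leaf 17867063951651) (.leaf 53052064689107))) (.node (.node (.leaf 9070971977859) (.leaf 44255632077683)) (.node (.leaf 26663158022531) (.leaf 61848363661939)))) (.node (.node (.node (.leaf 4672992515251) (.leaf 39857612548931)) (.node (.leaf 22265178559923) (.leaf 57450326794819))) (.node (.node (.leaf 13469090788627) (.leaf 48654047469539)) (.node (.leaf 31061276834835) (.leaf 66245704750819))))) (.node (.node (.node (.node (.leaf 2473902211075) (.leaf 37658274300211)) (.node (.leaf 20066088255747) (.leaf 55251005605939))) (.node (.node (.leaf 11269995233443) (.leaf 46454715384979)) (.node (.leaf 28862181278115) (.leaf 64047429911955)))) (.node (.node (.node (.leaf 6871948723027) (.leaf 42058118810467)) (.node (.leaf 24464134773331) (.leaf 59649776374371))) (.node (.node (.leaf 15668069939955) (.leaf 50854009509827)) (.node (.leaf 33260255980531) (.leaf 68446740811459))))))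 (.node (.node (.node (.node (.node (.leaf 1374390584067) (.leaf 36560379900723)) (.node (.leaf 18966576634371) (.leaf 54152037186099))) (.node (.node (.leaf 10170509043811) (.leaf 45355069165907)) (.node (.leaf 27762695088483) (.leaf 62947783936083)))) (.node (.node (.node (.leaf 5774048182931) (.leaf 40957651091363)) (.node (.leaf 23366234231699) (.leaf 58549308372643))) (.node (.node (.leaf 14570162039027) (.leaf 49755034463427)) (.node (.leaf 32162348083699) (.leaf 67346691784131))))) (.node (.node (.node (.node (.leaf 3573439283683) (.leaf 38758814711315)) (.node (.leaf 21165625329891) (.leaf 56350472269587))) (.node (.node (.leaf 12369529156227) (.leaf 47555231336563)) (.node (.leaf 29961715196803) (.leaf 65147945863539)))) (.node (.node (.node (.leaf 7972492564403) (.leaf 43157092462915)) (.node (.leaf 25564678606515) (.leaf 60749823768643))) (.node (.node (.leaf 16768563166675) (.leaf 51952035922467)) (.node (.leaf 34360749208787) (.leaf 69544750453539)))))))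

/-- Part of a collection table. -/
def tblHe_2_8 : Trie := (.node (.node (.node (.node (.node (.node (.leaf 549755813900) (.leaf 35734127903036)) (.node (.leaf 18141941858572) (.leaf 53326859208764))) (.node (.node (.leaf 9345848836268) (.leaf 44530571084956)) (.node (.leaf 26938034880940) (.leaf 62123285611932)))) (.node (.node (.node (.leaf 4947802325852) (.leaf 40133972413292)) (.node (.leaf 22539988376156) (.leaf 57725629977196))) (.node (.node (.leaf 13743923542780) (.leaf 48929865209804)) (.node (.leaf 31336109583356) (.leaf 66522596511436))))) (.node (.node (.node (.node (.leaf 2748779069484) (.leaf 37933251570396)) (.node (.leaf 20340965114156) (.leaf 55525965851612))) (.node (.node (.leaf 11544873140364) (.leaf 46729533240188)) (.node (.leaf 29137059185036) (.leaf 64322264824444)))) (.node (.node (.node (.leaf 7146893677756) (.leaf 42331513711436)) (.node (.leaf 24739079722428) (.leaf 59924227957324))) (.node (.node (.leaf 15942991951132) (.leaf 51127948632044)) (.node (.leaf 33535177997340) (.leaf 68719605913324))))))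 (.node (.node (.node (.node (.node (.leaf 1649267442476) (.leaf 36835344507100)) (.node (.leaf 19241453492780) (.leaf 54426985292252))) (.node (.node (.leaf 10445386950732) (.leaf 45629886964412)) (.node (.leaf 28037572995404) (.leaf 63222618272700)))) (.node (.node (.node (.leaf 6048992179580) (.leaf 41232958251916)) (.node (.leaf 23641178225788) (.leaf 58825672784524))) (.node (.node (.leaf 14845096709916) (.leaf 50027900218604)) (.node (.leaf 32437282756124) (.leaf 67620631522796))))) (.node (.node (.node (.node (.leaf 3848317190604) (.leaf 39033611835900)) (.node (.leaf 21440503236812) (.leaf 56625252860156))) (.node (.node (.leaf 12644408111788) (.leaf 47830186921884)) (.node (.leaf 30236594152364) (.leaf 65422917977756)))) (.node (.node (.node (.leaf 8247303554140) (.leaf 43431562067308)) (.node (.leaf 25839489598812) (.leaf 61023202600044))) (.node (.node (.leaf 17043398716988) (.leaf 52228927422988)) (.node (.leaf 34635584765756) (.leaf 69820568486668)))))))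

/-- Part of a collection table. -/
def tblHe_2_9 : Trie := (.node (.node (.node (.node (.node (.node (.leaf 549755813901) (.leaf 35734127903037)) (.node (.leaf 18141941858573) (.leaf 53326859208765))) (.node (.node (.leaf 9345848836269) (.leaf 44530571084957)) (.node (.leaf 26938034880941) (.leaf 62123285611933)))) (.node (.node (.node (.leaf 4947802325853) (.leaf 40133972413293)) (.node (.leaf 22539988376157) (.leaf 57725629977197))) (.node (.node (.leaf 13743923542781) (.leaf 48929865209805)) (.node (.leaf 31336109583357) (.leaf 66522596511437))))) (.node (.node (.node (.node (.leaf 2748779069485) (.leaf 37933251570397)) (.node (.leaf 20340965114157) (.leaf 55525965851613))) (.node (.node (.leaf 11544873140365) (.leaf 46729533240189)) (.node (.leaf 29137059185037) (.leaf 64322264824445)))) (.node (.node (.node (.leaf 7146893677757) (.leaf 42331513711437)) (.node (.leaf 24739079722429) (.leaf 59924227957325))) (.node (.node (.leaf 15942991951133) (.leaf 51127948632045)) (.node (.leaf 33535177997341) (.leaf 68719605913325))))))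 (.node (.node (.node (.node (.node (.leaf 1649267442477) (.leaf 36835344507101)) (.node (.leaf 19241453492781) (.leaf 54426985292253))) (.node (.node (.leaf 10445386950733) (.leaf 45629886964413)) (.node (.leaf 28037572995405) (.leaf 63222618272701)))) (.node (.node (.node (.leaf 6048992179581) (.leaf 41232958251917)) (.node (.leaf 23641178225789) (.leaf 58825672784525))) (.node (.node (.leaf 14845096709917) (.leaf 50027900218605)) (.node (.leaf 32437282756125) (.leaf 67620631522797))))) (.node (.node (.node (.node (.leaf 3848317190605) (.leaf 39033611835901)) (.node (.leaf 21440503236813) (.leaf 56625252860157))) (.node (.node (.leaf 12644408111789) (.leaf 47830186921885)) (.node (.leaf 30236594152365) (.leaf 65422917977757)))) (.node (.node (.node (.leaf 8247303554141) (.leaf 43431562067309)) (.node (.leaf 25839489598813) (.leaf 61023202600045))) (.node (.node (.leaf 17043398716989) (.leaf 52228927422989)) (.node (.leaf 34635584765757) (.leaf 69820568486669)))))))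

/-- Part of a collection table. -/
def tblHe_2_10 : Trie := (.node (.node (.node (.node (.node (.node (.leaf 549755813902) (.leaf 35734127903038)) (.node (.leaf 18141941858574) (.leaf 53326859208766))) (.node (.node (.leaf 9345848836270) (.leaf 44530571084958)) (.node (.leaf 26938034880942) (.leaf 62123285611934)))) (.node (.node (.node (.leaf 4947802325854) (.leaf 40133972413294)) (.node (.leaf 22539988376158) (.leaf 57725629977198))) (.node (.node (.leaf 13743923542782) (.leaf 48929865209806)) (.node (.leaf 31336109583358) (.leaf 66522596511438))))) (.node (.node (.node (.node (.leaf 2748779069486) (.leaf 37933251570398)) (.node (.leaf 20340965114158) (.leaf 55525965851614))) (.node (.node (.leaf 11544873140366) (.leaf 46729533240190)) (.node (.leaf 29137059185038) (.leaf 64322264824446)))) (.node (.node (.node (.leaf 7146893677758) (.leaf 42331513711438)) (.node (.leaf 24739079722430) (.leaf 59924227957326))) (.node (.node (.leaf 15942991951134) (.leaf 51127948632046)) (.node (.leaf 33535177997342) (.leaf 68719605913326))))))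 (.node (.node (.node (.node (.node (.leaf 1649267442478) (.leaf 36835344507102)) (.node (.leaf 19241453492782) (.leaf 54426985292254))) (.node (.node (.leaf 10445386950734) (.leaf 45629886964414)) (.node (.leaf 28037572995406) (.leaf 63222618272702)))) (.node (.node (.node (.leaf 6048992179582) (.leaf 41232958251918)) (.node (.leaf 23641178225790) (.leaf 58825672784526))) (.node (.node (.leaf 14845096709918) (.leaf 50027900218606)) (.node (.leaf 32437282756126) (.leaf 67620631522798))))) (.node (.node (.node (.node (.leaf 3848317190606) (.leaf 39033611835902)) (.node (.leaf 21440503236814) (.leaf 56625252860158))) (.node (.node (.leaf 12644408111790) (.leaf 47830186921886)) (.node (.leaf 30236594152366) (.leaf 65422917977758)))) (.node (.node (.node (.leaf 8247303554142) (.leaf 43431562067310)) (.node (.leaf 25839489598814) (.leaf 61023202600046))) (.node (.node (.leaf 17043398716990) (.leaf 52228927422990)) (.node (.leaf 34635584765758) (.leaf 69820568486670)))))))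

/-- Part of a collection table. -/
def tblHe_2_11 : Trie := (.node (.node (.node (.node (.node (.node (.leaf 549755813903) (.leaf 35734127903039)) (.node (.leaf 18141941858575) (.leaf 53326859208767))) (.node (.node (.leaf 9345848836271) (.leaf 44530571084959)) (.node (.leaf 26938034880943) (.leaf 62123285611935)))) (.node (.node (.node (.leaf 4947802325855) (.leaf 40133972413295)) (.node (.leaf 22539988376159) (.leaf 57725629977199))) (.node (.node (.leaf 13743923542783) (.leaf 48929865209807)) (.node (.leaf 31336109583359) (.leaf 66522596511439))))) (.node (.node (.node (.node (.leaf 2748779069487) (.leaf 37933251570399)) (.node (.leaf 20340965114159) (.leaf 55525965851615))) (.node (.node (.leaf 11544873140367) (.leaf 46729533240191)) (.node (.leaf 29137059185039) (.leaf 64322264824447)))) (.node (.node (.node (.leaf 7146893677759) (.leaf 42331513711439)) (.node (.leaf 24739079722431) (.leaf 59924227957327))) (.node (.node (.leaf 15942991951135) (.leaf 51127948632047)) (.node (.leaf 33535177997343) (.leaf 68719605913327))))))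 (.node (.node (.node (.node (.node (.leaf 1649267442479) (.leaf 36835344507103)) (.node (.leaf 19241453492783) (.leaf 54426985292255))) (.node (.node (.leaf 10445386950735) (.leaf 45629886964415)) (.node (.leaf 28037572995407) (.leaf 63222618272703)))) (.node (.node (.node (.leaf 6048992179583) (.leaf 41232958251919)) (.node (.leaf 23641178225791) (.leaf 58825672784527))) (.node (.node (.leaf 14845096709919) (.leaf 50027900218607)) (.node (.leaf 32437282756127) (.leaf 67620631522799))))) (.node (.node (.node (.node (.leaf 3848317190607) (.leaf 39033611835903)) (.node (.leaf 21440503236815) (.leaf 56625252860159))) (.node (.node (.leaf 12644408111791) (.leaf 47830186921887)) (.node (.leaf 30236594152367) (.leaf 65422917977759)))) (.node (.node (.node (.leaf 8247303554143) (.leaf 43431562067311)) (.node (.leaf 25839489598815) (.leaf 61023202600047))) (.node (.node (.leaf 17043398716991) (.leaf 52228927422991)) (.node (.leaf 34635584765759) (.leaf 69820568486671)))))))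

/-- Part of a collection table. -/
def tblHe_2_12 : Trie := (.node (.node (.node (.node (.node (.node (.leaf 833223655464) (.leaf 36017696156376)) (.node (.leaf 18425409700136) (.leaf 53610410437592))) (.node (.node (.leaf 9629317726344) (.leaf 44813977826168)) (.node (.leaf 27221503771016) (.leaf 62406709410424)))) (.node (.node (.node (.leaf 5231338263736) (.leaf 40415958297416)) (.node (.leaf 22823524308408) (.leaf 58008672543304))) (.node (.node (.leaf 14027436537112) (.leaf 49212393218024)) (.node (.leaf 31619622583320) (.leaf 66804050499304))))) (.node (.node (.node (.node (.leaf 3032247959560) (.leaf 38216620048696)) (.node (.leaf 20624434004232) (.leaf 55809351354424))) (.node (.node (.leaf 11828340981928) (.leaf 47013061133464)) (.node (.leaf 29420527026600) (.leaf 64605775660440)))) (.node (.node (.node (.leaf 7430294471512) (.leaf 42616464558952)) (.node (.leaf 25022480521816) (.leaf 60208122122856))) (.node (.node (.leaf 16226415688440) (.leaf 51412355258312)) (.node (.leaf 33818601729016) (.leaf 69005086559944))))))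 (.node (.node (.node (.node (.node (.leaf 1932736332552) (.leaf 37118725649208)) (.node (.leaf 19524922382856) (.leaf 54710382934584))) (.node (.node (.leaf 10728854792296) (.leaf 45913414914392)) (.node (.leaf 28321040836968) (.leaf 63506129684568)))) (.node (.node (.node (.leaf 6332393931416) (.leaf 41515996839848)) (.node (.leaf 23924579980184) (.leaf 59107654121128))) (.node (.node (.leaf 15128507787512) (.leaf 50313380211912)) (.node (.leaf 32720693832184) (.leaf 67905037532616))))) (.node (.node (.node (.node (.leaf 4131785032168) (.leaf 39317160459800)) (.node (.leaf 21723971078376) (.leaf 56908818018072))) (.node (.node (.leaf 12927874904712) (.leaf 48113577085048)) (.node (.leaf 30520060945288) (.leaf 65706291612024)))) (.node (.node (.node (.leaf 8530838312888) (.leaf 43715438211400)) (.node (.leaf 26123024355000) (.leaf 61308169517128))) (.node (.node (.leaf 17326908915160) (.leaf 52510381670952)) (.node (.leaf 34919094957272) (.leaf 70103096202024)))))))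

/-- Part of a collection table. -/
def tblHe_2_13 : Trie := (.node (.node (.node (.node (.node (.node (.leaf 833223655465) (.leaf 36017696156377)) (.node (.leaf 18425409700137) (.leaf 53610410437593))) (.node (.node (.leaf 9629317726345) (.leaf 44813977826169)) (.node (.leaf 27221503771017) (.leaf 62406709410425)))) (.node (.node (.node (.leaf 5231338263737) (.leaf 40415958297417)) (.node (.leaf 22823524308409) (.leaf 58008672543305))) (.node (.node (.leaf 14027436537113) (.leaf 49212393218025)) (.node (.leaf 31619622583321) (.leaf 66804050499305))))) (.node (.node (.node (.node (.leaf 3032247959561) (.leaf 38216620048697)) (.node (.leaf 20624434004233) (.leaf 55809351354425))) (.node (.node (.leaf 11828340981929) (.leaf 47013061133465)) (.node (.leaf 29420527026601) (.leaf 64605775660441)))) (.node (.node (.node (.leaf 7430294471513) (.leaf 42616464558953)) (.node (.leaf 25022480521817) (.leaf 60208122122857))) (.node (.node (.leaf 16226415688441) (.leaf 51412355258313)) (.node (.leaf 33818601729017) (.leaf 69005086559945))))))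 (.node (.node (.node (.node (.node (.leaf 1932736332553) (.leaf 37118725649209)) (.node (.leaf 19524922382857) (.leaf 54710382934585))) (.node (.node (.leaf 10728854792297) (.leaf 45913414914393)) (.node (.leaf 28321040836969) (.leaf 63506129684569)))) (.node (.node (.node (.leaf 6332393931417) (.leaf 41515996839849)) (.node (.leaf 23924579980185) (.leaf 59107654121129))) (.node (.node (.leaf 15128507787513) (.leaf 50313380211913)) (.node (.leaf 32720693832185) (.leaf 67905037532617))))) (.node (.node (.node (.node (.leaf 4131785032169) (.leaf 39317160459801)) (.node (.leaf 21723971078377) (.leaf 56908818018073))) (.node (.node (.leaf 12927874904713) (.leaf 48113577085049)) (.node (.leaf 30520060945289) (.leaf 65706291612025)))) (.node (.node (.node (.leaf 8530838312889) (.leaf 43715438211401)) (.node (.leaf 26123024355001) (.leaf 61308169517129))) (.node (.node (.leaf 17326908915161) (.leaf 52510381670953)) (.node (.leaf 34919094957273) (.leaf 70103096202025)))))))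

/-- Part of a collection table. -/
def tblHe_2_14 : Trie := (.node (.node (.node (.node (.node (.node (.leaf 833223655466) (.leaf 36017696156378)) (.node (.leaf 18425409700138) (.leaf 53610410437594))) (.node (.node (.leaf 9629317726346) (.leaf 44813977826170)) (.node (.leaf 27221503771018) (.leaf 62406709410426)))) (.node (.node (.node (.leaf 5231338263738) (.leaf 40415958297418)) (.node (.leaf 22823524308410) (.leaf 58008672543306))) (.node (.node (.leaf 14027436537114) (.leaf 49212393218026)) (.node (.leaf 31619622583322) (.leaf 66804050499306))))) (.node (.node (.node (.node (.leaf 3032247959562) (.leaf 38216620048698)) (.node (.leaf 20624434004234) (.leaf 55809351354426))) (.node (.node (.leaf 11828340981930) (.leaf 47013061133466)) (.node (.leaf 29420527026602) (.leaf 64605775660442)))) (.node (.node (.node (.leaf 7430294471514) (.leaf 42616464558954)) (.node (.leaf 25022480521818) (.leaf 60208122122858))) (.node (.node (.leaf 16226415688442) (.leaf 51412355258314)) (.node (.leaf 33818601729018) (.leaf 69005086559946))))))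 (.node (.node (.node (.node (.node (.leaf 1932736332554) (.leaf 37118725649210)) (.node (.leaf 19524922382858) (.leaf 54710382934586))) (.node (.node (.leaf 10728854792298) (.leaf 45913414914394)) (.node (.leaf 28321040836970) (.leaf 63506129684570)))) (.node (.node (.node (.leaf 6332393931418) (.leaf 41515996839850)) (.node (.leaf 23924579980186) (.leaf 59107654121130))) (.node (.node (.leaf 15128507787514) (.leaf 50313380211914)) (.node (.leaf 32720693832186) (.leaf 67905037532618))))) (.node (.node (.node (.node (.leaf 4131785032170) (.leaf 39317160459802)) (.node (.leaf 21723971078378) (.leaf 56908818018074))) (.node (.node (.leaf 12927874904714) (.leaf 48113577085050)) (.node (.leaf 30520060945290) (.leaf 65706291612026)))) (.node (.node (.node (.leaf 8530838312890) (.leaf 43715438211402)) (.node (.leaf 26123024355002) (.leaf 61308169517130))) (.node (.node (.leaf 17326908915162) (.leaf 52510381670954)) (.node (.leaf 34919094957274) (.leaf 70103096202026)))))))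

/-- Part of a collection table. -/
def tblHe_2_15 : Trie := (.node (.node (.node (.node (.node (.node (.leaf 833223655467) (.leaf 36017696156379)) (.node (.leaf 18425409700139) (.leaf 53610410437595))) (.node (.node (.leaf 9629317726347) (.leaf 44813977826171)) (.node (.leaf 27221503771019) (.leaf 62406709410427)))) (.node (.node (.node (.leaf 5231338263739) (.leaf 40415958297419)) (.node (.leaf 22823524308411) (.leaf 58008672543307))) (.node (.node (.leaf 14027436537115) (.leaf 49212393218027)) (.node (.leaf 31619622583323) (.leaf 66804050499307))))) (.node (.node (.node (.node (.leaf 3032247959563) (.leaf 38216620048699)) (.node (.leaf 20624434004235) (.leaf 55809351354427))) (.node (.node (.leaf 11828340981931) (.leaf 47013061133467)) (.node (.leaf 29420527026603) (.leaf 64605775660443)))) (.node (.node (.node (.leaf 7430294471515) (.leaf 42616464558955)) (.node (.leaf 25022480521819) (.leaf 60208122122859))) (.node (.node (.leaf 16226415688443) (.leaf 51412355258315)) (.node (.leaf 33818601729019) (.leaf 69005086559947))))))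 (.node (.node (.node (.node (.node (.leaf 1932736332555) (.leaf 37118725649211)) (.node (.leaf 19524922382859) (.leaf 54710382934587))) (.node (.node (.leaf 10728854792299) (.leaf 45913414914395)) (.node (.leaf 28321040836971) (.leaf 63506129684571)))) (.node (.node (.node (.leaf 6332393931419) (.leaf 41515996839851)) (.node (.leaf 23924579980187) (.leaf 59107654121131))) (.node (.node (.leaf 15128507787515) (.leaf 50313380211915)) (.node (.leaf 32720693832187) (.leaf 67905037532619))))) (.node (.node (.node (.node (.leaf 4131785032171) (.leaf 39317160459803)) (.node (.leaf 21723971078379) (.leaf 56908818018075))) (.node (.node (.leaf 12927874904715) (.leaf 48113577085051)) (.node (.leaf 30520060945291) (.leaf 65706291612027)))) (.node (.node (.node (.leaf 8530838312891) (.leaf 43715438211403)) (.node (.leaf 26123024355003) (.leaf 61308169517131))) (.node (.node (.leaf 17326908915163) (.leaf 52510381670955)) (.node (.leaf 34919094957275) (.leaf 70103096202027)))))))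

/-- Part of a collection table. -/
def tblHe_3_0 : Trie := (.node (.node (.node (.node (.node (.node (.leaf 8) (.leaf 137438954488)) (.node (.leaf 68719477000) (.leaf 206703971064))) (.node (.node (.leaf 34359738792) (.leaf 172677230424)) (.node (.leaf 103079217320) (.leaf 240867944024)))) (.node (.node (.node (.leaf 17179869336) (.leaf 154933997160)) (.node (.leaf 85899346328) (.leaf 224182234984))) (.node (.node (.leaf 51543812152) (.leaf 189107791816)) (.node (.leaf 120263289144) (.leaf 258355998408))))) (.node (.node (.node (.node (.leaf 8589934632) (.leaf 146128751640)) (.node (.leaf 77309411624) (.leaf 215376710936))) (.node (.node (.leaf 42950721928) (.leaf 181222470840)) (.node (.leaf 111670200456) (.leaf 249396688312)))) (.node (.node (.node (.leaf 25836972920) (.leaf 165007330888)) (.node (.leaf 94556451448) (.leaf 233198329672))) (.node (.node (.leaf 60225930200) (.leaf 199711588328)) (.node (.leaf 128945412824) (.leaf 267885799144)))))) (.node (.node (.node (.node (.node (.leaf 4294967528) (.leaf 142211901912)) (.node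 (.leaf 73014444520) (.leaf 211476361432))) (.node (.node (.leaf 38662058632) (.leaf 177464838840)) (.node (.leaf 107381531528) (.leaf 246713076664)))) (.node (.node (.node (.leaf 21944941944) (.leaf 159783865672)) (.node (.leaf 90664416376) (.leaf 227957806152))) (.node (.node (.leaf 56316255768) (.leaf 194879508264)) (.node (.leaf 125035728664) (.leaf 264127710760))))) (.node (.node (.node (.node (.leaf 12892285448) (.leaf 151407854840)) (.node (.leaf 81611766536) (.leaf 220655814136))) (.node (.node (.leaf 47268790376) (.leaf 184887868312)) (.node (.leaf 115988267368) (.leaf 254152598168)))) (.node (.node (.node (.leaf 31145902168) (.leaf 168765995944)) (.node (.leaf 99865379160) (.leaf 238030725800))) (.node (.node (.leaf 65503525688) (.leaf 202531375560)) (.node (.leaf 134222996024) (.leaf 270705590472)))))))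

/-- Part of a collection table. -/
def tblHe_3_1 : Trie := (.node (.node (.node (.node (.node (.node (.leaf 9) (.leaf 137438954489)) (.node (.leaf 68719477001) (.leaf 206703971065))) (.node (.node (.leaf 34359738793) (.leaf 172677230425)) (.node (.leaf 103079217321) (.leaf 240867944025)))) (.node (.node (.node (.leaf 17179869337) (.leaf 154933997161)) (.node (.leaf 85899346329) (.leaf 224182234985))) (.node (.node (.leaf 51543812153) (.leaf 189107791817)) (.node (.leaf 120263289145) (.leaf 258355998409))))) (.node (.node (.node (.node (.leaf 8589934633) (.leaf 146128751641)) (.node (.leaf 77309411625) (.leaf 215376710937))) (.node (.node (.leaf 42950721929) (.leaf 181222470841)) (.node (.leaf 111670200457) (.leaf 249396688313)))) (.node (.node (.node (.leaf 25836972921) (.leaf 165007330889)) (.node (.leaf 94556451449) (.leaf 233198329673))) (.node (.node (.leaf 60225930201) (.leaf 199711588329)) (.node (.leaf 128945412825) (.leaf 267885799145)))))) (.node (.node (.node (.node (.node (.leaf 4294967529) (.leaf 142211901913)) (.node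 (.leaf 73014444521) (.leaf 211476361433))) (.node (.node (.leaf 38662058633) (.leaf 177464838841)) (.node (.leaf 107381531529) (.leaf 246713076665)))) (.node (.node (.node (.leaf 21944941945) (.leaf 159783865673)) (.node (.leaf 90664416377) (.leaf 227957806153))) (.node (.node (.leaf 56316255769) (.leaf 194879508265)) (.node (.leaf 125035728665) (.leaf 264127710761))))) (.node (.node (.node (.node (.leaf 12892285449) (.leaf 151407854841)) (.node (.leaf 81611766537) (.leaf 220655814137))) (.node (.node (.leaf 47268790377) (.leaf 184887868313)) (.node (.leaf 115988267369) (.leaf 254152598169)))) (.node (.node (.node (.leaf 31145902169) (.leaf 168765995945)) (.node (.leaf 99865379161) (.leaf 238030725801))) (.node (.node (.leaf 65503525689) (.leaf 202531375561)) (.node (.leaf 134222996025) (.leaf 270705590473)))))))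

/-- Part of a collection table. -/
def tblHe_3_2 : Trie := (.node (.node (.node (.node (.node (.node (.leaf 10) (.leaf 137438954490)) (.node (.leaf 68719477002) (.leaf 206703971066))) (.node (.node (.leaf 34359738794) (.leaf 172677230426)) (.node (.leaf 103079217322) (.leaf 240867944026)))) (.node (.node (.node (.leaf 17179869338) (.leaf 154933997162)) (.node (.leaf 85899346330) (.leaf 224182234986))) (.node (.node (.leaf 51543812154) (.leaf 189107791818)) (.node (.leaf 120263289146) (.leaf 258355998410))))) (.node (.node (.node (.node (.leaf 8589934634) (.leaf 146128751642)) (.node (.leaf 77309411626) (.leaf 215376710938))) (.node (.node (.leaf 42950721930) (.leaf 181222470842)) (.node (.leaf 111670200458) (.leaf 249396688314)))) (.node (.node (.node (.leaf 25836972922) (.leaf 165007330890)) (.node (.leaf 94556451450) (.leaf 233198329674))) (.node (.node (.leaf 60225930202) (.leaf 199711588330)) (.node (.leaf 128945412826) (.leaf 267885799146)))))) (.node (.node (.node (.node (.node (.leaf 4294967530) (.leaf 142211901914)) (.node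 (.leaf 73014444522) (.leaf 211476361434))) (.node (.node (.leaf 38662058634) (.leaf 177464838842)) (.node (.leaf 107381531530) (.leaf 246713076666)))) (.node (.node (.node (.leaf 21944941946) (.leaf 159783865674)) (.node (.leaf 90664416378) (.leaf 227957806154))) (.node (.node (.leaf 56316255770) (.leaf 194879508266)) (.node (.leaf 125035728666) (.leaf 264127710762))))) (.node (.node (.node (.node (.leaf 12892285450) (.leaf 151407854842)) (.node (.leaf 81611766538) (.leaf 220655814138))) (.node (.node (.leaf 47268790378) (.leaf 184887868314)) (.node (.leaf 115988267370) (.leaf 254152598170)))) (.node (.node (.node (.leaf 31145902170) (.leaf 168765995946)) (.node (.leaf 99865379162) (.leaf 238030725802))) (.node (.node (.leaf 65503525690) (.leaf 202531375562)) (.node (.leaf 134222996026) (.leaf 270705590474)))))))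

/-- Part of a collection table. -/
def tblHe_3_3 : Trie := (.node (.node (.node (.node (.node (.node (.leaf 11) (.leaf 137438954491)) (.node (.leaf 68719477003) (.leaf 206703971067))) (.node (.node (.leaf 34359738795) (.leaf 172677230427)) (.node (.leaf 103079217323) (.leaf 240867944027)))) (.node (.node (.node (.leaf 17179869339) (.leaf 154933997163)) (.node (.leaf 85899346331) (.leaf 224182234987))) (.node (.node (.leaf 51543812155) (.leaf 189107791819)) (.node (.leaf 120263289147) (.leaf 258355998411))))) (.node (.node (.node (.node (.leaf 8589934635) (.leaf 146128751643)) (.node (.leaf 77309411627) (.leaf 215376710939))) (.node (.node (.leaf 42950721931) (.leaf 181222470843)) (.node (.leaf 111670200459) (.leaf 249396688315)))) (.node (.node (.node (.leaf 25836972923) (.leaf 165007330891)) (.node (.leaf 94556451451) (.leaf 233198329675))) (.node (.node (.leaf 60225930203) (.leaf 199711588331)) (.node (.leaf 128945412827) (.leaf 267885799147)))))) (.node (.node (.node (.node (.node (.leaf 4294967531) (.leaf 142211901915)) (.node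 (.leaf 73014444523) (.leaf 211476361435))) (.node (.node (.leaf 38662058635) (.leaf 177464838843)) (.node (.leaf 107381531531) (.leaf 246713076667)))) (.node (.node (.node (.leaf 21944941947) (.leaf 159783865675)) (.node (.leaf 90664416379) (.leaf 227957806155))) (.node (.node (.leaf 56316255771) (.leaf 194879508267)) (.node (.leaf 125035728667) (.leaf 264127710763))))) (.node (.node (.node (.node (.leaf 12892285451) (.leaf 151407854843)) (.node (.leaf 81611766539) (.leaf 220655814139))) (.node (.node (.leaf 47268790379) (.leaf 184887868315)) (.node (.leaf 115988267371) (.leaf 254152598171)))) (.node (.node (.node (.leaf 31145902171) (.leaf 168765995947)) (.node (.leaf 99865379163) (.leaf 238030725803))) (.node (.node (.leaf 65503525691) (.leaf 202531375563)) (.node (.leaf 134222996027) (.leaf 270705590475)))))))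

/-- Part of a collection table. -/
def tblHe_3_4 : Trie := (.node (.node (.node (.node (.node (.node (.leaf 12) (.leaf 137438954492)) (.node (.leaf 68719477004) (.leaf 206703971068))) (.node (.node (.leaf 34359738796) (.leaf 172677230428)) (.node (.leaf 103079217324) (.leaf 240867944028)))) (.node (.node (.node (.leaf 17179869340) (.leaf 154933997164)) (.node (.leaf 85899346332) (.leaf 224182234988))) (.node (.node (.leaf 51543812156) (.leaf 189107791820)) (.node (.leaf 120263289148) (.leaf 258355998412))))) (.node (.node (.node (.node (.leaf 8589934636) (.leaf 146128751644)) (.node (.leaf 77309411628) (.leaf 215376710940))) (.node (.node (.leaf 42950721932) (.leaf 181222470844)) (.node (.leaf 111670200460) (.leaf 249396688316)))) (.node (.node (.node (.leaf 25836972924) (.leaf 165007330892)) (.node (.leaf 94556451452) (.leaf 233198329676))) (.node (.node (.leaf 60225930204) (.leaf 199711588332)) (.node (.leaf 128945412828) (.leaf 267885799148)))))) (.node (.node (.node (.node (.node (.leaf 4294967532) (.leaf 142211901916)) (.node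 (.leaf 73014444524) (.leaf 211476361436))) (.node (.node (.leaf 38662058636) (.leaf 177464838844)) (.node (.leaf 107381531532) (.leaf 246713076668)))) (.node (.node (.node (.leaf 21944941948) (.leaf 159783865676)) (.node (.leaf 90664416380) (.leaf 227957806156))) (.node (.node (.leaf 56316255772) (.leaf 194879508268)) (.node (.leaf 125035728668) (.leaf 264127710764))))) (.node (.node (.node (.node (.leaf 12892285452) (.leaf 151407854844)) (.node (.leaf 81611766540) (.leaf 220655814140))) (.node (.node (.leaf 47268790380) (.leaf 184887868316)) (.node (.leaf 115988267372) (.leaf 254152598172)))) (.node (.node (.node (.leaf 31145902172) (.leaf 168765995948)) (.node (.leaf 99865379164) (.leaf 238030725804))) (.node (.node (.leaf 65503525692) (.leaf 202531375564)) (.node (.leaf 134222996028) (.leaf 270705590476)))))))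

/-- Part of a collection table. -/
def tblHe_3_5 : Trie := (.node (.node (.node (.node (.node (.node (.leaf 13) (.leaf 137438954493)) (.node (.leaf 68719477005) (.leaf 206703971069))) (.node (.node (.leaf 34359738797) (.leaf 172677230429)) (.node (.leaf 103079217325) (.leaf 240867944029)))) (.node (.node (.node (.leaf 17179869341) (.leaf 154933997165)) (.node (.leaf 85899346333) (.leaf 224182234989))) (.node (.node (.leaf 51543812157) (.leaf 189107791821)) (.node (.leaf 120263289149) (.leaf 258355998413))))) (.node (.node (.node (.node (.leaf 8589934637) (.leaf 146128751645)) (.node (.leaf 77309411629) (.leaf 215376710941))) (.node (.node (.leaf 42950721933) (.leaf 181222470845)) (.node (.leaf 111670200461) (.leaf 249396688317)))) (.node (.node (.node (.leaf 25836972925) (.leaf 165007330893)) (.node (.leaf 94556451453) (.leaf 233198329677))) (.node (.node (.leaf 60225930205) (.leaf 199711588333)) (.node (.leaf 128945412829) (.leaf 267885799149)))))) (.node (.node (.node (.node (.node (.leaf 4294967533) (.leaf 142211901917)) (.node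 (.leaf 73014444525) (.leaf 211476361437))) (.node (.node (.leaf 38662058637) (.leaf 177464838845)) (.node (.leaf 107381531533) (.leaf 246713076669)))) (.node (.node (.node (.leaf 21944941949) (.leaf 159783865677)) (.node (.leaf 90664416381) (.leaf 227957806157))) (.node (.node (.leaf 56316255773) (.leaf 194879508269)) (.node (.leaf 125035728669) (.leaf 264127710765))))) (.node (.node (.node (.node (.leaf 12892285453) (.leaf 151407854845)) (.node (.leaf 81611766541) (.leaf 220655814141))) (.node (.node (.leaf 47268790381) (.leaf 184887868317)) (.node (.leaf 115988267373) (.leaf 254152598173)))) (.node (.node (.node (.leaf 31145902173) (.leaf 168765995949)) (.node (.leaf 99865379165) (.leaf 238030725805))) (.node (.node (.leaf 65503525693) (.leaf 202531375565)) (.node (.leaf 134222996029) (.leaf 270705590477)))))))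

/-- Part of a collection table. -/
def tblHe_3_6 : Trie := (.node (.node (.node (.node (.node (.node (.leaf 14) (.leaf 137438954494)) (.node (.leaf 68719477006) (.leaf 206703971070))) (.node (.node (.leaf 34359738798) (.leaf 172677230430)) (.node (.leaf 103079217326) (.leaf 240867944030)))) (.node (.node (.node (.leaf 17179869342) (.leaf 154933997166)) (.node (.leaf 85899346334) (.leaf 224182234990))) (.node (.node (.leaf 51543812158) (.leaf 189107791822)) (.node (.leaf 120263289150) (.leaf 258355998414))))) (.node (.node (.node (.node (.leaf 8589934638) (.leaf 146128751646)) (.node (.leaf 77309411630) (.leaf 215376710942))) (.node (.node (.leaf 42950721934) (.leaf 181222470846)) (.node (.leaf 111670200462) (.leaf 249396688318)))) (.node (.node (.node (.leaf 25836972926) (.leaf 165007330894)) (.node (.leaf 94556451454) (.leaf 233198329678))) (.node (.node (.leaf 60225930206) (.leaf 199711588334)) (.node (.leaf 128945412830) (.leaf 267885799150)))))) (.node (.node (.node (.node (.node (.leaf 4294967534) (.leaf 142211901918)) (.node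 (.leaf 73014444526) (.leaf 211476361438))) (.node (.node (.leaf 38662058638) (.leaf 177464838846)) (.node (.leaf 107381531534) (.leaf 246713076670)))) (.node (.node (.node (.leaf 21944941950) (.leaf 159783865678)) (.node (.leaf 90664416382) (.leaf 227957806158))) (.node (.node (.leaf 56316255774) (.leaf 194879508270)) (.node (.leaf 125035728670) (.leaf 264127710766))))) (.node (.node (.node (.node (.leaf 12892285454) (.leaf 151407854846)) (.node (.leaf 81611766542) (.leaf 220655814142))) (.node (.node (.leaf 47268790382) (.leaf 184887868318)) (.node (.leaf 115988267374) (.leaf 254152598174)))) (.node (.node (.node (.leaf 31145902174) (.leaf 168765995950)) (.node (.leaf 99865379166) (.leaf 238030725806))) (.node (.node (.leaf 65503525694) (.leaf 202531375566)) (.node (.leaf 134222996030) (.leaf 270705590478)))))))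

/-- Part of a collection table. -/
def tblHe_3_7 : Trie := (.node (.node (.node (.node (.node (.node (.leaf 15) (.leaf 137438954495)) (.node (.leaf 68719477007) (.leaf 206703971071))) (.node (.node (.leaf 34359738799) (.leaf 172677230431)) (.node (.leaf 103079217327) (.leaf 240867944031)))) (.node (.node (.node (.leaf 17179869343) (.leaf 154933997167)) (.node (.leaf 85899346335) (.leaf 224182234991))) (.node (.node (.leaf 51543812159) (.leaf 189107791823)) (.node (.leaf 120263289151) (.leaf 258355998415))))) (.node (.node (.node (.node (.leaf 8589934639) (.leaf 146128751647)) (.node (.leaf 77309411631) (.leaf 215376710943))) (.node (.node (.leaf 42950721935) (.leaf 181222470847)) (.node (.leaf 111670200463) (.leaf 249396688319)))) (.node (.node (.node (.leaf 25836972927) (.leaf 165007330895)) (.node (.leaf 94556451455) (.leaf 233198329679))) (.node (.node (.leaf 60225930207) (.leaf 199711588335)) (.node (.leaf 128945412831) (.leaf 267885799151)))))) (.node (.node (.node (.node (.node (.leaf 4294967535) (.leaf 142211901919)) (.node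 (.leaf 73014444527) (.leaf 211476361439))) (.node (.node (.leaf 38662058639) (.leaf 177464838847)) (.node (.leaf 107381531535) (.leaf 246713076671)))) (.node (.node (.node (.leaf 21944941951) (.leaf 159783865679)) (.node (.leaf 90664416383) (.leaf 227957806159))) (.node (.node (.leaf 56316255775) (.leaf 194879508271)) (.node (.leaf 125035728671) (.leaf 264127710767))))) (.node (.node (.node (.node (.leaf 12892285455) (.leaf 151407854847)) (.node (.leaf 81611766543) (.leaf 220655814143))) (.node (.node (.leaf 47268790383) (.leaf 184887868319)) (.node (.leaf 115988267375) (.leaf 254152598175)))) (.node (.node (.node (.leaf 31145902175) (.leaf 168765995951)) (.node (.leaf 99865379167) (.leaf 238030725807))) (.node (.node (.leaf 65503525695) (.leaf 202531375567)) (.node (.leaf 134222996031) (.leaf 270705590479)))))))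

/-- Part of a collection table. -/
def tblHe_3_8 : Trie := (.node (.node (.node (.node (.node (.node (.leaf 2147483680) (.leaf 139686300688)) (.node (.leaf 70866960672) (.leaf 208934259984))) (.node (.node (.leaf 36508270976) (.leaf 174780019888)) (.node (.leaf 105227749504) (.leaf 242954237360)))) (.node (.node (.node (.leaf 19394521968) (.leaf 158564879936)) (.node (.leaf 88114000496) (.leaf 226755878720))) (.node (.node (.leaf 53783479248) (.leaf 193269137376)) (.node (.leaf 122502961872) (.leaf 261443348192))))) (.node (.node (.node (.node (.leaf 10738466816) (.leaf 148177421296)) (.node (.leaf 79457943808) (.leaf 217442437872))) (.node (.node (.leaf 45098205600) (.leaf 183413600080)) (.node (.leaf 113817684128) (.leaf 251604313680)))) (.node (.node (.node (.leaf 27918336144) (.leaf 165672463968)) (.node (.leaf 96637813136) (.leaf 234920701792))) (.node (.node (.leaf 62282278960) (.leaf 199844161472)) (.node (.leaf 131001755952) (.leaf 269092368064)))))) (.node (.node (.node (.node (.node (.leaf 6443499712) (.leaf 144310690352))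 (.node (.leaf 75162976704) (.leaf 213558653744))) (.node (.node (.leaf 40809542304) (.leaf 179654863184)) (.node (.leaf 109529015200) (.leaf 248919597136)))) (.node (.node (.node (.leaf 24026401424) (.leaf 162306347360)) (.node (.leaf 92745882512) (.leaf 231571085408))) (.node (.node (.leaf 58407231984) (.leaf 196085948160)) (.node (.leaf 127126710512) (.leaf 264260158976))))) (.node (.node (.node (.node (.leaf 15039769120) (.leaf 153636059920)) (.node (.leaf 83759250208) (.leaf 222900548112))) (.node (.node (.leaf 49415225408) (.leaf 186995600496)) (.node (.leaf 118134702400) (.leaf 256243285360)))) (.node (.node (.node (.leaf 33361482672) (.leaf 170502846336)) (.node (.leaf 102080957104) (.leaf 238677311104))) (.node (.node (.leaf 67740741840) (.leaf 205617682912)) (.node (.leaf 136460218832) (.leaf 274865357024)))))))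

/-- Part of a collection table. -/
def tblHe_3_9 : Trie := (.node (.node (.node (.node (.node (.node (.leaf 2147483681) (.leaf 139686300689)) (.node (.leaf 70866960673) (.leaf 208934259985))) (.node (.node (.leaf 36508270977) (.leaf 174780019889)) (.node (.leaf 105227749505) (.leaf 242954237361)))) (.node (.node (.node (.leaf 19394521969) (.leaf 158564879937)) (.node (.leaf 88114000497) (.leaf 226755878721))) (.node (.node (.leaf 53783479249) (.leaf 193269137377)) (.node (.leaf 122502961873) (.leaf 261443348193))))) (.node (.node (.node (.node (.leaf 10738466817) (.leaf 148177421297)) (.node (.leaf 79457943809) (.leaf 217442437873))) (.node (.node (.leaf 45098205601) (.leaf 183413600081)) (.node (.leaf 113817684129) (.leaf 251604313681)))) (.node (.node (.node (.leaf 27918336145) (.leaf 165672463969)) (.node (.leaf 96637813137) (.leaf 234920701793))) (.node (.node (.leaf 62282278961) (.leaf 199844161473)) (.node (.leaf 131001755953) (.leaf 269092368065)))))) (.node (.node (.node (.node (.node (.leaf 6443499713) (.leaf 144310690353))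 (.node (.leaf 75162976705) (.leaf 213558653745))) (.node (.node (.leaf 40809542305) (.leaf 179654863185)) (.node (.leaf 109529015201) (.leaf 248919597137)))) (.node (.node (.node (.leaf 24026401425) (.leaf 162306347361)) (.node (.leaf 92745882513) (.leaf 231571085409))) (.node (.node (.leaf 58407231985) (.leaf 196085948161)) (.node (.leaf 127126710513) (.leaf 264260158977))))) (.node (.node (.node (.node (.leaf 15039769121) (.leaf 153636059921)) (.node (.leaf 83759250209) (.leaf 222900548113))) (.node (.node (.leaf 49415225409) (.leaf 186995600497)) (.node (.leaf 118134702401) (.leaf 256243285361)))) (.node (.node (.node (.leaf 33361482673) (.leaf 170502846337)) (.node (.leaf 102080957105) (.leaf 238677311105))) (.node (.node (.leaf 67740741841) (.leaf 205617682913)) (.node (.leaf 136460218833) (.leaf 274865357025)))))))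

/-- Part of a collection table. -/
def tblHe_3_10 : Trie := (.node (.node (.node (.node (.node (.node (.leaf 2147483682) (.leaf 139686300690)) (.node (.leaf 70866960674) (.leaf 208934259986))) (.node (.node (.leaf 36508270978) (.leaf 174780019890)) (.node (.leaf 105227749506) (.leaf 242954237362)))) (.node (.node (.node (.leaf 19394521970) (.leaf 158564879938)) (.node (.leaf 88114000498) (.leaf 226755878722))) (.node (.node (.leaf 53783479250) (.leaf 193269137378)) (.node (.leaf 122502961874) (.leaf 261443348194))))) (.node (.node (.node (.node (.leaf 10738466818) (.leaf 148177421298)) (.node (.leaf 79457943810) (.leaf 217442437874))) (.node (.node (.leaf 45098205602) (.leaf 183413600082)) (.node (.leaf 113817684130) (.leaf 251604313682)))) (.node (.node (.node (.leaf 27918336146) (.leaf 165672463970)) (.node (.leaf 96637813138) (.leaf 234920701794))) (.node (.node (.leaf 62282278962) (.leaf 199844161474)) (.node (.leaf 131001755954) (.leaf 269092368066)))))) (.node (.node (.node (.node (.node (.leaf 6443499714) (.leaf 144310690354))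 (.node (.leaf 75162976706) (.leaf 213558653746))) (.node (.node (.leaf 40809542306) (.leaf 179654863186)) (.node (.leaf 109529015202) (.leaf 248919597138)))) (.node (.node (.node (.leaf 24026401426) (.leaf 162306347362)) (.node (.leaf 92745882514) (.leaf 231571085410))) (.node (.node (.leaf 58407231986) (.leaf 196085948162)) (.node (.leaf 127126710514) (.leaf 264260158978))))) (.node (.node (.node (.node (.leaf 15039769122) (.leaf 153636059922)) (.node (.leaf 83759250210) (.leaf 222900548114))) (.node (.node (.leaf 49415225410) (.leaf 186995600498)) (.node (.leaf 118134702402) (.leaf 256243285362)))) (.node (.node (.node (.leaf 33361482674) (.leaf 170502846338)) (.node (.leaf 102080957106) (.leaf 238677311106))) (.node (.node (.leaf 67740741842) (.leaf 205617682914)) (.node (.leaf 136460218834) (.leaf 274865357026)))))))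

/-- Part of a collection table. -/
def tblHe_3_11 : Trie := (.node (.node (.node (.node (.node (.node (.leaf 2147483683) (.leaf 139686300691)) (.node (.leaf 70866960675) (.leaf 208934259987))) (.node (.node (.leaf 36508270979) (.leaf 174780019891)) (.node (.leaf 105227749507) (.leaf 242954237363)))) (.node (.node (.node (.leaf 19394521971) (.leaf 158564879939)) (.node (.leaf 88114000499) (.leaf 226755878723))) (.node (.node (.leaf 53783479251) (.leaf 193269137379)) (.node (.leaf 122502961875) (.leaf 261443348195))))) (.node (.node (.node (.node (.leaf 10738466819) (.leaf 148177421299)) (.node (.leaf 79457943811) (.leaf 217442437875))) (.node (.node (.leaf 45098205603) (.leaf 183413600083)) (.node (.leaf 113817684131) (.leaf 251604313683)))) (.node (.node (.node (.leaf 27918336147) (.leaf 165672463971)) (.node (.leaf 96637813139) (.leaf 234920701795))) (.node (.node (.leaf 62282278963) (.leaf 199844161475)) (.node (.leaf 131001755955) (.leaf 269092368067)))))) (.node (.node (.node (.node (.node (.leaf 6443499715) (.leaf 144310690355))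 (.node (.leaf 75162976707) (.leaf 213558653747))) (.node (.node (.leaf 40809542307) (.leaf 179654863187)) (.node (.leaf 109529015203) (.leaf 248919597139)))) (.node (.node (.node (.leaf 24026401427) (.leaf 162306347363)) (.node (.leaf 92745882515) (.leaf 231571085411))) (.node (.node (.leaf 58407231987) (.leaf 196085948163)) (.node (.leaf 127126710515) (.leaf 264260158979))))) (.node (.node (.node (.node (.leaf 15039769123) (.leaf 153636059923)) (.node (.leaf 83759250211) (.leaf 222900548115))) (.node (.node (.leaf 49415225411) (.leaf 186995600499)) (.node (.leaf 118134702403) (.leaf 256243285363)))) (.node (.node (.node (.leaf 33361482675) (.leaf 170502846339)) (.node (.leaf 102080957107) (.leaf 238677311107))) (.node (.node (.leaf 67740741843) (.leaf 205617682915)) (.node (.leaf 136460218835) (.leaf 274865357027)))))))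

/-- Part of a collection table. -/
def tblHe_3_12 : Trie := (.node (.node (.node (.node (.node (.node (.leaf 2147483684) (.leaf 139686300692)) (.node (.leaf 70866960676) (.leaf 208934259988))) (.node (.node (.leaf 36508270980) (.leaf 174780019892)) (.node (.leaf 105227749508) (.leaf 242954237364)))) (.node (.node (.node (.leaf 19394521972) (.leaf 158564879940)) (.node (.leaf 88114000500) (.leaf 226755878724))) (.node (.node (.leaf 53783479252) (.leaf 193269137380)) (.node (.leaf 122502961876) (.leaf 261443348196))))) (.node (.node (.node (.node (.leaf 10738466820) (.leaf 148177421300)) (.node (.leaf 79457943812) (.leaf 217442437876))) (.node (.node (.leaf 45098205604) (.leaf 183413600084)) (.node (.leaf 113817684132) (.leaf 251604313684)))) (.node (.node (.node (.leaf 27918336148) (.leaf 165672463972)) (.node (.leaf 96637813140) (.leaf 234920701796))) (.node (.node (.leaf 62282278964) (.leaf 199844161476)) (.node (.leaf 131001755956) (.leaf 269092368068)))))) (.node (.node (.node (.node (.node (.leaf 6443499716) (.leaf 144310690356))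 (.node (.leaf 75162976708) (.leaf 213558653748))) (.node (.node (.leaf 40809542308) (.leaf 179654863188)) (.node (.leaf 109529015204) (.leaf 248919597140)))) (.node (.node (.node (.leaf 24026401428) (.leaf 162306347364)) (.node (.leaf 92745882516) (.leaf 231571085412))) (.node (.node (.leaf 58407231988) (.leaf 196085948164)) (.node (.leaf 127126710516) (.leaf 264260158980))))) (.node (.node (.node (.node (.leaf 15039769124) (.leaf 153636059924)) (.node (.leaf 83759250212) (.leaf 222900548116))) (.node (.node (.leaf 49415225412) (.leaf 186995600500)) (.node (.leaf 118134702404) (.leaf 256243285364)))) (.node (.node (.node (.leaf 33361482676) (.leaf 170502846340)) (.node (.leaf 102080957108) (.leaf 238677311108))) (.node (.node (.leaf 67740741844) (.leaf 205617682916)) (.node (.leaf 136460218836) (.leaf 274865357028)))))))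

/-- Part of a collection table. -/
def tblHe_3_13 : Trie := (.node (.node (.node (.node (.node (.node (.leaf 2147483685) (.leaf 139686300693)) (.node (.leaf 70866960677) (.leaf 208934259989))) (.node (.node (.leaf 36508270981) (.leaf 174780019893)) (.node (.leaf 105227749509) (.leaf 242954237365)))) (.node (.node (.node (.leaf 19394521973) (.leaf 158564879941)) (.node (.leaf 88114000501) (.leaf 226755878725))) (.node (.node (.leaf 53783479253) (.leaf 193269137381)) (.node (.leaf 122502961877) (.leaf 261443348197))))) (.node (.node (.node (.node (.leaf 10738466821) (.leaf 148177421301)) (.node (.leaf 79457943813) (.leaf 217442437877))) (.node (.node (.leaf 45098205605) (.leaf 183413600085)) (.node (.leaf 113817684133) (.leaf 251604313685)))) (.node (.node (.node (.leaf 27918336149) (.leaf 165672463973)) (.node (.leaf 96637813141) (.leaf 234920701797))) (.node (.node (.leaf 62282278965) (.leaf 199844161477)) (.node (.leaf 131001755957) (.leaf 269092368069)))))) (.node (.node (.node (.node (.node (.leaf 6443499717) (.leaf 144310690357))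 (.node (.leaf 75162976709) (.leaf 213558653749))) (.node (.node (.leaf 40809542309) (.leaf 179654863189)) (.node (.leaf 109529015205) (.leaf 248919597141)))) (.node (.node (.node (.leaf 24026401429) (.leaf 162306347365)) (.node (.leaf 92745882517) (.leaf 231571085413))) (.node (.node (.leaf 58407231989) (.leaf 196085948165)) (.node (.leaf 127126710517) (.leaf 264260158981))))) (.node (.node (.node (.node (.leaf 15039769125) (.leaf 153636059925)) (.node (.leaf 83759250213) (.leaf 222900548117))) (.node (.node (.leaf 49415225413) (.leaf 186995600501)) (.node (.leaf 118134702405) (.leaf 256243285365)))) (.node (.node (.node (.leaf 33361482677) (.leaf 170502846341)) (.node (.leaf 102080957109) (.leaf 238677311109))) (.node (.node (.leaf 67740741845) (.leaf 205617682917)) (.node (.leaf 136460218837) (.leaf 274865357029)))))))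

/-- Part of a collection table. -/
def tblHe_3_14 : Trie := (.node (.node (.node (.node (.node (.node (.leaf 2147483686) (.leaf 139686300694)) (.node (.leaf 70866960678) (.leaf 208934259990))) (.node (.node (.leaf 36508270982) (.leaf 174780019894)) (.node (.leaf 105227749510) (.leaf 242954237366)))) (.node (.node (.node (.leaf 19394521974) (.leaf 158564879942)) (.node (.leaf 88114000502) (.leaf 226755878726))) (.node (.node (.leaf 53783479254) (.leaf 193269137382)) (.node (.leaf 122502961878) (.leaf 261443348198))))) (.node (.node (.node (.node (.leaf 10738466822) (.leaf 148177421302)) (.node (.leaf 79457943814) (.leaf 217442437878))) (.node (.node (.leaf 45098205606) (.leaf 183413600086)) (.node (.leaf 113817684134) (.leaf 251604313686)))) (.node (.node (.node (.leaf 27918336150) (.leaf 165672463974)) (.node (.leaf 96637813142) (.leaf 234920701798))) (.node (.node (.leaf 62282278966) (.leaf 199844161478)) (.node (.leaf 131001755958) (.leaf 269092368070)))))) (.node (.node (.node (.node (.node (.leaf 6443499718) (.leaf 144310690358))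 (.node (.leaf 75162976710) (.leaf 213558653750))) (.node (.node (.leaf 40809542310) (.leaf 179654863190)) (.node (.leaf 109529015206) (.leaf 248919597142)))) (.node (.node (.node (.leaf 24026401430) (.leaf 162306347366)) (.node (.leaf 92745882518) (.leaf 231571085414))) (.node (.node (.leaf 58407231990) (.leaf 196085948166)) (.node (.leaf 127126710518) (.leaf 264260158982))))) (.node (.node (.node (.node (.leaf 15039769126) (.leaf 153636059926)) (.node (.leaf 83759250214) (.leaf 222900548118))) (.node (.node (.leaf 49415225414) (.leaf 186995600502)) (.node (.leaf 118134702406) (.leaf 256243285366)))) (.node (.node (.node (.leaf 33361482678) (.leaf 170502846342)) (.node (.leaf 102080957110) (.leaf 238677311110))) (.node (.node (.leaf 67740741846) (.leaf 205617682918)) (.node (.leaf 136460218838) (.leaf 274865357030)))))))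

/-- Part of a collection table. -/
def tblHe_3_15 : Trie := (.node (.node (.node (.node (.node (.node (.leaf 2147483687) (.leaf 139686300695)) (.node (.leaf 70866960679) (.leaf 208934259991))) (.node (.node (.leaf 36508270983) (.leaf 174780019895)) (.node (.leaf 105227749511) (.leaf 242954237367)))) (.node (.node (.node (.leaf 19394521975) (.leaf 158564879943)) (.node (.leaf 88114000503) (.leaf 226755878727))) (.node (.node (.leaf 53783479255) (.leaf 193269137383)) (.node (.leaf 122502961879) (.leaf 261443348199))))) (.node (.node (.node (.node (.leaf 10738466823) (.leaf 148177421303)) (.node (.leaf 79457943815) (.leaf 217442437879))) (.node (.node (.leaf 45098205607) (.leaf 183413600087)) (.node (.leaf 113817684135) (.leaf 251604313687)))) (.node (.node (.node (.leaf 27918336151) (.leaf 165672463975)) (.node (.leaf 96637813143) (.leaf 234920701799))) (.node (.node (.leaf 62282278967) (.leaf 199844161479)) (.node (.leaf 131001755959) (.leaf 269092368071)))))) (.node (.node (.node (.node (.node (.leaf 6443499719) (.leaf 144310690359))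 (.node (.leaf 75162976711) (.leaf 213558653751))) (.node (.node (.leaf 40809542311) (.leaf 179654863191)) (.node (.leaf 109529015207) (.leaf 248919597143)))) (.node (.node (.node (.leaf 24026401431) (.leaf 162306347367)) (.node (.leaf 92745882519) (.leaf 231571085415))) (.node (.node (.leaf 58407231991) (.leaf 196085948167)) (.node (.leaf 127126710519) (.leaf 264260158983))))) (.node (.node (.node (.node (.leaf 15039769127) (.leaf 153636059927)) (.node (.leaf 83759250215) (.leaf 222900548119))) (.node (.node (.leaf 49415225415) (.leaf 186995600503)) (.node (.leaf 118134702407) (.leaf 256243285367)))) (.node (.node (.node (.leaf 33361482679) (.leaf 170502846343)) (.node (.leaf 102080957111) (.leaf 238677311111))) (.node (.node (.leaf 67740741847) (.leaf 205617682919)) (.node (.leaf 136460218839) (.leaf 274865357031)))))))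

/-- Part of a collection table. -/
def tblHe_4_0 : Trie := (.node (.node (.node (.node (.node (.node (.leaf 16) (.leaf 1073742288)) (.node (.leaf 536871184) (.leaf 1610893520))) (.node (.node (.leaf 268436048) (.leaf 1342823312)) (.node (.leaf 805311312) (.leaf 1879933584)))) (.node (.node (.node (.leaf 134218064) (.leaf 1208305808)) (.node (.leaf 671090768) (.leaf 1744898448))) (.node (.node (.leaf 402981648) (.leaf 1477022416)) (.node (.leaf 939858448) (.leaf 2014168016))))) (.node (.node (.node (.node (.leaf 67109872) (.leaf 1141897776)) (.node (.leaf 603986672) (.leaf 1678486320))) (.node (.node (.leaf 336530864) (.leaf 1409887344)) (.node (.leaf 873399472) (.leaf 1947037040)))) (.node (.node (.node (.leaf 202314416) (.leaf 1275437936)) (.node (.leaf 739181488) (.leaf 1812068976))) (.node (.node (.leaf 470097136) (.leaf 1543927088)) (.node (.leaf 1006968304) (.leaf 2080521264)))))) (.node (.node (.node (.node (.node (.leaf 33555392) (.leaf 1108343296)) (.node (.leaf 570432192) (.leaf 1644931840))) (.node (.node (.leaf 302976384)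 (.leaf 1376332864)) (.node (.leaf 839844992) (.leaf 1913482560)))) (.node (.node (.node (.leaf 168759936) (.leaf 1241883456)) (.node (.leaf 705627008) (.leaf 1778514496))) (.node (.node (.leaf 436542656) (.leaf 1510372608)) (.node (.leaf 973413824) (.leaf 2046966784))))) (.node (.node (.node (.node (.leaf 132369440) (.leaf 1206111712)) (.node (.leaf 669240608) (.leaf 1743226080))) (.node (.node (.leaf 400805472) (.leaf 1474959264)) (.node (.leaf 937680736) (.leaf 2012106400)))) (.node (.node (.node (.leaf 266587488) (.leaf 1340507296)) (.node (.leaf 803456096) (.leaf 1877132704))) (.node (.node (.leaf 535220000) (.leaf 1609195232)) (.node (.leaf 1072092704) (.leaf 2146308064)))))))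

/-- Part of a collection table. -/
def tblHe_4_1 : Trie := (.node (.node (.node (.node (.node (.node (.leaf 17) (.leaf 1073742289)) (.node (.leaf 536871185) (.leaf 1610893521))) (.node (.node (.leaf 268436049) (.leaf 1342823313)) (.node (.leaf 805311313) (.leaf 1879933585)))) (.node (.node (.node (.leaf 134218065) (.leaf 1208305809)) (.node (.leaf 671090769) (.leaf 1744898449))) (.node (.node (.leaf 402981649) (.leaf 1477022417)) (.node (.leaf 939858449) (.leaf 2014168017))))) (.node (.node (.node (.node (.leaf 67109873) (.leaf 1141897777)) (.node (.leaf 603986673) (.leaf 1678486321))) (.node (.node (.leaf 336530865) (.leaf 1409887345)) (.node (.leaf 873399473) (.leaf 1947037041)))) (.node (.node (.node (.leaf 202314417) (.leaf 1275437937)) (.node (.leaf 739181489) (.leaf 1812068977))) (.node (.node (.leaf 470097137) (.leaf 1543927089)) (.node (.leaf 1006968305) (.leaf 2080521265)))))) (.node (.node (.node (.node (.node (.leaf 33555393) (.leaf 1108343297)) (.node (.leaf 570432193) (.leaf 1644931841))) (.node (.node (.leaf 302976385)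 (.leaf 1376332865)) (.node (.leaf 839844993) (.leaf 1913482561)))) (.node (.node (.node (.leaf 168759937) (.leaf 1241883457)) (.node (.leaf 705627009) (.leaf 1778514497))) (.node (.node (.leaf 436542657) (.leaf 1510372609)) (.node (.leaf 973413825) (.leaf 2046966785))))) (.node (.node (.node (.node (.leaf 132369441) (.leaf 1206111713)) (.node (.leaf 669240609) (.leaf 1743226081))) (.node (.node (.leaf 400805473) (.leaf 1474959265)) (.node (.leaf 937680737) (.leaf 2012106401)))) (.node (.node (.node (.leaf 266587489) (.leaf 1340507297)) (.node (.leaf 803456097) (.leaf 1877132705))) (.node (.node (.leaf 535220001) (.leaf 1609195233)) (.node (.leaf 1072092705) (.leaf 2146308065)))))))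

/-- Part of a collection table. -/
def tblHe_4_2 : Trie := (.node (.node (.node (.node (.node (.node (.leaf 18) (.leaf 1073742290)) (.node (.leaf 536871186) (.leaf 1610893522))) (.node (.node (.leaf 268436050) (.leaf 1342823314)) (.node (.leaf 805311314) (.leaf 1879933586)))) (.node (.node (.node (.leaf 134218066) (.leaf 1208305810)) (.node (.leaf 671090770) (.leaf 1744898450))) (.node (.node (.leaf 402981650) (.leaf 1477022418)) (.node (.leaf 939858450) (.leaf 2014168018))))) (.node (.node (.node (.node (.leaf 67109874) (.leaf 1141897778)) (.node (.leaf 603986674) (.leaf 1678486322))) (.node (.node (.leaf 336530866) (.leaf 1409887346)) (.node (.leaf 873399474) (.leaf 1947037042)))) (.node (.node (.node (.leaf 202314418) (.leaf 1275437938)) (.node (.leaf 739181490) (.leaf 1812068978))) (.node (.node (.leaf 470097138) (.leaf 1543927090)) (.node (.leaf 1006968306) (.leaf 2080521266)))))) (.node (.node (.node (.node (.node (.leaf 33555394) (.leaf 1108343298)) (.node (.leaf 570432194) (.leaf 1644931842))) (.node (.node (.leaf 302976386)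 (.leaf 1376332866)) (.node (.leaf 839844994) (.leaf 1913482562)))) (.node (.node (.node (.leaf 168759938) (.leaf 1241883458)) (.node (.leaf 705627010) (.leaf 1778514498))) (.node (.node (.leaf 436542658) (.leaf 1510372610)) (.node (.leaf 973413826) (.leaf 2046966786))))) (.node (.node (.node (.node (.leaf 132369442) (.leaf 1206111714)) (.node (.leaf 669240610) (.leaf 1743226082))) (.node (.node (.leaf 400805474) (.leaf 1474959266)) (.node (.leaf 937680738) (.leaf 2012106402)))) (.node (.node (.node (.leaf 266587490) (.leaf 1340507298)) (.node (.leaf 803456098) (.leaf 1877132706))) (.node (.node (.leaf 535220002) (.leaf 1609195234)) (.node (.leaf 1072092706) (.leaf 2146308066)))))))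

/-- Part of a collection table. -/
def tblHe_4_3 : Trie := (.node (.node (.node (.node (.node (.node (.leaf 19) (.leaf 1073742291)) (.node (.leaf 536871187) (.leaf 1610893523))) (.node (.node (.leaf 268436051) (.leaf 1342823315)) (.node (.leaf 805311315) (.leaf 1879933587)))) (.node (.node (.node (.leaf 134218067) (.leaf 1208305811)) (.node (.leaf 671090771) (.leaf 1744898451))) (.node (.node (.leaf 402981651) (.leaf 1477022419)) (.node (.leaf 939858451) (.leaf 2014168019))))) (.node (.node (.node (.node (.leaf 67109875) (.leaf 1141897779)) (.node (.leaf 603986675) (.leaf 1678486323))) (.node (.node (.leaf 336530867) (.leaf 1409887347)) (.node (.leaf 873399475) (.leaf 1947037043)))) (.node (.node (.node (.leaf 202314419) (.leaf 1275437939)) (.node (.leaf 739181491) (.leaf 1812068979))) (.node (.node (.leaf 470097139) (.leaf 1543927091)) (.node (.leaf 1006968307) (.leaf 2080521267)))))) (.node (.node (.node (.node (.node (.leaf 33555395) (.leaf 1108343299)) (.node (.leaf 570432195) (.leaf 1644931843))) (.node (.node (.leaf 302976387)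 (.leaf 1376332867)) (.node (.leaf 839844995) (.leaf 1913482563)))) (.node (.node (.node (.leaf 168759939) (.leaf 1241883459)) (.node (.leaf 705627011) (.leaf 1778514499))) (.node (.node (.leaf 436542659) (.leaf 1510372611)) (.node (.leaf 973413827) (.leaf 2046966787))))) (.node (.node (.node (.node (.leaf 132369443) (.leaf 1206111715)) (.node (.leaf 669240611) (.leaf 1743226083))) (.node (.node (.leaf 400805475) (.leaf 1474959267)) (.node (.leaf 937680739) (.leaf 2012106403)))) (.node (.node (.node (.leaf 266587491) (.leaf 1340507299)) (.node (.leaf 803456099) (.leaf 1877132707))) (.node (.node (.leaf 535220003) (.leaf 1609195235)) (.node (.leaf 1072092707) (.leaf 2146308067)))))))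

/-- Part of a collection table. -/
def tblHe_4_4 : Trie := (.node (.node (.node (.node (.node (.node (.leaf 20) (.leaf 1073742292)) (.node (.leaf 536871188) (.leaf 1610893524))) (.node (.node (.leaf 268436052) (.leaf 1342823316)) (.node (.leaf 805311316) (.leaf 1879933588)))) (.node (.node (.node (.leaf 134218068) (.leaf 1208305812)) (.node (.leaf 671090772) (.leaf 1744898452))) (.node (.node (.leaf 402981652) (.leaf 1477022420)) (.node (.leaf 939858452) (.leaf 2014168020))))) (.node (.node (.node (.node (.leaf 67109876) (.leaf 1141897780)) (.node (.leaf 603986676) (.leaf 1678486324))) (.node (.node (.leaf 336530868) (.leaf 1409887348)) (.node (.leaf 873399476) (.leaf 1947037044)))) (.node (.node (.node (.leaf 202314420) (.leaf 1275437940)) (.node (.leaf 739181492) (.leaf 1812068980))) (.node (.node (.leaf 470097140) (.leaf 1543927092)) (.node (.leaf 1006968308) (.leaf 2080521268)))))) (.node (.node (.node (.node (.node (.leaf 33555396) (.leaf 1108343300)) (.node (.leaf 570432196) (.leaf 1644931844))) (.node (.node (.leaf 302976388)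 (.leaf 1376332868)) (.node (.leaf 839844996) (.leaf 1913482564)))) (.node (.node (.node (.leaf 168759940) (.leaf 1241883460)) (.node (.leaf 705627012) (.leaf 1778514500))) (.node (.node (.leaf 436542660) (.leaf 1510372612)) (.node (.leaf 973413828) (.leaf 2046966788))))) (.node (.node (.node (.node (.leaf 132369444) (.leaf 1206111716)) (.node (.leaf 669240612) (.leaf 1743226084))) (.node (.node (.leaf 400805476) (.leaf 1474959268)) (.node (.leaf 937680740) (.leaf 2012106404)))) (.node (.node (.node (.leaf 266587492) (.leaf 1340507300)) (.node (.leaf 803456100) (.leaf 1877132708))) (.node (.node (.leaf 535220004) (.leaf 1609195236)) (.node (.leaf 1072092708) (.leaf 2146308068)))))))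

/-- Part of a collection table. -/
def tblHe_4_5 : Trie := (.node (.node (.node (.node (.node (.node (.leaf 21) (.leaf 1073742293)) (.node (.leaf 536871189) (.leaf 1610893525))) (.node (.node (.leaf 268436053) (.leaf 1342823317)) (.node (.leaf 805311317) (.leaf 1879933589)))) (.node (.node (.node (.leaf 134218069) (.leaf 1208305813)) (.node (.leaf 671090773) (.leaf 1744898453))) (.node (.node (.leaf 402981653) (.leaf 1477022421)) (.node (.leaf 939858453) (.leaf 2014168021))))) (.node (.node (.node (.node (.leaf 67109877) (.leaf 1141897781)) (.node (.leaf 603986677) (.leaf 1678486325))) (.node (.node (.leaf 336530869) (.leaf 1409887349)) (.node (.leaf 873399477) (.leaf 1947037045)))) (.node (.node (.node (.leaf 202314421) (.leaf 1275437941)) (.node (.leaf 739181493) (.leaf 1812068981))) (.node (.node (.leaf 470097141) (.leaf 1543927093)) (.node (.leaf 1006968309) (.leaf 2080521269)))))) (.node (.node (.node (.node (.node (.leaf 33555397) (.leaf 1108343301)) (.node (.leaf 570432197) (.leaf 1644931845))) (.node (.node (.leaf 302976389)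 (.leaf 1376332869)) (.node (.leaf 839844997) (.leaf 1913482565)))) (.node (.node (.node (.leaf 168759941) (.leaf 1241883461)) (.node (.leaf 705627013) (.leaf 1778514501))) (.node (.node (.leaf 436542661) (.leaf 1510372613)) (.node (.leaf 973413829) (.leaf 2046966789))))) (.node (.node (.node (.node (.leaf 132369445) (.leaf 1206111717)) (.node (.leaf 669240613) (.leaf 1743226085))) (.node (.node (.leaf 400805477) (.leaf 1474959269)) (.node (.leaf 937680741) (.leaf 2012106405)))) (.node (.node (.node (.leaf 266587493) (.leaf 1340507301)) (.node (.leaf 803456101) (.leaf 1877132709))) (.node (.node (.leaf 535220005) (.leaf 1609195237)) (.node (.leaf 1072092709) (.leaf 2146308069)))))))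

/-- Part of a collection table. -/
def tblHe_4_6 : Trie := (.node (.node (.node (.node (.node (.node (.leaf 22) (.leaf 1073742294)) (.node (.leaf 536871190) (.leaf 1610893526))) (.node (.node (.leaf 268436054) (.leaf 1342823318)) (.node (.leaf 805311318) (.leaf 1879933590)))) (.node (.node (.node (.leaf 134218070) (.leaf 1208305814)) (.node (.leaf 671090774) (.leaf 1744898454))) (.node (.node (.leaf 402981654) (.leaf 1477022422)) (.node (.leaf 939858454) (.leaf 2014168022))))) (.node (.node (.node (.node (.leaf 67109878) (.leaf 1141897782)) (.node (.leaf 603986678) (.leaf 1678486326))) (.node (.node (.leaf 336530870) (.leaf 1409887350)) (.node (.leaf 873399478) (.leaf 1947037046)))) (.node (.node (.node (.leaf 202314422) (.leaf 1275437942)) (.node (.leaf 739181494) (.leaf 1812068982))) (.node (.node (.leaf 470097142) (.leaf 1543927094)) (.node (.leaf 1006968310) (.leaf 2080521270)))))) (.node (.node (.node (.node (.node (.leaf 33555398) (.leaf 1108343302)) (.node (.leaf 570432198) (.leaf 1644931846))) (.node (.node (.leaf 302976390)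 (.leaf 1376332870)) (.node (.leaf 839844998) (.leaf 1913482566)))) (.node (.node (.node (.leaf 168759942) (.leaf 1241883462)) (.node (.leaf 705627014) (.leaf 1778514502))) (.node (.node (.leaf 436542662) (.leaf 1510372614)) (.node (.leaf 973413830) (.leaf 2046966790))))) (.node (.node (.node (.node (.leaf 132369446) (.leaf 1206111718)) (.node (.leaf 669240614) (.leaf 1743226086))) (.node (.node (.leaf 400805478) (.leaf 1474959270)) (.node (.leaf 937680742) (.leaf 2012106406)))) (.node (.node (.node (.leaf 266587494) (.leaf 1340507302)) (.node (.leaf 803456102) (.leaf 1877132710))) (.node (.node (.leaf 535220006) (.leaf 1609195238)) (.node (.leaf 1072092710) (.leaf 2146308070)))))))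

/-- Part of a collection table. -/
def tblHe_4_7 : Trie := (.node (.node (.node (.node (.node (.node (.leaf 23) (.leaf 1073742295)) (.node (.leaf 536871191) (.leaf 1610893527))) (.node (.node (.leaf 268436055) (.leaf 1342823319)) (.node (.leaf 805311319) (.leaf 1879933591)))) (.node (.node (.node (.leaf 134218071) (.leaf 1208305815)) (.node (.leaf 671090775) (.leaf 1744898455))) (.node (.node (.leaf 402981655) (.leaf 1477022423)) (.node (.leaf 939858455) (.leaf 2014168023))))) (.node (.node (.node (.node (.leaf 67109879) (.leaf 1141897783)) (.node (.leaf 603986679) (.leaf 1678486327))) (.node (.node (.leaf 336530871) (.leaf 1409887351)) (.node (.leaf 873399479) (.leaf 1947037047)))) (.node (.node (.node (.leaf 202314423) (.leaf 1275437943)) (.node (.leaf 739181495) (.leaf 1812068983))) (.node (.node (.leaf 470097143) (.leaf 1543927095)) (.node (.leaf 1006968311) (.leaf 2080521271)))))) (.node (.node (.node (.node (.node (.leaf 33555399) (.leaf 1108343303)) (.node (.leaf 570432199) (.leaf 1644931847))) (.node (.node (.leaf 302976391)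 (.leaf 1376332871)) (.node (.leaf 839844999) (.leaf 1913482567)))) (.node (.node (.node (.leaf 168759943) (.leaf 1241883463)) (.node (.leaf 705627015) (.leaf 1778514503))) (.node (.node (.leaf 436542663) (.leaf 1510372615)) (.node (.leaf 973413831) (.leaf 2046966791))))) (.node (.node (.node (.node (.leaf 132369447) (.leaf 1206111719)) (.node (.leaf 669240615) (.leaf 1743226087))) (.node (.node (.leaf 400805479) (.leaf 1474959271)) (.node (.leaf 937680743) (.leaf 2012106407)))) (.node (.node (.node (.leaf 266587495) (.leaf 1340507303)) (.node (.leaf 803456103) (.leaf 1877132711))) (.node (.node (.leaf 535220007) (.leaf 1609195239)) (.node (.leaf 1072092711) (.leaf 2146308071)))))))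

/-- Part of a collection table. -/
def tblHe_4_8 : Trie := (.node (.node (.node (.node (.node (.node (.leaf 24) (.leaf 1073742296)) (.node (.leaf 536871192) (.leaf 1610893528))) (.node (.node (.leaf 268436056) (.leaf 1342823320)) (.node (.leaf 805311320) (.leaf 1879933592)))) (.node (.node (.node (.leaf 134218072) (.leaf 1208305816)) (.node (.leaf 671090776) (.leaf 1744898456))) (.node (.node (.leaf 402981656) (.leaf 1477022424)) (.node (.leaf 939858456) (.leaf 2014168024))))) (.node (.node (.node (.node (.leaf 67109880) (.leaf 1141897784)) (.node (.leaf 603986680) (.leaf 1678486328))) (.node (.node (.leaf 336530872) (.leaf 1409887352)) (.node (.leaf 873399480) (.leaf 1947037048)))) (.node (.node (.node (.leaf 202314424) (.leaf 1275437944)) (.node (.leaf 739181496) (.leaf 1812068984))) (.node (.node (.leaf 470097144) (.leaf 1543927096)) (.node (.leaf 1006968312) (.leaf 2080521272)))))) (.node (.node (.node (.node (.node (.leaf 33555400) (.leaf 1108343304)) (.node (.leaf 570432200) (.leaf 1644931848))) (.node (.node (.leaf 302976392)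 (.leaf 1376332872)) (.node (.leaf 839845000) (.leaf 1913482568)))) (.node (.node (.node (.leaf 168759944) (.leaf 1241883464)) (.node (.leaf 705627016) (.leaf 1778514504))) (.node (.node (.leaf 436542664) (.leaf 1510372616)) (.node (.leaf 973413832) (.leaf 2046966792))))) (.node (.node (.node (.node (.leaf 132369448) (.leaf 1206111720)) (.node (.leaf 669240616) (.leaf 1743226088))) (.node (.node (.leaf 400805480) (.leaf 1474959272)) (.node (.leaf 937680744) (.leaf 2012106408)))) (.node (.node (.node (.leaf 266587496) (.leaf 1340507304)) (.node (.leaf 803456104) (.leaf 1877132712))) (.node (.node (.leaf 535220008) (.leaf 1609195240)) (.node (.leaf 1072092712) (.leaf 2146308072)))))))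

/-- Part of a collection table. -/
def tblHe_4_9 : Trie := (.node (.node (.node (.node (.node (.node (.leaf 25) (.leaf 1073742297)) (.node (.leaf 536871193) (.leaf 1610893529))) (.node (.node (.leaf 268436057) (.leaf 1342823321)) (.node (.leaf 805311321) (.leaf 1879933593)))) (.node (.node (.node (.leaf 134218073) (.leaf 1208305817)) (.node (.leaf 671090777) (.leaf 1744898457))) (.node (.node (.leaf 402981657) (.leaf 1477022425)) (.node (.leaf 939858457) (.leaf 2014168025))))) (.node (.node (.node (.node (.leaf 67109881) (.leaf 1141897785)) (.node (.leaf 603986681) (.leaf 1678486329))) (.node (.node (.leaf 336530873) (.leaf 1409887353)) (.node (.leaf 873399481) (.leaf 1947037049)))) (.node (.node (.node (.leaf 202314425) (.leaf 1275437945)) (.node (.leaf 739181497) (.leaf 1812068985))) (.node (.node (.leaf 470097145) (.leaf 1543927097)) (.node (.leaf 1006968313) (.leaf 2080521273)))))) (.node (.node (.node (.node (.node (.leaf 33555401) (.leaf 1108343305)) (.node (.leaf 570432201) (.leaf 1644931849))) (.node (.node (.leaf 302976393)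 (.leaf 1376332873)) (.node (.leaf 839845001) (.leaf 1913482569)))) (.node (.node (.node (.leaf 168759945) (.leaf 1241883465)) (.node (.leaf 705627017) (.leaf 1778514505))) (.node (.node (.leaf 436542665) (.leaf 1510372617)) (.node (.leaf 973413833) (.leaf 2046966793))))) (.node (.node (.node (.node (.leaf 132369449) (.leaf 1206111721)) (.node (.leaf 669240617) (.leaf 1743226089))) (.node (.node (.leaf 400805481) (.leaf 1474959273)) (.node (.leaf 937680745) (.leaf 2012106409)))) (.node (.node (.node (.leaf 266587497) (.leaf 1340507305)) (.node (.leaf 803456105) (.leaf 1877132713))) (.node (.node (.leaf 535220009) (.leaf 1609195241)) (.node (.leaf 1072092713) (.leaf 2146308073)))))))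

/-- Part of a collection table. -/
def tblHe_4_10 : Trie := (.node (.node (.node (.node (.node (.node (.leaf 26) (.leaf 1073742298)) (.node (.leaf 536871194) (.leaf 1610893530))) (.node (.node (.leaf 268436058) (.leaf 1342823322)) (.node (.leaf 805311322) (.leaf 1879933594)))) (.node (.node (.node (.leaf 134218074) (.leaf 1208305818)) (.node (.leaf 671090778) (.leaf 1744898458))) (.node (.node (.leaf 402981658) (.leaf 1477022426)) (.node (.leaf 939858458) (.leaf 2014168026))))) (.node (.node (.node (.node (.leaf 67109882) (.leaf 1141897786)) (.node (.leaf 603986682) (.leaf 1678486330))) (.node (.node (.leaf 336530874) (.leaf 1409887354)) (.node (.leaf 873399482) (.leaf 1947037050)))) (.node (.node (.node (.leaf 202314426) (.leaf 1275437946)) (.node (.leaf 739181498) (.leaf 1812068986))) (.node (.node (.leaf 470097146) (.leaf 1543927098)) (.node (.leaf 1006968314) (.leaf 2080521274)))))) (.node (.node (.node (.node (.node (.leaf 33555402) (.leaf 1108343306)) (.node (.leaf 570432202) (.leaf 1644931850))) (.node (.node (.leaf 302976394)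 (.leaf 1376332874)) (.node (.leaf 839845002) (.leaf 1913482570)))) (.node (.node (.node (.leaf 168759946) (.leaf 1241883466)) (.node (.leaf 705627018) (.leaf 1778514506))) (.node (.node (.leaf 436542666) (.leaf 1510372618)) (.node (.leaf 973413834) (.leaf 2046966794))))) (.node (.node (.node (.node (.leaf 132369450) (.leaf 1206111722)) (.node (.leaf 669240618) (.leaf 1743226090))) (.node (.node (.leaf 400805482) (.leaf 1474959274)) (.node (.leaf 937680746) (.leaf 2012106410)))) (.node (.node (.node (.leaf 266587498) (.leaf 1340507306)) (.node (.leaf 803456106) (.leaf 1877132714))) (.node (.node (.leaf 535220010) (.leaf 1609195242)) (.node (.leaf 1072092714) (.leaf 2146308074)))))))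

/-- Part of a collection table. -/
def tblHe_4_11 : Trie := (.node (.node (.node (.node (.node (.node (.leaf 27) (.leaf 1073742299)) (.node (.leaf 536871195) (.leaf 1610893531))) (.node (.node (.leaf 268436059) (.leaf 1342823323)) (.node (.leaf 805311323) (.leaf 1879933595)))) (.node (.node (.node (.leaf 134218075) (.leaf 1208305819)) (.node (.leaf 671090779) (.leaf 1744898459))) (.node (.node (.leaf 402981659) (.leaf 1477022427)) (.node (.leaf 939858459) (.leaf 2014168027))))) (.node (.node (.node (.node (.leaf 67109883) (.leaf 1141897787)) (.node (.leaf 603986683) (.leaf 1678486331))) (.node (.node (.leaf 336530875) (.leaf 1409887355)) (.node (.leaf 873399483) (.leaf 1947037051)))) (.node (.node (.node (.leaf 202314427) (.leaf 1275437947)) (.node (.leaf 739181499) (.leaf 1812068987))) (.node (.node (.leaf 470097147) (.leaf 1543927099)) (.node (.leaf 1006968315) (.leaf 2080521275)))))) (.node (.node (.node (.node (.node (.leaf 33555403) (.leaf 1108343307)) (.node (.leaf 570432203) (.leaf 1644931851))) (.node (.node (.leaf 302976395)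 (.leaf 1376332875)) (.node (.leaf 839845003) (.leaf 1913482571)))) (.node (.node (.node (.leaf 168759947) (.leaf 1241883467)) (.node (.leaf 705627019) (.leaf 1778514507))) (.node (.node (.leaf 436542667) (.leaf 1510372619)) (.node (.leaf 973413835) (.leaf 2046966795))))) (.node (.node (.node (.node (.leaf 132369451) (.leaf 1206111723)) (.node (.leaf 669240619) (.leaf 1743226091))) (.node (.node (.leaf 400805483) (.leaf 1474959275)) (.node (.leaf 937680747) (.leaf 2012106411)))) (.node (.node (.node (.leaf 266587499) (.leaf 1340507307)) (.node (.leaf 803456107) (.leaf 1877132715))) (.node (.node (.leaf 535220011) (.leaf 1609195243)) (.node (.leaf 1072092715) (.leaf 2146308075)))))))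

/-- Part of a collection table. -/
def tblHe_4_12 : Trie := (.node (.node (.node (.node (.node (.node (.leaf 28) (.leaf 1073742300)) (.node (.leaf 536871196) (.leaf 1610893532))) (.node (.node (.leaf 268436060) (.leaf 1342823324)) (.node (.leaf 805311324) (.leaf 1879933596)))) (.node (.node (.node (.leaf 134218076) (.leaf 1208305820)) (.node (.leaf 671090780) (.leaf 1744898460))) (.node (.node (.leaf 402981660) (.leaf 1477022428)) (.node (.leaf 939858460) (.leaf 2014168028))))) (.node (.node (.node (.node (.leaf 67109884) (.leaf 1141897788)) (.node (.leaf 603986684) (.leaf 1678486332))) (.node (.node (.leaf 336530876) (.leaf 1409887356)) (.node (.leaf 873399484) (.leaf 1947037052)))) (.node (.node (.node (.leaf 202314428) (.leaf 1275437948)) (.node (.leaf 739181500) (.leaf 1812068988))) (.node (.node (.leaf 470097148) (.leaf 1543927100)) (.node (.leaf 1006968316) (.leaf 2080521276)))))) (.node (.node (.node (.node (.node (.leaf 33555404) (.leaf 1108343308)) (.node (.leaf 570432204) (.leaf 1644931852))) (.node (.node (.leaf 302976396)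 (.leaf 1376332876)) (.node (.leaf 839845004) (.leaf 1913482572)))) (.node (.node (.node (.leaf 168759948) (.leaf 1241883468)) (.node (.leaf 705627020) (.leaf 1778514508))) (.node (.node (.leaf 436542668) (.leaf 1510372620)) (.node (.leaf 973413836) (.leaf 2046966796))))) (.node (.node (.node (.node (.leaf 132369452) (.leaf 1206111724)) (.node (.leaf 669240620) (.leaf 1743226092))) (.node (.node (.leaf 400805484) (.leaf 1474959276)) (.node (.leaf 937680748) (.leaf 2012106412)))) (.node (.node (.node (.leaf 266587500) (.leaf 1340507308)) (.node (.leaf 803456108) (.leaf 1877132716))) (.node (.node (.leaf 535220012) (.leaf 1609195244)) (.node (.leaf 1072092716) (.leaf 2146308076)))))))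

/-- Part of a collection table. -/
def tblHe_4_13 : Trie := (.node (.node (.node (.node (.node (.node (.leaf 29) (.leaf 1073742301)) (.node (.leaf 536871197) (.leaf 1610893533))) (.node (.node (.leaf 268436061) (.leaf 1342823325)) (.node (.leaf 805311325) (.leaf 1879933597)))) (.node (.node (.node (.leaf 134218077) (.leaf 1208305821)) (.node (.leaf 671090781) (.leaf 1744898461))) (.node (.node (.leaf 402981661) (.leaf 1477022429)) (.node (.leaf 939858461) (.leaf 2014168029))))) (.node (.node (.node (.node (.leaf 67109885) (.leaf 1141897789)) (.node (.leaf 603986685) (.leaf 1678486333))) (.node (.node (.leaf 336530877) (.leaf 1409887357)) (.node (.leaf 873399485) (.leaf 1947037053)))) (.node (.node (.node (.leaf 202314429) (.leaf 1275437949)) (.node (.leaf 739181501) (.leaf 1812068989))) (.node (.node (.leaf 470097149) (.leaf 1543927101)) (.node (.leaf 1006968317) (.leaf 2080521277)))))) (.node (.node (.node (.node (.node (.leaf 33555405) (.leaf 1108343309)) (.node (.leaf 570432205) (.leaf 1644931853))) (.node (.node (.leaf 302976397)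 (.leaf 1376332877)) (.node (.leaf 839845005) (.leaf 1913482573)))) (.node (.node (.node (.leaf 168759949) (.leaf 1241883469)) (.node (.leaf 705627021) (.leaf 1778514509))) (.node (.node (.leaf 436542669) (.leaf 1510372621)) (.node (.leaf 973413837) (.leaf 2046966797))))) (.node (.node (.node (.node (.leaf 132369453) (.leaf 1206111725)) (.node (.leaf 669240621) (.leaf 1743226093))) (.node (.node (.leaf 400805485) (.leaf 1474959277)) (.node (.leaf 937680749) (.leaf 2012106413)))) (.node (.node (.node (.leaf 266587501) (.leaf 1340507309)) (.node (.leaf 803456109) (.leaf 1877132717))) (.node (.node (.leaf 535220013) (.leaf 1609195245)) (.node (.leaf 1072092717) (.leaf 2146308077)))))))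

/-- Part of a collection table. -/
def tblHe_4_14 : Trie := (.node (.node (.node (.node (.node (.node (.leaf 30) (.leaf 1073742302)) (.node (.leaf 536871198) (.leaf 1610893534))) (.node (.node (.leaf 268436062) (.leaf 1342823326)) (.node (.leaf 805311326) (.leaf 1879933598)))) (.node (.node (.node (.leaf 134218078) (.leaf 1208305822)) (.node (.leaf 671090782) (.leaf 1744898462))) (.node (.node (.leaf 402981662) (.leaf 1477022430)) (.node (.leaf 939858462) (.leaf 2014168030))))) (.node (.node (.node (.node (.leaf 67109886) (.leaf 1141897790)) (.node (.leaf 603986686) (.leaf 1678486334))) (.node (.node (.leaf 336530878) (.leaf 1409887358)) (.node (.leaf 873399486) (.leaf 1947037054)))) (.node (.node (.node (.leaf 202314430) (.leaf 1275437950)) (.node (.leaf 739181502) (.leaf 1812068990))) (.node (.node (.leaf 470097150) (.leaf 1543927102)) (.node (.leaf 1006968318) (.leaf 2080521278)))))) (.node (.node (.node (.node (.node (.leaf 33555406) (.leaf 1108343310)) (.node (.leaf 570432206) (.leaf 1644931854))) (.node (.node (.leaf 302976398)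 (.leaf 1376332878)) (.node (.leaf 839845006) (.leaf 1913482574)))) (.node (.node (.node (.leaf 168759950) (.leaf 1241883470)) (.node (.leaf 705627022) (.leaf 1778514510))) (.node (.node (.leaf 436542670) (.leaf 1510372622)) (.node (.leaf 973413838) (.leaf 2046966798))))) (.node (.node (.node (.node (.leaf 132369454) (.leaf 1206111726)) (.node (.leaf 669240622) (.leaf 1743226094))) (.node (.node (.leaf 400805486) (.leaf 1474959278)) (.node (.leaf 937680750) (.leaf 2012106414)))) (.node (.node (.node (.leaf 266587502) (.leaf 1340507310)) (.node (.leaf 803456110) (.leaf 1877132718))) (.node (.node (.leaf 535220014) (.leaf 1609195246)) (.node (.leaf 1072092718) (.leaf 2146308078)))))))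

/-- Part of a collection table. -/
def tblHe_4_15 : Trie := (.node (.node (.node (.node (.node (.node (.leaf 31) (.leaf 1073742303)) (.node (.leaf 536871199) (.leaf 1610893535))) (.node (.node (.leaf 268436063) (.leaf 1342823327)) (.node (.leaf 805311327) (.leaf 1879933599)))) (.node (.node (.node (.leaf 134218079) (.leaf 1208305823)) (.node (.leaf 671090783) (.leaf 1744898463))) (.node (.node (.leaf 402981663) (.leaf 1477022431)) (.node (.leaf 939858463) (.leaf 2014168031))))) (.node (.node (.node (.node (.leaf 67109887) (.leaf 1141897791)) (.node (.leaf 603986687) (.leaf 1678486335))) (.node (.node (.leaf 336530879) (.leaf 1409887359)) (.node (.leaf 873399487) (.leaf 1947037055)))) (.node (.node (.node (.leaf 202314431) (.leaf 1275437951)) (.node (.leaf 739181503) (.leaf 1812068991))) (.node (.node (.leaf 470097151) (.leaf 1543927103)) (.node (.leaf 1006968319) (.leaf 2080521279)))))) (.node (.node (.node (.node (.node (.leaf 33555407) (.leaf 1108343311)) (.node (.leaf 570432207) (.leaf 1644931855))) (.node (.node (.leaf 302976399)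 (.leaf 1376332879)) (.node (.leaf 839845007) (.leaf 1913482575)))) (.node (.node (.node (.leaf 168759951) (.leaf 1241883471)) (.node (.leaf 705627023) (.leaf 1778514511))) (.node (.node (.leaf 436542671) (.leaf 1510372623)) (.node (.leaf 973413839) (.leaf 2046966799))))) (.node (.node (.node (.node (.leaf 132369455) (.leaf 1206111727)) (.node (.leaf 669240623) (.leaf 1743226095))) (.node (.node (.leaf 400805487) (.leaf 1474959279)) (.node (.leaf 937680751) (.leaf 2012106415)))) (.node (.node (.node (.leaf 266587503) (.leaf 1340507311)) (.node (.leaf 803456111) (.leaf 1877132719))) (.node (.node (.leaf 535220015) (.leaf 1609195247)) (.node (.leaf 1072092719) (.leaf 2146308079)))))))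

/-- Part of a collection table. -/
def tblHe_5_0 : Trie := (.node (.node (.node (.node (.node (.node (.leaf 32) (.leaf 16777440)) (.node (.leaf 8388896) (.leaf 25444832))) (.node (.node (.leaf 4194464) (.leaf 21129312)) (.node (.leaf 12583328) (.leaf 29763936)))) (.node (.node (.node (.leaf 2097824) (.leaf 19571296)) (.node (.leaf 10490784) (.leaf 28242784))) (.node (.node (.leaf 6335008) (.leaf 23618272)) (.node (.leaf 14727968) (.leaf 32256992))))) (.node (.node (.node (.node (.leaf 1048576) (.leaf 17825984)) (.node (.leaf 9437440) (.leaf 26493376))) (.node (.node (.leaf 5243008) (.leaf 22177856)) (.node (.leaf 13631872) (.leaf 30812480)))) (.node (.node (.node (.leaf 3146368) (.leaf 20619840)) (.node (.leaf 11539328) (.leaf 29291328))) (.node (.node (.leaf 7383552) (.leaf 24666816)) (.node (.leaf 15776512) (.leaf 33305536)))))) (.node (.node (.node (.node (.node (.leaf 48) (.leaf 16777456)) (.node (.leaf 8388912) (.leaf 25444848))) (.node (.node (.leaf 4194480) (.leaf 21129328)) (.node (.leaf 12583344) (.leaf 29763952))))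 (.node (.node (.node (.leaf 2097840) (.leaf 19571312)) (.node (.leaf 10490800) (.leaf 28242800))) (.node (.node (.leaf 6335024) (.leaf 23618288)) (.node (.leaf 14727984) (.leaf 32257008))))) (.node (.node (.node (.node (.leaf 1048592) (.leaf 17826000)) (.node (.leaf 9437456) (.leaf 26493392))) (.node (.node (.leaf 5243024) (.leaf 22177872)) (.node (.leaf 13631888) (.leaf 30812496)))) (.node (.node (.node (.leaf 3146384) (.leaf 20619856)) (.node (.leaf 11539344) (.leaf 29291344))) (.node (.node (.leaf 7383568) (.leaf 24666832)) (.node (.leaf 15776528) (.leaf 33305552)))))))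

/-- Part of a collection table. -/
def tblHe_5_1 : Trie := (.node (.node (.node (.node (.node (.node (.leaf 33) (.leaf 16777441)) (.node (.leaf 8388897) (.leaf 25444833))) (.node (.node (.leaf 4194465) (.leaf 21129313)) (.node (.leaf 12583329) (.leaf 29763937)))) (.node (.node (.node (.leaf 2097825) (.leaf 19571297)) (.node (.leaf 10490785) (.leaf 28242785))) (.node (.node (.leaf 6335009) (.leaf 23618273)) (.node (.leaf 14727969) (.leaf 32256993))))) (.node (.node (.node (.node (.leaf 1048577) (.leaf 17825985)) (.node (.leaf 9437441) (.leaf 26493377))) (.node (.node (.leaf 5243009) (.leaf 22177857)) (.node (.leaf 13631873) (.leaf 30812481)))) (.node (.node (.node (.leaf 3146369) (.leaf 20619841)) (.node (.leaf 11539329) (.leaf 29291329))) (.node (.node (.leaf 7383553) (.leaf 24666817)) (.node (.leaf 15776513) (.leaf 33305537)))))) (.node (.node (.node (.node (.node (.leaf 49) (.leaf 16777457)) (.node (.leaf 8388913) (.leaf 25444849))) (.node (.node (.leaf 4194481) (.leaf 21129329)) (.node (.leaf 12583345) (.leaf 29763953))))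 (.node (.node (.node (.leaf 2097841) (.leaf 19571313)) (.node (.leaf 10490801) (.leaf 28242801))) (.node (.node (.leaf 6335025) (.leaf 23618289)) (.node (.leaf 14727985) (.leaf 32257009))))) (.node (.node (.node (.node (.leaf 1048593) (.leaf 17826001)) (.node (.leaf 9437457) (.leaf 26493393))) (.node (.node (.leaf 5243025) (.leaf 22177873)) (.node (.leaf 13631889) (.leaf 30812497)))) (.node (.node (.node (.leaf 3146385) (.leaf 20619857)) (.node (.leaf 11539345) (.leaf 29291345))) (.node (.node (.leaf 7383569) (.leaf 24666833)) (.node (.leaf 15776529) (.leaf 33305553)))))))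

/-- Part of a collection table. -/
def tblHe_5_2 : Trie := (.node (.node (.node (.node (.node (.node (.leaf 34) (.leaf 16777442)) (.node (.leaf 8388898) (.leaf 25444834))) (.node (.node (.leaf 4194466) (.leaf 21129314)) (.node (.leaf 12583330) (.leaf 29763938)))) (.node (.node (.node (.leaf 2097826) (.leaf 19571298)) (.node (.leaf 10490786) (.leaf 28242786))) (.node (.node (.leaf 6335010) (.leaf 23618274)) (.node (.leaf 14727970) (.leaf 32256994))))) (.node (.node (.node (.node (.leaf 1048578) (.leaf 17825986)) (.node (.leaf 9437442) (.leaf 26493378))) (.node (.node (.leaf 5243010) (.leaf 22177858)) (.node (.leaf 13631874) (.leaf 30812482)))) (.node (.node (.node (.leaf 3146370) (.leaf 20619842)) (.node (.leaf 11539330) (.leaf 29291330))) (.node (.node (.leaf 7383554) (.leaf 24666818)) (.node (.leaf 15776514) (.leaf 33305538)))))) (.node (.node (.node (.node (.node (.leaf 50) (.leaf 16777458)) (.node (.leaf 8388914) (.leaf 25444850))) (.node (.node (.leaf 4194482) (.leaf 21129330)) (.node (.leaf 12583346) (.leaf 29763954))))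 (.node (.node (.node (.leaf 2097842) (.leaf 19571314)) (.node (.leaf 10490802) (.leaf 28242802))) (.node (.node (.leaf 6335026) (.leaf 23618290)) (.node (.leaf 14727986) (.leaf 32257010))))) (.node (.node (.node (.node (.leaf 1048594) (.leaf 17826002)) (.node (.leaf 9437458) (.leaf 26493394))) (.node (.node (.leaf 5243026) (.leaf 22177874)) (.node (.leaf 13631890) (.leaf 30812498)))) (.node (.node (.node (.leaf 3146386) (.leaf 20619858)) (.node (.leaf 11539346) (.leaf 29291346))) (.node (.node (.leaf 7383570) (.leaf 24666834)) (.node (.leaf 15776530) (.leaf 33305554)))))))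

/-- Part of a collection table. -/
def tblHe_5_3 : Trie := (.node (.node (.node (.node (.node (.node (.leaf 35) (.leaf 16777443)) (.node (.leaf 8388899) (.leaf 25444835))) (.node (.node (.leaf 4194467) (.leaf 21129315)) (.node (.leaf 12583331) (.leaf 29763939)))) (.node (.node (.node (.leaf 2097827) (.leaf 19571299)) (.node (.leaf 10490787) (.leaf 28242787))) (.node (.node (.leaf 6335011) (.leaf 23618275)) (.node (.leaf 14727971) (.leaf 32256995))))) (.node (.node (.node (.node (.leaf 1048579) (.leaf 17825987)) (.node (.leaf 9437443) (.leaf 26493379))) (.node (.node (.leaf 5243011) (.leaf 22177859)) (.node (.leaf 13631875) (.leaf 30812483)))) (.node (.node (.node (.leaf 3146371) (.leaf 20619843)) (.node (.leaf 11539331) (.leaf 29291331))) (.node (.node (.leaf 7383555) (.leaf 24666819)) (.node (.leaf 15776515) (.leaf 33305539)))))) (.node (.node (.node (.node (.node (.leaf 51) (.leaf 16777459)) (.node (.leaf 8388915) (.leaf 25444851))) (.node (.node (.leaf 4194483) (.leaf 21129331)) (.node (.leaf 12583347) (.leaf 29763955))))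 (.node (.node (.node (.leaf 2097843) (.leaf 19571315)) (.node (.leaf 10490803) (.leaf 28242803))) (.node (.node (.leaf 6335027) (.leaf 23618291)) (.node (.leaf 14727987) (.leaf 32257011))))) (.node (.node (.node (.node (.leaf 1048595) (.leaf 17826003)) (.node (.leaf 9437459) (.leaf 26493395))) (.node (.node (.leaf 5243027) (.leaf 22177875)) (.node (.leaf 13631891) (.leaf 30812499)))) (.node (.node (.node (.leaf 3146387) (.leaf 20619859)) (.node (.leaf 11539347) (.leaf 29291347))) (.node (.node (.leaf 7383571) (.leaf 24666835)) (.node (.leaf 15776531) (.leaf 33305555)))))))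

/-- Part of a collection table. -/
def tblHe_5_4 : Trie := (.node (.node (.node (.node (.node (.node (.leaf 36) (.leaf 16777444)) (.node (.leaf 8388900) (.leaf 25444836))) (.node (.node (.leaf 4194468) (.leaf 21129316)) (.node (.leaf 12583332) (.leaf 29763940)))) (.node (.node (.node (.leaf 2097828) (.leaf 19571300)) (.node (.leaf 10490788) (.leaf 28242788))) (.node (.node (.leaf 6335012) (.leaf 23618276)) (.node (.leaf 14727972) (.leaf 32256996))))) (.node (.node (.node (.node (.leaf 1048580) (.leaf 17825988)) (.node (.leaf 9437444) (.leaf 26493380))) (.node (.node (.leaf 5243012) (.leaf 22177860)) (.node (.leaf 13631876) (.leaf 30812484)))) (.node (.node (.node (.leaf 3146372) (.leaf 20619844)) (.node (.leaf 11539332) (.leaf 29291332))) (.node (.node (.leaf 7383556) (.leaf 24666820)) (.node (.leaf 15776516) (.leaf 33305540)))))) (.node (.node (.node (.node (.node (.leaf 52) (.leaf 16777460)) (.node (.leaf 8388916) (.leaf 25444852))) (.node (.node (.leaf 4194484) (.leaf 21129332)) (.node (.leaf 12583348) (.leaf 29763956))))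 (.node (.node (.node (.leaf 2097844) (.leaf 19571316)) (.node (.leaf 10490804) (.leaf 28242804))) (.node (.node (.leaf 6335028) (.leaf 23618292)) (.node (.leaf 14727988) (.leaf 32257012))))) (.node (.node (.node (.node (.leaf 1048596) (.leaf 17826004)) (.node (.leaf 9437460) (.leaf 26493396))) (.node (.node (.leaf 5243028) (.leaf 22177876)) (.node (.leaf 13631892) (.leaf 30812500)))) (.node (.node (.node (.leaf 3146388) (.leaf 20619860)) (.node (.leaf 11539348) (.leaf 29291348))) (.node (.node (.leaf 7383572) (.leaf 24666836)) (.node (.leaf 15776532) (.leaf 33305556)))))))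

/-- Part of a collection table. -/
def tblHe_5_5 : Trie := (.node (.node (.node (.node (.node (.node (.leaf 37) (.leaf 16777445)) (.node (.leaf 8388901) (.leaf 25444837))) (.node (.node (.leaf 4194469) (.leaf 21129317)) (.node (.leaf 12583333) (.leaf 29763941)))) (.node (.node (.node (.leaf 2097829) (.leaf 19571301)) (.node (.leaf 10490789) (.leaf 28242789))) (.node (.node (.leaf 6335013) (.leaf 23618277)) (.node (.leaf 14727973) (.leaf 32256997))))) (.node (.node (.node (.node (.leaf 1048581) (.leaf 17825989)) (.node (.leaf 9437445) (.leaf 26493381))) (.node (.node (.leaf 5243013) (.leaf 22177861)) (.node (.leaf 13631877) (.leaf 30812485)))) (.node (.node (.node (.leaf 3146373) (.leaf 20619845)) (.node (.leaf 11539333) (.leaf 29291333))) (.node (.node (.leaf 7383557) (.leaf 24666821)) (.node (.leaf 15776517) (.leaf 33305541)))))) (.node (.node (.node (.node (.node (.leaf 53) (.leaf 16777461)) (.node (.leaf 8388917) (.leaf 25444853))) (.node (.node (.leaf 4194485) (.leaf 21129333)) (.node (.leaf 12583349) (.leaf 29763957))))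 (.node (.node (.node (.leaf 2097845) (.leaf 19571317)) (.node (.leaf 10490805) (.leaf 28242805))) (.node (.node (.leaf 6335029) (.leaf 23618293)) (.node (.leaf 14727989) (.leaf 32257013))))) (.node (.node (.node (.node (.leaf 1048597) (.leaf 17826005)) (.node (.leaf 9437461) (.leaf 26493397))) (.node (.node (.leaf 5243029) (.leaf 22177877)) (.node (.leaf 13631893) (.leaf 30812501)))) (.node (.node (.node (.leaf 3146389) (.leaf 20619861)) (.node (.leaf 11539349) (.leaf 29291349))) (.node (.node (.leaf 7383573) (.leaf 24666837)) (.node (.leaf 15776533) (.leaf 33305557)))))))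

/-- Part of a collection table. -/
def tblHe_5_6 : Trie := (.node (.node (.node (.node (.node (.node (.leaf 38) (.leaf 16777446)) (.node (.leaf 8388902) (.leaf 25444838))) (.node (.node (.leaf 4194470) (.leaf 21129318)) (.node (.leaf 12583334) (.leaf 29763942)))) (.node (.node (.node (.leaf 2097830) (.leaf 19571302)) (.node (.leaf 10490790) (.leaf 28242790))) (.node (.node (.leaf 6335014) (.leaf 23618278)) (.node (.leaf 14727974) (.leaf 32256998))))) (.node (.node (.node (.node (.leaf 1048582) (.leaf 17825990)) (.node (.leaf 9437446) (.leaf 26493382))) (.node (.node (.leaf 5243014) (.leaf 22177862)) (.node (.leaf 13631878) (.leaf 30812486)))) (.node (.node (.node (.leaf 3146374) (.leaf 20619846)) (.node (.leaf 11539334) (.leaf 29291334))) (.node (.node (.leaf 7383558) (.leaf 24666822)) (.node (.leaf 15776518) (.leaf 33305542)))))) (.node (.node (.node (.node (.node (.leaf 54) (.leaf 16777462)) (.node (.leaf 8388918) (.leaf 25444854))) (.node (.node (.leaf 4194486) (.leaf 21129334)) (.node (.leaf 12583350) (.leaf 29763958))))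 (.node (.node (.node (.leaf 2097846) (.leaf 19571318)) (.node (.leaf 10490806) (.leaf 28242806))) (.node (.node (.leaf 6335030) (.leaf 23618294)) (.node (.leaf 14727990) (.leaf 32257014))))) (.node (.node (.node (.node (.leaf 1048598) (.leaf 17826006)) (.node (.leaf 9437462) (.leaf 26493398))) (.node (.node (.leaf 5243030) (.leaf 22177878)) (.node (.leaf 13631894) (.leaf 30812502)))) (.node (.node (.node (.leaf 3146390) (.leaf 20619862)) (.node (.leaf 11539350) (.leaf 29291350))) (.node (.node (.leaf 7383574) (.leaf 24666838)) (.node (.leaf 15776534) (.leaf 33305558)))))))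

/-- Part of a collection table. -/
def tblHe_5_7 : Trie := (.node (.node (.node (.node (.node (.node (.leaf 39) (.leaf 16777447)) (.node (.leaf 8388903) (.leaf 25444839))) (.node (.node (.leaf 4194471) (.leaf 21129319)) (.node (.leaf 12583335) (.leaf 29763943)))) (.node (.node (.node (.leaf 2097831) (.leaf 19571303)) (.node (.leaf 10490791) (.leaf 28242791))) (.node (.node (.leaf 6335015) (.leaf 23618279)) (.node (.leaf 14727975) (.leaf 32256999))))) (.node (.node (.node (.node (.leaf 1048583) (.leaf 17825991)) (.node (.leaf 9437447) (.leaf 26493383))) (.node (.node (.leaf 5243015) (.leaf 22177863)) (.node (.leaf 13631879) (.leaf 30812487)))) (.node (.node (.node (.leaf 3146375) (.leaf 20619847)) (.node (.leaf 11539335) (.leaf 29291335))) (.node (.node (.leaf 7383559) (.leaf 24666823)) (.node (.leaf 15776519) (.leaf 33305543)))))) (.node (.node (.node (.node (.node (.leaf 55) (.leaf 16777463)) (.node (.leaf 8388919) (.leaf 25444855))) (.node (.node (.leaf 4194487) (.leaf 21129335)) (.node (.leaf 12583351) (.leaf 29763959))))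 (.node (.node (.node (.leaf 2097847) (.leaf 19571319)) (.node (.leaf 10490807) (.leaf 28242807))) (.node (.node (.leaf 6335031) (.leaf 23618295)) (.node (.leaf 14727991) (.leaf 32257015))))) (.node (.node (.node (.node (.leaf 1048599) (.leaf 17826007)) (.node (.leaf 9437463) (.leaf 26493399))) (.node (.node (.leaf 5243031) (.leaf 22177879)) (.node (.leaf 13631895) (.leaf 30812503)))) (.node (.node (.node (.leaf 3146391) (.leaf 20619863)) (.node (.leaf 11539351) (.leaf 29291351))) (.node (.node (.leaf 7383575) (.leaf 24666839)) (.node (.leaf 15776535) (.leaf 33305559)))))))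

/-- Part of a collection table. -/
def tblHe_5_8 : Trie := (.node (.node (.node (.node (.node (.node (.leaf 40) (.leaf 16777448)) (.node (.leaf 8388904) (.leaf 25444840))) (.node (.node (.leaf 4194472) (.leaf 21129320)) (.node (.leaf 12583336) (.leaf 29763944)))) (.node (.node (.node (.leaf 2097832) (.leaf 19571304)) (.node (.leaf 10490792) (.leaf 28242792))) (.node (.node (.leaf 6335016) (.leaf 23618280)) (.node (.leaf 14727976) (.leaf 32257000))))) (.node (.node (.node (.node (.leaf 1048584) (.leaf 17825992)) (.node (.leaf 9437448) (.leaf 26493384))) (.node (.node (.leaf 5243016) (.leaf 22177864)) (.node (.leaf 13631880) (.leaf 30812488)))) (.node (.node (.node (.leaf 3146376) (.leaf 20619848)) (.node (.leaf 11539336) (.leaf 29291336))) (.node (.node (.leaf 7383560) (.leaf 24666824)) (.node (.leaf 15776520) (.leaf 33305544)))))) (.node (.node (.node (.node (.node (.leaf 56) (.leaf 16777464)) (.node (.leaf 8388920) (.leaf 25444856))) (.node (.node (.leaf 4194488) (.leaf 21129336)) (.node (.leaf 12583352) (.leaf 29763960))))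 (.node (.node (.node (.leaf 2097848) (.leaf 19571320)) (.node (.leaf 10490808) (.leaf 28242808))) (.node (.node (.leaf 6335032) (.leaf 23618296)) (.node (.leaf 14727992) (.leaf 32257016))))) (.node (.node (.node (.node (.leaf 1048600) (.leaf 17826008)) (.node (.leaf 9437464) (.leaf 26493400))) (.node (.node (.leaf 5243032) (.leaf 22177880)) (.node (.leaf 13631896) (.leaf 30812504)))) (.node (.node (.node (.leaf 3146392) (.leaf 20619864)) (.node (.leaf 11539352) (.leaf 29291352))) (.node (.node (.leaf 7383576) (.leaf 24666840)) (.node (.leaf 15776536) (.leaf 33305560)))))))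

/-- Part of a collection table. -/
def tblHe_5_9 : Trie := (.node (.node (.node (.node (.node (.node (.leaf 41) (.leaf 16777449)) (.node (.leaf 8388905) (.leaf 25444841))) (.node (.node (.leaf 4194473) (.leaf 21129321)) (.node (.leaf 12583337) (.leaf 29763945)))) (.node (.node (.node (.leaf 2097833) (.leaf 19571305)) (.node (.leaf 10490793) (.leaf 28242793))) (.node (.node (.leaf 6335017) (.leaf 23618281)) (.node (.leaf 14727977) (.leaf 32257001))))) (.node (.node (.node (.node (.leaf 1048585) (.leaf 17825993)) (.node (.leaf 9437449) (.leaf 26493385))) (.node (.node (.leaf 5243017) (.leaf 22177865)) (.node (.leaf 13631881) (.leaf 30812489)))) (.node (.node (.node (.leaf 3146377) (.leaf 20619849)) (.node (.leaf 11539337) (.leaf 29291337))) (.node (.node (.leaf 7383561) (.leaf 24666825)) (.node (.leaf 15776521) (.leaf 33305545)))))) (.node (.node (.node (.node (.node (.leaf 57) (.leaf 16777465)) (.node (.leaf 8388921) (.leaf 25444857))) (.node (.node (.leaf 4194489) (.leaf 21129337)) (.node (.leaf 12583353) (.leaf 29763961))))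 (.node (.node (.node (.leaf 2097849) (.leaf 19571321)) (.node (.leaf 10490809) (.leaf 28242809))) (.node (.node (.leaf 6335033) (.leaf 23618297)) (.node (.leaf 14727993) (.leaf 32257017))))) (.node (.node (.node (.node (.leaf 1048601) (.leaf 17826009)) (.node (.leaf 9437465) (.leaf 26493401))) (.node (.node (.leaf 5243033) (.leaf 22177881)) (.node (.leaf 13631897) (.leaf 30812505)))) (.node (.node (.node (.leaf 3146393) (.leaf 20619865)) (.node (.leaf 11539353) (.leaf 29291353))) (.node (.node (.leaf 7383577) (.leaf 24666841)) (.node (.leaf 15776537) (.leaf 33305561)))))))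

/-- Part of a collection table. -/
def tblHe_5_10 : Trie := (.node (.node (.node (.node (.node (.node (.leaf 42) (.leaf 16777450)) (.node (.leaf 8388906) (.leaf 25444842))) (.node (.node (.leaf 4194474) (.leaf 21129322)) (.node (.leaf 12583338) (.leaf 29763946)))) (.node (.node (.node (.leaf 2097834) (.leaf 19571306)) (.node (.leaf 10490794) (.leaf 28242794))) (.node (.node (.leaf 6335018) (.leaf 23618282)) (.node (.leaf 14727978) (.leaf 32257002))))) (.node (.node (.node (.node (.leaf 1048586) (.leaf 17825994)) (.node (.leaf 9437450) (.leaf 26493386))) (.node (.node (.leaf 5243018) (.leaf 22177866)) (.node (.leaf 13631882) (.leaf 30812490)))) (.node (.node (.node (.leaf 3146378) (.leaf 20619850)) (.node (.leaf 11539338) (.leaf 29291338))) (.node (.node (.leaf 7383562) (.leaf 24666826)) (.node (.leaf 15776522) (.leaf 33305546)))))) (.node (.node (.node (.node (.node (.leaf 58) (.leaf 16777466)) (.node (.leaf 8388922) (.leaf 25444858))) (.node (.node (.leaf 4194490) (.leaf 21129338)) (.node (.leaf 12583354) (.leaf 29763962))))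 (.node (.node (.node (.leaf 2097850) (.leaf 19571322)) (.node (.leaf 10490810) (.leaf 28242810))) (.node (.node (.leaf 6335034) (.leaf 23618298)) (.node (.leaf 14727994) (.leaf 32257018))))) (.node (.node (.node (.node (.leaf 1048602) (.leaf 17826010)) (.node (.leaf 9437466) (.leaf 26493402))) (.node (.node (.leaf 5243034) (.leaf 22177882)) (.node (.leaf 13631898) (.leaf 30812506)))) (.node (.node (.node (.leaf 3146394) (.leaf 20619866)) (.node (.leaf 11539354) (.leaf 29291354))) (.node (.node (.leaf 7383578) (.leaf 24666842)) (.node (.leaf 15776538) (.leaf 33305562)))))))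

/-- Part of a collection table. -/
def tblHe_5_11 : Trie := (.node (.node (.node (.node (.node (.node (.leaf 43) (.leaf 16777451)) (.node (.leaf 8388907) (.leaf 25444843))) (.node (.node (.leaf 4194475) (.leaf 21129323)) (.node (.leaf 12583339) (.leaf 29763947)))) (.node (.node (.node (.leaf 2097835) (.leaf 19571307)) (.node (.leaf 10490795) (.leaf 28242795))) (.node (.node (.leaf 6335019) (.leaf 23618283)) (.node (.leaf 14727979) (.leaf 32257003))))) (.node (.node (.node (.node (.leaf 1048587) (.leaf 17825995)) (.node (.leaf 9437451) (.leaf 26493387))) (.node (.node (.leaf 5243019) (.leaf 22177867)) (.node (.leaf 13631883) (.leaf 30812491)))) (.node (.node (.node (.leaf 3146379) (.leaf 20619851)) (.node (.leaf 11539339) (.leaf 29291339))) (.node (.node (.leaf 7383563) (.leaf 24666827)) (.node (.leaf 15776523) (.leaf 33305547)))))) (.node (.node (.node (.node (.node (.leaf 59) (.leaf 16777467)) (.node (.leaf 8388923) (.leaf 25444859))) (.node (.node (.leaf 4194491) (.leaf 21129339)) (.node (.leaf 12583355) (.leaf 29763963))))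 (.node (.node (.node (.leaf 2097851) (.leaf 19571323)) (.node (.leaf 10490811) (.leaf 28242811))) (.node (.node (.leaf 6335035) (.leaf 23618299)) (.node (.leaf 14727995) (.leaf 32257019))))) (.node (.node (.node (.node (.leaf 1048603) (.leaf 17826011)) (.node (.leaf 9437467) (.leaf 26493403))) (.node (.node (.leaf 5243035) (.leaf 22177883)) (.node (.leaf 13631899) (.leaf 30812507)))) (.node (.node (.node (.leaf 3146395) (.leaf 20619867)) (.node (.leaf 11539355) (.leaf 29291355))) (.node (.node (.leaf 7383579) (.leaf 24666843)) (.node (.leaf 15776539) (.leaf 33305563)))))))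

/-- Part of a collection table. -/
def tblHe_5_12 : Trie := (.node (.node (.node (.node (.node (.node (.leaf 44) (.leaf 16777452)) (.node (.leaf 8388908) (.leaf 25444844))) (.node (.node (.leaf 4194476) (.leaf 21129324)) (.node (.leaf 12583340) (.leaf 29763948)))) (.node (.node (.node (.leaf 2097836) (.leaf 19571308)) (.node (.leaf 10490796) (.leaf 28242796))) (.node (.node (.leaf 6335020) (.leaf 23618284)) (.node (.leaf 14727980) (.leaf 32257004))))) (.node (.node (.node (.node (.leaf 1048588) (.leaf 17825996)) (.node (.leaf 9437452) (.leaf 26493388))) (.node (.node (.leaf 5243020) (.leaf 22177868)) (.node (.leaf 13631884) (.leaf 30812492)))) (.node (.node (.node (.leaf 3146380) (.leaf 20619852)) (.node (.leaf 11539340) (.leaf 29291340))) (.node (.node (.leaf 7383564) (.leaf 24666828)) (.node (.leaf 15776524) (.leaf 33305548)))))) (.node (.node (.node (.node (.node (.leaf 60) (.leaf 16777468)) (.node (.leaf 8388924) (.leaf 25444860))) (.node (.node (.leaf 4194492) (.leaf 21129340)) (.node (.leaf 12583356) (.leaf 29763964))))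 (.node (.node (.node (.leaf 2097852) (.leaf 19571324)) (.node (.leaf 10490812) (.leaf 28242812))) (.node (.node (.leaf 6335036) (.leaf 23618300)) (.node (.leaf 14727996) (.leaf 32257020))))) (.node (.node (.node (.node (.leaf 1048604) (.leaf 17826012)) (.node (.leaf 9437468) (.leaf 26493404))) (.node (.node (.leaf 5243036) (.leaf 22177884)) (.node (.leaf 13631900) (.leaf 30812508)))) (.node (.node (.node (.leaf 3146396) (.leaf 20619868)) (.node (.leaf 11539356) (.leaf 29291356))) (.node (.node (.leaf 7383580) (.leaf 24666844)) (.node (.leaf 15776540) (.leaf 33305564)))))))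

/-- Part of a collection table. -/
def tblHe_5_13 : Trie := (.node (.node (.node (.node (.node (.node (.leaf 45) (.leaf 16777453)) (.node (.leaf 8388909) (.leaf 25444845))) (.node (.node (.leaf 4194477) (.leaf 21129325)) (.node (.leaf 12583341) (.leaf 29763949)))) (.node (.node (.node (.leaf 2097837) (.leaf 19571309)) (.node (.leaf 10490797) (.leaf 28242797))) (.node (.node (.leaf 6335021) (.leaf 23618285)) (.node (.leaf 14727981) (.leaf 32257005))))) (.node (.node (.node (.node (.leaf 1048589) (.leaf 17825997)) (.node (.leaf 9437453) (.leaf 26493389))) (.node (.node (.leaf 5243021) (.leaf 22177869)) (.node (.leaf 13631885) (.leaf 30812493)))) (.node (.node (.node (.leaf 3146381) (.leaf 20619853)) (.node (.leaf 11539341) (.leaf 29291341))) (.node (.node (.leaf 7383565) (.leaf 24666829)) (.node (.leaf 15776525) (.leaf 33305549)))))) (.node (.node (.node (.node (.node (.leaf 61) (.leaf 16777469)) (.node (.leaf 8388925) (.leaf 25444861))) (.node (.node (.leaf 4194493) (.leaf 21129341)) (.node (.leaf 12583357) (.leaf 29763965))))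 (.node (.node (.node (.leaf 2097853) (.leaf 19571325)) (.node (.leaf 10490813) (.leaf 28242813))) (.node (.node (.leaf 6335037) (.leaf 23618301)) (.node (.leaf 14727997) (.leaf 32257021))))) (.node (.node (.node (.node (.leaf 1048605) (.leaf 17826013)) (.node (.leaf 9437469) (.leaf 26493405))) (.node (.node (.leaf 5243037) (.leaf 22177885)) (.node (.leaf 13631901) (.leaf 30812509)))) (.node (.node (.node (.leaf 3146397) (.leaf 20619869)) (.node (.leaf 11539357) (.leaf 29291357))) (.node (.node (.leaf 7383581) (.leaf 24666845)) (.node (.leaf 15776541) (.leaf 33305565)))))))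

/-- Part of a collection table. -/
def tblHe_5_14 : Trie := (.node (.node (.node (.node (.node (.node (.leaf 46) (.leaf 16777454)) (.node (.leaf 8388910) (.leaf 25444846))) (.node (.node (.leaf 4194478) (.leaf 21129326)) (.node (.leaf 12583342) (.leaf 29763950)))) (.node (.node (.node (.leaf 2097838) (.leaf 19571310)) (.node (.leaf 10490798) (.leaf 28242798))) (.node (.node (.leaf 6335022) (.leaf 23618286)) (.node (.leaf 14727982) (.leaf 32257006))))) (.node (.node (.node (.node (.leaf 1048590) (.leaf 17825998)) (.node (.leaf 9437454) (.leaf 26493390))) (.node (.node (.leaf 5243022) (.leaf 22177870)) (.node (.leaf 13631886) (.leaf 30812494)))) (.node (.node (.node (.leaf 3146382) (.leaf 20619854)) (.node (.leaf 11539342) (.leaf 29291342))) (.node (.node (.leaf 7383566) (.leaf 24666830)) (.node (.leaf 15776526) (.leaf 33305550)))))) (.node (.node (.node (.node (.node (.leaf 62) (.leaf 16777470)) (.node (.leaf 8388926) (.leaf 25444862))) (.node (.node (.leaf 4194494) (.leaf 21129342)) (.node (.leaf 12583358) (.leaf 29763966))))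 (.node (.node (.node (.leaf 2097854) (.leaf 19571326)) (.node (.leaf 10490814) (.leaf 28242814))) (.node (.node (.leaf 6335038) (.leaf 23618302)) (.node (.leaf 14727998) (.leaf 32257022))))) (.node (.node (.node (.node (.leaf 1048606) (.leaf 17826014)) (.node (.leaf 9437470) (.leaf 26493406))) (.node (.node (.leaf 5243038) (.leaf 22177886)) (.node (.leaf 13631902) (.leaf 30812510)))) (.node (.node (.node (.leaf 3146398) (.leaf 20619870)) (.node (.leaf 11539358) (.leaf 29291358))) (.node (.node (.leaf 7383582) (.leaf 24666846)) (.node (.leaf 15776542) (.leaf 33305566)))))))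

/-- Part of a collection table. -/
def tblHe_5_15 : Trie := (.node (.node (.node (.node (.node (.node (.leaf 47) (.leaf 16777455)) (.node (.leaf 8388911) (.leaf 25444847))) (.node (.node (.leaf 4194479) (.leaf 21129327)) (.node (.leaf 12583343) (.leaf 29763951)))) (.node (.node (.node (.leaf 2097839) (.leaf 19571311)) (.node (.leaf 10490799) (.leaf 28242799))) (.node (.node (.leaf 6335023) (.leaf 23618287)) (.node (.leaf 14727983) (.leaf 32257007))))) (.node (.node (.node (.node (.leaf 1048591) (.leaf 17825999)) (.node (.leaf 9437455) (.leaf 26493391))) (.node (.node (.leaf 5243023) (.leaf 22177871)) (.node (.leaf 13631887) (.leaf 30812495)))) (.node (.node (.node (.leaf 3146383) (.leaf 20619855)) (.node (.leaf 11539343) (.leaf 29291343))) (.node (.node (.leaf 7383567) (.leaf 24666831)) (.node (.leaf 15776527) (.leaf 33305551)))))) (.node (.node (.node (.node (.node (.leaf 63) (.leaf 16777471)) (.node (.leaf 8388927) (.leaf 25444863))) (.node (.node (.leaf 4194495) (.leaf 21129343)) (.node (.leaf 12583359) (.leaf 29763967))))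 (.node (.node (.node (.leaf 2097855) (.leaf 19571327)) (.node (.leaf 10490815) (.leaf 28242815))) (.node (.node (.leaf 6335039) (.leaf 23618303)) (.node (.leaf 14727999) (.leaf 32257023))))) (.node (.node (.node (.node (.leaf 1048607) (.leaf 17826015)) (.node (.leaf 9437471) (.leaf 26493407))) (.node (.node (.leaf 5243039) (.leaf 22177887)) (.node (.leaf 13631903) (.leaf 30812511)))) (.node (.node (.node (.leaf 3146399) (.leaf 20619871)) (.node (.leaf 11539359) (.leaf 29291359))) (.node (.node (.leaf 7383583) (.leaf 24666847)) (.node (.leaf 15776543) (.leaf 33305567)))))))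

/-- Part of a collection table. -/
def tblHe_6_0 : Trie := (.node (.node (.node (.node (.node (.node (.leaf 64) (.leaf 525120)) (.node (.leaf 262464) (.leaf 789056))) (.node (.node (.leaf 131520) (.leaf 658112)) (.node (.leaf 395456) (.leaf 920512)))) (.node (.node (.node (.leaf 65536) (.leaf 590592)) (.node (.leaf 327936) (.leaf 854528))) (.node (.node (.leaf 196992) (.leaf 723584)) (.node (.leaf 460928) (.leaf 985984))))) (.node (.node (.node (.node (.leaf 96) (.leaf 525152)) (.node (.leaf 262496) (.leaf 789088))) (.node (.node (.leaf 131552) (.leaf 658144)) (.node (.leaf 395488) (.leaf 920544)))) (.node (.node (.node (.leaf 65568) (.leaf 590624)) (.node (.leaf 327968) (.leaf 854560))) (.node (.node (.leaf 197024) (.leaf 723616)) (.node (.leaf 460960) (.leaf 986016)))))) (.node (.node (.node (.node (.node (.leaf 80) (.leaf 525136)) (.node (.leaf 262480) (.leaf 789072))) (.node (.node (.leaf 131536) (.leaf 658128)) (.node (.leaf 395472) (.leaf 920528)))) (.node (.node (.node (.leaf 65552) (.leaf 590608)) (.node (.leaf 327952)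 (.leaf 854544))) (.node (.node (.leaf 197008) (.leaf 723600)) (.node (.leaf 460944) (.leaf 986000))))) (.node (.node (.node (.node (.leaf 112) (.leaf 525168)) (.node (.leaf 262512) (.leaf 789104))) (.node (.node (.leaf 131568) (.leaf 658160)) (.node (.leaf 395504) (.leaf 920560)))) (.node (.node (.node (.leaf 65584) (.leaf 590640)) (.node (.leaf 327984) (.leaf 854576))) (.node (.node (.leaf 197040) (.leaf 723632)) (.node (.leaf 460976) (.leaf 986032)))))))

/-- Part of a collection table. -/
def tblHe_6_1 : Trie := (.node (.node (.node (.node (.node (.node (.leaf 65) (.leaf 525121)) (.node (.leaf 262465) (.leaf 789057))) (.node (.node (.leaf 131521) (.leaf 658113)) (.node (.leaf 395457) (.leaf 920513)))) (.node (.node (.node (.leaf 65537) (.leaf 590593)) (.node (.leaf 327937) (.leaf 854529))) (.node (.node (.leaf 196993) (.leaf 723585)) (.node (.leaf 460929) (.leaf 985985))))) (.node (.node (.node (.node (.leaf 97) (.leaf 525153)) (.node (.leaf 262497) (.leaf 789089))) (.node (.node (.leaf 131553) (.leaf 658145)) (.node (.leaf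 395489) (.leaf 920545)))) (.node (.node (.node (.leaf 65569) (.leaf 590625)) (.node (.leaf 327969) (.leaf 854561))) (.node (.node (.leaf 197025) (.leaf 723617)) (.node (.leaf 460961) (.leaf 986017)))))) (.node (.node (.node (.node (.node (.leaf 81) (.leaf 525137)) (.node (.leaf 262481) (.leaf 789073))) (.node (.node (.leaf 131537) (.leaf 658129)) (.node (.leaf 395473) (.leaf 920529)))) (.node (.node (.node (.leaf 65553) (.leaf 590609)) (.node (.leaf 327953) (.leaf 854545))) (.node (.node (.leaf 197009) (.leaf 723601)) (.node (.leaf 460945) (.leaf 986001))))) (.node (.node (.node (.node (.leaf 113) (.leaf 525169)) (.node (.leaf 262513) (.leaf 789105))) (.node (.node (.leaf 131569) (.leaf 658161)) (.node (.leaf 395505) (.leaf 920561)))) (.node (.node (.node (.leaf 65585) (.leaf 590641)) (.node (.leaf 327985) (.leaf 854577))) (.node (.node (.leaf 197041) (.leaf 723633)) (.node (.leaf 460977) (.leaf 986033)))))))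

/-- Part of a collection table. -/
def tblHe_6_2 : Trie := (.node (.node (.node (.node (.node (.node (.leaf 66) (.leaf 525122)) (.node (.leaf 262466) (.leaf 789058))) (.node (.node (.leaf 131522) (.leaf 658114)) (.node (.leaf 395458) (.leaf 920514)))) (.node (.node (.node (.leaf 65538) (.leaf 590594)) (.node (.leaf 327938) (.leaf 854530))) (.node (.node (.leaf 196994) (.leaf 723586)) (.node (.leaf 460930) (.leaf 985986))))) (.node (.node (.node (.node (.leaf 98) (.leaf 525154)) (.node (.leaf 262498) (.leaf 789090))) (.node (.node (.leaf 131554) (.leaf 658146)) (.node (.leaf 395490) (.leaf 920546)))) (.node (.node (.node (.leaf 65570) (.leaf 590626)) (.node (.leaf 327970) (.leaf 854562))) (.node (.node (.leaf 197026) (.leaf 723618)) (.node (.leaf 460962) (.leaf 986018)))))) (.node (.node (.node (.node (.node (.leaf 82) (.leaf 525138)) (.node (.leaf 262482) (.leaf 789074))) (.node (.node (.leaf 131538) (.leaf 658130)) (.node (.leaf 395474) (.leaf 920530)))) (.node (.node (.node (.leaf 65554) (.leaf 590610)) (.node (.leaf 327954)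 (.leaf 854546))) (.node (.node (.leaf 197010) (.leaf 723602)) (.node (.leaf 460946) (.leaf 986002))))) (.node (.node (.node (.node (.leaf 114) (.leaf 525170)) (.node (.leaf 262514) (.leaf 789106))) (.node (.node (.leaf 131570) (.leaf 658162)) (.node (.leaf 395506) (.leaf 920562)))) (.node (.node (.node (.leaf 65586) (.leaf 590642)) (.node (.leaf 327986) (.leaf 854578))) (.node (.node (.leaf 197042) (.leaf 723634)) (.node (.leaf 460978) (.leaf 986034)))))))

/-- Part of a collection table. -/
def tblHe_6_3 : Trie := (.node (.node (.node (.node (.node (.node (.leaf 67) (.leaf 525123)) (.node (.leaf 262467) (.leaf 789059))) (.node (.node (.leaf 131523) (.leaf 658115)) (.node (.leaf 395459) (.leaf 920515)))) (.node (.node (.node (.leaf 65539) (.leaf 590595)) (.node (.leaf 327939) (.leaf 854531))) (.node (.node (.leaf 196995) (.leaf 723587)) (.node (.leaf 460931) (.leaf 985987))))) (.node (.node (.node (.node (.leaf 99) (.leaf 525155)) (.node (.leaf 262499) (.leaf 789091))) (.node (.node (.leaf 131555) (.leaf 658147)) (.node (.leaf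 395491) (.leaf 920547)))) (.node (.node (.node (.leaf 65571) (.leaf 590627)) (.node (.leaf 327971) (.leaf 854563))) (.node (.node (.leaf 197027) (.leaf 723619)) (.node (.leaf 460963) (.leaf 986019)))))) (.node (.node (.node (.node (.node (.leaf 83) (.leaf 525139)) (.node (.leaf 262483) (.leaf 789075))) (.node (.node (.leaf 131539) (.leaf 658131)) (.node (.leaf 395475) (.leaf 920531)))) (.node (.node (.node (.leaf 65555) (.leaf 590611)) (.node (.leaf 327955) (.leaf 854547))) (.node (.node (.leaf 197011) (.leaf 723603)) (.node (.leaf 460947) (.leaf 986003))))) (.node (.node (.node (.node (.leaf 115) (.leaf 525171)) (.node (.leaf 262515) (.leaf 789107))) (.node (.node (.leaf 131571) (.leaf 658163)) (.node (.leaf 395507) (.leaf 920563)))) (.node (.node (.node (.leaf 65587) (.leaf 590643)) (.node (.leaf 327987) (.leaf 854579))) (.node (.node (.leaf 197043) (.leaf 723635)) (.node (.leaf 460979) (.leaf 986035)))))))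

/-- Part of a collection table. -/
def tblHe_6_4 : Trie := (.node (.node (.node (.node (.node (.node (.leaf 68) (.leaf 525124)) (.node (.leaf 262468) (.leaf 789060))) (.node (.node (.leaf 131524) (.leaf 658116)) (.node (.leaf 395460) (.leaf 920516)))) (.node (.node (.node (.leaf 65540) (.leaf 590596)) (.node (.leaf 327940) (.leaf 854532))) (.node (.node (.leaf 196996) (.leaf 723588)) (.node (.leaf 460932) (.leaf 985988))))) (.node (.node (.node (.node (.leaf 100) (.leaf 525156)) (.node (.leaf 262500) (.leaf 789092))) (.node (.node (.leaf 131556) (.leaf 658148)) (.node (.leaf 395492) (.leaf 920548)))) (.node (.node (.node (.leaf 65572) (.leaf 590628)) (.node (.leaf 327972) (.leaf 854564))) (.node (.node (.leaf 197028) (.leaf 723620)) (.node (.leaf 460964) (.leaf 986020)))))) (.node (.node (.node (.node (.node (.leaf 84) (.leaf 525140)) (.node (.leaf 262484) (.leaf 789076))) (.node (.node (.leaf 131540) (.leaf 658132)) (.node (.leaf 395476) (.leaf 920532)))) (.node (.node (.node (.leaf 65556) (.leaf 590612)) (.node (.leaf 327956)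 (.leaf 854548))) (.node (.node (.leaf 197012) (.leaf 723604)) (.node (.leaf 460948) (.leaf 986004))))) (.node (.node (.node (.node (.leaf 116) (.leaf 525172)) (.node (.leaf 262516) (.leaf 789108))) (.node (.node (.leaf 131572) (.leaf 658164)) (.node (.leaf 395508) (.leaf 920564)))) (.node (.node (.node (.leaf 65588) (.leaf 590644)) (.node (.leaf 327988) (.leaf 854580))) (.node (.node (.leaf 197044) (.leaf 723636)) (.node (.leaf 460980) (.leaf 986036)))))))

/-- Part of a collection table. -/
def tblHe_6_5 : Trie := (.node (.node (.node (.node (.node (.node (.leaf 69) (.leaf 525125)) (.node (.leaf 262469) (.leaf 789061))) (.node (.node (.leaf 131525) (.leaf 658117)) (.node (.leaf 395461) (.leaf 920517)))) (.node (.node (.node (.leaf 65541) (.leaf 590597)) (.node (.leaf 327941) (.leaf 854533))) (.node (.node (.leaf 196997) (.leaf 723589)) (.node (.leaf 460933) (.leaf 985989))))) (.node (.node (.node (.node (.leaf 101) (.leaf 525157)) (.node (.leaf 262501) (.leaf 789093))) (.node (.node (.leaf 131557) (.leaf 658149)) (.node (.leaf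 395493) (.leaf 920549)))) (.node (.node (.node (.leaf 65573) (.leaf 590629)) (.node (.leaf 327973) (.leaf 854565))) (.node (.node (.leaf 197029) (.leaf 723621)) (.node (.leaf 460965) (.leaf 986021)))))) (.node (.node (.node (.node (.node (.leaf 85) (.leaf 525141)) (.node (.leaf 262485) (.leaf 789077))) (.node (.node (.leaf 131541) (.leaf 658133)) (.node (.leaf 395477) (.leaf 920533)))) (.node (.node (.node (.leaf 65557) (.leaf 590613)) (.node (.leaf 327957) (.leaf 854549))) (.node (.node (.leaf 197013) (.leaf 723605)) (.node (.leaf 460949) (.leaf 986005))))) (.node (.node (.node (.node (.leaf 117) (.leaf 525173)) (.node (.leaf 262517) (.leaf 789109))) (.node (.node (.leaf 131573) (.leaf 658165)) (.node (.leaf 395509) (.leaf 920565)))) (.node (.node (.node (.leaf 65589) (.leaf 590645)) (.node (.leaf 327989) (.leaf 854581))) (.node (.node (.leaf 197045) (.leaf 723637)) (.node (.leaf 460981) (.leaf 986037)))))))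

/-- Part of a collection table. -/
def tblHe_6_6 : Trie := (.node (.node (.node (.node (.node (.node (.leaf 70) (.leaf 525126)) (.node (.leaf 262470) (.leaf 789062))) (.node (.node (.leaf 131526) (.leaf 658118)) (.node (.leaf 395462) (.leaf 920518)))) (.node (.node (.node (.leaf 65542) (.leaf 590598)) (.node (.leaf 327942) (.leaf 854534))) (.node (.node (.leaf 196998) (.leaf 723590)) (.node (.leaf 460934) (.leaf 985990))))) (.node (.node (.node (.node (.leaf 102) (.leaf 525158)) (.node (.leaf 262502) (.leaf 789094))) (.node (.node (.leaf 131558) (.leaf 658150)) (.node (.leaf 395494) (.leaf 920550)))) (.node (.node (.node (.leaf 65574) (.leaf 590630)) (.node (.leaf 327974) (.leaf 854566))) (.node (.node (.leaf 197030) (.leaf 723622)) (.node (.leaf 460966) (.leaf 986022)))))) (.node (.node (.node (.node (.node (.leaf 86) (.leaf 525142)) (.node (.leaf 262486) (.leaf 789078))) (.node (.node (.leaf 131542) (.leaf 658134)) (.node (.leaf 395478) (.leaf 920534)))) (.node (.node (.node (.leaf 65558) (.leaf 590614)) (.node (.leaf 327958)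 (.leaf 854550))) (.node (.node (.leaf 197014) (.leaf 723606)) (.node (.leaf 460950) (.leaf 986006))))) (.node (.node (.node (.node (.leaf 118) (.leaf 525174)) (.node (.leaf 262518) (.leaf 789110))) (.node (.node (.leaf 131574) (.leaf 658166)) (.node (.leaf 395510) (.leaf 920566)))) (.node (.node (.node (.leaf 65590) (.leaf 590646)) (.node (.leaf 327990) (.leaf 854582))) (.node (.node (.leaf 197046) (.leaf 723638)) (.node (.leaf 460982) (.leaf 986038)))))))

/-- Part of a collection table. -/
def tblHe_6_7 : Trie := (.node (.node (.node (.node (.node (.node (.leaf 71) (.leaf 525127)) (.node (.leaf 262471) (.leaf 789063))) (.node (.node (.leaf 131527) (.leaf 658119)) (.node (.leaf 395463) (.leaf 920519)))) (.node (.node (.node (.leaf 65543) (.leaf 590599)) (.node (.leaf 327943) (.leaf 854535))) (.node (.node (.leaf 196999) (.leaf 723591)) (.node (.leaf 460935) (.leaf 985991))))) (.node (.node (.node (.node (.leaf 103) (.leaf 525159)) (.node (.leaf 262503) (.leaf 789095))) (.node (.node (.leaf 131559) (.leaf 658151)) (.node (.leaf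 395495) (.leaf 920551)))) (.node (.node (.node (.leaf 65575) (.leaf 590631)) (.node (.leaf 327975) (.leaf 854567))) (.node (.node (.leaf 197031) (.leaf 723623)) (.node (.leaf 460967) (.leaf 986023)))))) (.node (.node (.node (.node (.node (.leaf 87) (.leaf 525143)) (.node (.leaf 262487) (.leaf 789079))) (.node (.node (.leaf 131543) (.leaf 658135)) (.node (.leaf 395479) (.leaf 920535)))) (.node (.node (.node (.leaf 65559) (.leaf 590615)) (.node (.leaf 327959) (.leaf 854551))) (.node (.node (.leaf 197015) (.leaf 723607)) (.node (.leaf 460951) (.leaf 986007))))) (.node (.node (.node (.node (.leaf 119) (.leaf 525175)) (.node (.leaf 262519) (.leaf 789111))) (.node (.node (.leaf 131575) (.leaf 658167)) (.node (.leaf 395511) (.leaf 920567)))) (.node (.node (.node (.leaf 65591) (.leaf 590647)) (.node (.leaf 327991) (.leaf 854583))) (.node (.node (.leaf 197047) (.leaf 723639)) (.node (.leaf 460983) (.leaf 986039)))))))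

/-- Part of a collection table. -/
def tblHe_6_8 : Trie := (.node (.node (.node (.node (.node (.node (.leaf 72) (.leaf 525128)) (.node (.leaf 262472) (.leaf 789064))) (.node (.node (.leaf 131528) (.leaf 658120)) (.node (.leaf 395464) (.leaf 920520)))) (.node (.node (.node (.leaf 65544) (.leaf 590600)) (.node (.leaf 327944) (.leaf 854536))) (.node (.node (.leaf 197000) (.leaf 723592)) (.node (.leaf 460936) (.leaf 985992))))) (.node (.node (.node (.node (.leaf 104) (.leaf 525160)) (.node (.leaf 262504) (.leaf 789096))) (.node (.node (.leaf 131560) (.leaf 658152)) (.node (.leaf 395496) (.leaf 920552)))) (.node (.node (.node (.leaf 65576) (.leaf 590632)) (.node (.leaf 327976) (.leaf 854568))) (.node (.node (.leaf 197032) (.leaf 723624)) (.node (.leaf 460968) (.leaf 986024)))))) (.node (.node (.node (.node (.node (.leaf 88) (.leaf 525144)) (.node (.leaf 262488) (.leaf 789080))) (.node (.node (.leaf 131544) (.leaf 658136)) (.node (.leaf 395480) (.leaf 920536)))) (.node (.node (.node (.leaf 65560) (.leaf 590616)) (.node (.leaf 327960)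 (.leaf 854552))) (.node (.node (.leaf 197016) (.leaf 723608)) (.node (.leaf 460952) (.leaf 986008))))) (.node (.node (.node (.node (.leaf 120) (.leaf 525176)) (.node (.leaf 262520) (.leaf 789112))) (.node (.node (.leaf 131576) (.leaf 658168)) (.node (.leaf 395512) (.leaf 920568)))) (.node (.node (.node (.leaf 65592) (.leaf 590648)) (.node (.leaf 327992) (.leaf 854584))) (.node (.node (.leaf 197048) (.leaf 723640)) (.node (.leaf 460984) (.leaf 986040)))))))

/-- Part of a collection table. -/
def tblHe_6_9 : Trie := (.node (.node (.node (.node (.node (.node (.leaf 73) (.leaf 525129)) (.node (.leaf 262473) (.leaf 789065))) (.node (.node (.leaf 131529) (.leaf 658121)) (.node (.leaf 395465) (.leaf 920521)))) (.node (.node (.node (.leaf 65545) (.leaf 590601)) (.node (.leaf 327945) (.leaf 854537))) (.node (.node (.leaf 197001) (.leaf 723593)) (.node (.leaf 460937) (.leaf 985993))))) (.node (.node (.node (.node (.leaf 105) (.leaf 525161)) (.node (.leaf 262505) (.leaf 789097))) (.node (.node (.leaf 131561) (.leaf 658153)) (.node (.leaf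 395497) (.leaf 920553)))) (.node (.node (.node (.leaf 65577) (.leaf 590633)) (.node (.leaf 327977) (.leaf 854569))) (.node (.node (.leaf 197033) (.leaf 723625)) (.node (.leaf 460969) (.leaf 986025)))))) (.node (.node (.node (.node (.node (.leaf 89) (.leaf 525145)) (.node (.leaf 262489) (.leaf 789081))) (.node (.node (.leaf 131545) (.leaf 658137)) (.node (.leaf 395481) (.leaf 920537)))) (.node (.node (.node (.leaf 65561) (.leaf 590617)) (.node (.leaf 327961) (.leaf 854553))) (.node (.node (.leaf 197017) (.leaf 723609)) (.node (.leaf 460953) (.leaf 986009))))) (.node (.node (.node (.node (.leaf 121) (.leaf 525177)) (.node (.leaf 262521) (.leaf 789113))) (.node (.node (.leaf 131577) (.leaf 658169)) (.node (.leaf 395513) (.leaf 920569)))) (.node (.node (.node (.leaf 65593) (.leaf 590649)) (.node (.leaf 327993) (.leaf 854585))) (.node (.node (.leaf 197049) (.leaf 723641)) (.node (.leaf 460985) (.leaf 986041)))))))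

/-- Part of a collection table. -/
def tblHe_6_10 : Trie := (.node (.node (.node (.node (.node (.node (.leaf 74) (.leaf 525130)) (.node (.leaf 262474) (.leaf 789066))) (.node (.node (.leaf 131530) (.leaf 658122)) (.node (.leaf 395466) (.leaf 920522)))) (.node (.node (.node (.leaf 65546) (.leaf 590602)) (.node (.leaf 327946) (.leaf 854538))) (.node (.node (.leaf 197002) (.leaf 723594)) (.node (.leaf 460938) (.leaf 985994))))) (.node (.node (.node (.node (.leaf 106) (.leaf 525162)) (.node (.leaf 262506) (.leaf 789098))) (.node (.node (.leaf 131562) (.leaf 658154)) (.node (.leaf 395498) (.leaf 920554)))) (.node (.node (.node (.leaf 65578) (.leaf 590634)) (.node (.leaf 327978) (.leaf 854570))) (.node (.node (.leaf 197034) (.leaf 723626)) (.node (.leaf 460970) (.leaf 986026)))))) (.node (.node (.node (.node (.node (.leaf 90) (.leaf 525146)) (.node (.leaf 262490) (.leaf 789082))) (.node (.node (.leaf 131546) (.leaf 658138)) (.node (.leaf 395482) (.leaf 920538)))) (.node (.node (.node (.leaf 65562) (.leaf 590618)) (.node (.leaf 327962)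 (.leaf 854554))) (.node (.node (.leaf 197018) (.leaf 723610)) (.node (.leaf 460954) (.leaf 986010))))) (.node (.node (.node (.node (.leaf 122) (.leaf 525178)) (.node (.leaf 262522) (.leaf 789114))) (.node (.node (.leaf 131578) (.leaf 658170)) (.node (.leaf 395514) (.leaf 920570)))) (.node (.node (.node (.leaf 65594) (.leaf 590650)) (.node (.leaf 327994) (.leaf 854586))) (.node (.node (.leaf 197050) (.leaf 723642)) (.node (.leaf 460986) (.leaf 986042)))))))

/-- Part of a collection table. -/
def tblHe_6_11 : Trie := (.node (.node (.node (.node (.node (.node (.leaf 75) (.leaf 525131)) (.node (.leaf 262475) (.leaf 789067))) (.node (.node (.leaf 131531) (.leaf 658123)) (.node (.leaf 395467) (.leaf 920523)))) (.node (.node (.node (.leaf 65547) (.leaf 590603)) (.node (.leaf 327947) (.leaf 854539))) (.node (.node (.leaf 197003) (.leaf 723595)) (.node (.leaf 460939) (.leaf 985995))))) (.node (.node (.node (.node (.leaf 107) (.leaf 525163)) (.node (.leaf 262507) (.leaf 789099))) (.node (.node (.leaf 131563) (.leaf 658155)) (.node (.leaf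 395499) (.leaf 920555)))) (.node (.node (.node (.leaf 65579) (.leaf 590635)) (.node (.leaf 327979) (.leaf 854571))) (.node (.node (.leaf 197035) (.leaf 723627)) (.node (.leaf 460971) (.leaf 986027)))))) (.node (.node (.node (.node (.node (.leaf 91) (.leaf 525147)) (.node (.leaf 262491) (.leaf 789083))) (.node (.node (.leaf 131547) (.leaf 658139)) (.node (.leaf 395483) (.leaf 920539)))) (.node (.node (.node (.leaf 65563) (.leaf 590619)) (.node (.leaf 327963) (.leaf 854555))) (.node (.node (.leaf 197019) (.leaf 723611)) (.node (.leaf 460955) (.leaf 986011))))) (.node (.node (.node (.node (.leaf 123) (.leaf 525179)) (.node (.leaf 262523) (.leaf 789115))) (.node (.node (.leaf 131579) (.leaf 658171)) (.node (.leaf 395515) (.leaf 920571)))) (.node (.node (.node (.leaf 65595) (.leaf 590651)) (.node (.leaf 327995) (.leaf 854587))) (.node (.node (.leaf 197051) (.leaf 723643)) (.node (.leaf 460987) (.leaf 986043)))))))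

/-- Part of a collection table. -/
def tblHe_6_12 : Trie := (.node (.node (.node (.node (.node (.node (.leaf 76) (.leaf 525132)) (.node (.leaf 262476) (.leaf 789068))) (.node (.node (.leaf 131532) (.leaf 658124)) (.node (.leaf 395468) (.leaf 920524)))) (.node (.node (.node (.leaf 65548) (.leaf 590604)) (.node (.leaf 327948) (.leaf 854540))) (.node (.node (.leaf 197004) (.leaf 723596)) (.node (.leaf 460940) (.leaf 985996))))) (.node (.node (.node (.node (.leaf 108) (.leaf 525164)) (.node (.leaf 262508) (.leaf 789100))) (.node (.node (.leaf 131564) (.leaf 658156)) (.node (.leaf 395500) (.leaf 920556)))) (.node (.node (.node (.leaf 65580) (.leaf 590636)) (.node (.leaf 327980) (.leaf 854572))) (.node (.node (.leaf 197036) (.leaf 723628)) (.node (.leaf 460972) (.leaf 986028)))))) (.node (.node (.node (.node (.node (.leaf 92) (.leaf 525148)) (.node (.leaf 262492) (.leaf 789084))) (.node (.node (.leaf 131548) (.leaf 658140)) (.node (.leaf 395484) (.leaf 920540)))) (.node (.node (.node (.leaf 65564) (.leaf 590620)) (.node (.leaf 327964)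 (.leaf 854556))) (.node (.node (.leaf 197020) (.leaf 723612)) (.node (.leaf 460956) (.leaf 986012))))) (.node (.node (.node (.node (.leaf 124) (.leaf 525180)) (.node (.leaf 262524) (.leaf 789116))) (.node (.node (.leaf 131580) (.leaf 658172)) (.node (.leaf 395516) (.leaf 920572)))) (.node (.node (.node (.leaf 65596) (.leaf 590652)) (.node (.leaf 327996) (.leaf 854588))) (.node (.node (.leaf 197052) (.leaf 723644)) (.node (.leaf 460988) (.leaf 986044)))))))

/-- Part of a collection table. -/
def tblHe_6_13 : Trie := (.node (.node (.node (.node (.node (.node (.leaf 77) (.leaf 525133)) (.node (.leaf 262477) (.leaf 789069))) (.node (.node (.leaf 131533) (.leaf 658125)) (.node (.leaf 395469) (.leaf 920525)))) (.node (.node (.node (.leaf 65549) (.leaf 590605)) (.node (.leaf 327949) (.leaf 854541))) (.node (.node (.leaf 197005) (.leaf 723597)) (.node (.leaf 460941) (.leaf 985997))))) (.node (.node (.node (.node (.leaf 109) (.leaf 525165)) (.node (.leaf 262509) (.leaf 789101))) (.node (.node (.leaf 131565) (.leaf 658157)) (.node (.leaf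 395501) (.leaf 920557)))) (.node (.node (.node (.leaf 65581) (.leaf 590637)) (.node (.leaf 327981) (.leaf 854573))) (.node (.node (.leaf 197037) (.leaf 723629)) (.node (.leaf 460973) (.leaf 986029)))))) (.node (.node (.node (.node (.node (.leaf 93) (.leaf 525149)) (.node (.leaf 262493) (.leaf 789085))) (.node (.node (.leaf 131549) (.leaf 658141)) (.node (.leaf 395485) (.leaf 920541)))) (.node (.node (.node (.leaf 65565) (.leaf 590621)) (.node (.leaf 327965) (.leaf 854557))) (.node (.node (.leaf 197021) (.leaf 723613)) (.node (.leaf 460957) (.leaf 986013))))) (.node (.node (.node (.node (.leaf 125) (.leaf 525181)) (.node (.leaf 262525) (.leaf 789117))) (.node (.node (.leaf 131581) (.leaf 658173)) (.node (.leaf 395517) (.leaf 920573)))) (.node (.node (.node (.leaf 65597) (.leaf 590653)) (.node (.leaf 327997) (.leaf 854589))) (.node (.node (.leaf 197053) (.leaf 723645)) (.node (.leaf 460989) (.leaf 986045)))))))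

/-- Part of a collection table. -/
def tblHe_6_14 : Trie := (.node (.node (.node (.node (.node (.node (.leaf 78) (.leaf 525134)) (.node (.leaf 262478) (.leaf 789070))) (.node (.node (.leaf 131534) (.leaf 658126)) (.node (.leaf 395470) (.leaf 920526)))) (.node (.node (.node (.leaf 65550) (.leaf 590606)) (.node (.leaf 327950) (.leaf 854542))) (.node (.node (.leaf 197006) (.leaf 723598)) (.node (.leaf 460942) (.leaf 985998))))) (.node (.node (.node (.node (.leaf 110) (.leaf 525166)) (.node (.leaf 262510) (.leaf 789102))) (.node (.node (.leaf 131566) (.leaf 658158)) (.node (.leaf 395502) (.leaf 920558)))) (.node (.node (.node (.leaf 65582) (.leaf 590638)) (.node (.leaf 327982) (.leaf 854574))) (.node (.node (.leaf 197038) (.leaf 723630)) (.node (.leaf 460974) (.leaf 986030)))))) (.node (.node (.node (.node (.node (.leaf 94) (.leaf 525150)) (.node (.leaf 262494) (.leaf 789086))) (.node (.node (.leaf 131550) (.leaf 658142)) (.node (.leaf 395486) (.leaf 920542)))) (.node (.node (.node (.leaf 65566) (.leaf 590622)) (.node (.leaf 327966)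 (.leaf 854558))) (.node (.node (.leaf 197022) (.leaf 723614)) (.node (.leaf 460958) (.leaf 986014))))) (.node (.node (.node (.node (.leaf 126) (.leaf 525182)) (.node (.leaf 262526) (.leaf 789118))) (.node (.node (.leaf 131582) (.leaf 658174)) (.node (.leaf 395518) (.leaf 920574)))) (.node (.node (.node (.leaf 65598) (.leaf 590654)) (.node (.leaf 327998) (.leaf 854590))) (.node (.node (.leaf 197054) (.leaf 723646)) (.node (.leaf 460990) (.leaf 986046)))))))

/-- Part of a collection table. -/
def tblHe_6_15 : Trie := (.node (.node (.node (.node (.node (.node (.leaf 79) (.leaf 525135)) (.node (.leaf 262479) (.leaf 789071))) (.node (.node (.leaf 131535) (.leaf 658127)) (.node (.leaf 395471) (.leaf 920527)))) (.node (.node (.node (.leaf 65551) (.leaf 590607)) (.node (.leaf 327951) (.leaf 854543))) (.node (.node (.leaf 197007) (.leaf 723599)) (.node (.leaf 460943) (.leaf 985999))))) (.node (.node (.node (.node (.leaf 111) (.leaf 525167)) (.node (.leaf 262511) (.leaf 789103))) (.node (.node (.leaf 131567) (.leaf 658159)) (.node (.leaf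 395503) (.leaf 920559)))) (.node (.node (.node (.leaf 65583) (.leaf 590639)) (.node (.leaf 327983) (.leaf 854575))) (.node (.node (.leaf 197039) (.leaf 723631)) (.node (.leaf 460975) (.leaf 986031)))))) (.node (.node (.node (.node (.node (.leaf 95) (.leaf 525151)) (.node (.leaf 262495) (.leaf 789087))) (.node (.node (.leaf 131551) (.leaf 658143)) (.node (.leaf 395487) (.leaf 920543)))) (.node (.node (.node (.leaf 65567) (.leaf 590623)) (.node (.leaf 327967) (.leaf 854559))) (.node (.node (.leaf 197023) (.leaf 723615)) (.node (.leaf 460959) (.leaf 986015))))) (.node (.node (.node (.node (.leaf 127) (.leaf 525183)) (.node (.leaf 262527) (.leaf 789119))) (.node (.node (.leaf 131583) (.leaf 658175)) (.node (.leaf 395519) (.leaf 920575)))) (.node (.node (.node (.leaf 65599) (.leaf 590655)) (.node (.leaf 327999) (.leaf 854591))) (.node (.node (.leaf 197055) (.leaf 723647)) (.node (.leaf 460991) (.leaf 986047)))))))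

/-- Part of a collection table. -/
def tblHe_7_0 : Trie := (.node (.node (.node (.node (.node (.node (.leaf 128) (.leaf 33664)) (.node (.leaf 16768) (.leaf 51840))) (.node (.node (.leaf 8448) (.leaf 43520)) (.node (.leaf 26624) (.leaf 60160)))) (.node (.node (.node (.leaf 192) (.leaf 33728)) (.node (.leaf 16832) (.leaf 51904))) (.node (.node (.leaf 8512) (.leaf 43584)) (.node (.leaf 26688) (.leaf 60224))))) (.node (.node (.node (.node (.leaf 160) (.leaf 33696)) (.node (.leaf 16800) (.leaf 51872))) (.node (.node (.leaf 8480) (.leaf 43552)) (.node (.leaf 26656) (.leaf 60192)))) (.node (.node (.node (.leaf 224) (.leaf 33760)) (.node (.leaf 16864) (.leaf 51936))) (.node (.node (.leaf 8544) (.leaf 43616)) (.node (.leaf 26720) (.leaf 60256)))))) (.node (.node (.node (.node (.node (.leaf 144) (.leaf 33680)) (.node (.leaf 16784) (.leaf 51856))) (.node (.node (.leaf 8464) (.leaf 43536)) (.node (.leaf 26640) (.leaf 60176)))) (.node (.node (.node (.leaf 208) (.leaf 33744)) (.node (.leaf 16848) (.leaf 51920))) (.node (.node (.leaf 8528)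 (.leaf 43600)) (.node (.leaf 26704) (.leaf 60240))))) (.node (.node (.node (.node (.leaf 176) (.leaf 33712)) (.node (.leaf 16816) (.leaf 51888))) (.node (.node (.leaf 8496) (.leaf 43568)) (.node (.leaf 26672) (.leaf 60208)))) (.node (.node (.node (.leaf 240) (.leaf 33776)) (.node (.leaf 16880) (.leaf 51952))) (.node (.node (.leaf 8560) (.leaf 43632)) (.node (.leaf 26736) (.leaf 60272)))))))

/-- Part of a collection table. -/
def tblHe_7_1 : Trie := (.node (.node (.node (.node (.node (.node (.leaf 129) (.leaf 33665)) (.node (.leaf 16769) (.leaf 51841))) (.node (.node (.leaf 8449) (.leaf 43521)) (.node (.leaf 26625) (.leaf 60161)))) (.node (.node (.node (.leaf 193) (.leaf 33729)) (.node (.leaf 16833) (.leaf 51905))) (.node (.node (.leaf 8513) (.leaf 43585)) (.node (.leaf 26689) (.leaf 60225))))) (.node (.node (.node (.node (.leaf 161) (.leaf 33697)) (.node (.leaf 16801) (.leaf 51873))) (.node (.node (.leaf 8481) (.leaf 43553)) (.node (.leaf 26657) (.leaf 60193)))) (.node (.node (.node (.leaf 225) (.leaf 33761)) (.node (.leaf 16865)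 (.leaf 51937))) (.node (.node (.leaf 8545) (.leaf 43617)) (.node (.leaf 26721) (.leaf 60257)))))) (.node (.node (.node (.node (.node (.leaf 145) (.leaf 33681)) (.node (.leaf 16785) (.leaf 51857))) (.node (.node (.leaf 8465) (.leaf 43537)) (.node (.leaf 26641) (.leaf 60177)))) (.node (.node (.node (.leaf 209) (.leaf 33745)) (.node (.leaf 16849) (.leaf 51921))) (.node (.node (.leaf 8529) (.leaf 43601)) (.node (.leaf 26705) (.leaf 60241))))) (.node (.node (.node (.node (.leaf 177) (.leaf 33713)) (.node (.leaf 16817) (.leaf 51889))) (.node (.node (.leaf 8497) (.leaf 43569)) (.node (.leaf 26673) (.leaf 60209)))) (.node (.node (.node (.leaf 241) (.leaf 33777)) (.node (.leaf 16881) (.leaf 51953))) (.node (.node (.leaf 8561) (.leaf 43633)) (.node (.leaf 26737) (.leaf 60273)))))))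

/-- Part of a collection table. -/
def tblHe_7_2 : Trie := (.node (.node (.node (.node (.node (.node (.leaf 130) (.leaf 33666)) (.node (.leaf 16770) (.leaf 51842))) (.node (.node (.leaf 8450) (.leaf 43522)) (.node (.leaf 26626) (.leaf 60162)))) (.node (.node (.node (.leaf 194) (.leaf 33730)) (.node (.leaf 16834) (.leaf 51906))) (.node (.node (.leaf 8514) (.leaf 43586)) (.node (.leaf 26690) (.leaf 60226))))) (.node (.node (.node (.node (.leaf 162) (.leaf 33698)) (.node (.leaf 16802) (.leaf 51874))) (.node (.node (.leaf 8482) (.leaf 43554)) (.node (.leaf 26658) (.leaf 60194)))) (.node (.node (.node (.leaf 226) (.leaf 33762)) (.node (.leaf 16866) (.leaf 51938))) (.node (.node (.leaf 8546) (.leaf 43618)) (.node (.leaf 26722) (.leaf 60258)))))) (.node (.node (.node (.node (.node (.leaf 146) (.leaf 33682)) (.node (.leaf 16786) (.leaf 51858))) (.node (.node (.leaf 8466) (.leaf 43538)) (.node (.leaf 26642) (.leaf 60178)))) (.node (.node (.node (.leaf 210) (.leaf 33746)) (.node (.leaf 16850) (.leaf 51922))) (.node (.node (.leaf 8530)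 (.leaf 43602)) (.node (.leaf 26706) (.leaf 60242))))) (.node (.node (.node (.node (.leaf 178) (.leaf 33714)) (.node (.leaf 16818) (.leaf 51890))) (.node (.node (.leaf 8498) (.leaf 43570)) (.node (.leaf 26674) (.leaf 60210)))) (.node (.node (.node (.leaf 242) (.leaf 33778)) (.node (.leaf 16882) (.leaf 51954))) (.node (.node (.leaf 8562) (.leaf 43634)) (.node (.leaf 26738) (.leaf 60274)))))))

/-- Part of a collection table. -/
def tblHe_7_3 : Trie := (.node (.node (.node (.node (.node (.node (.leaf 131) (.leaf 33667)) (.node (.leaf 16771) (.leaf 51843))) (.node (.node (.leaf 8451) (.leaf 43523)) (.node (.leaf 26627) (.leaf 60163)))) (.node (.node (.node (.leaf 195) (.leaf 33731)) (.node (.leaf 16835) (.leaf 51907))) (.node (.node (.leaf 8515) (.leaf 43587)) (.node (.leaf 26691) (.leaf 60227))))) (.node (.node (.node (.node (.leaf 163) (.leaf 33699)) (.node (.leaf 16803) (.leaf 51875))) (.node (.node (.leaf 8483) (.leaf 43555)) (.node (.leaf 26659) (.leaf 60195)))) (.node (.node (.node (.leaf 227) (.leaf 33763)) (.node (.leaf 16867)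 (.leaf 51939))) (.node (.node (.leaf 8547) (.leaf 43619)) (.node (.leaf 26723) (.leaf 60259)))))) (.node (.node (.node (.node (.node (.leaf 147) (.leaf 33683)) (.node (.leaf 16787) (.leaf 51859))) (.node (.node (.leaf 8467) (.leaf 43539)) (.node (.leaf 26643) (.leaf 60179)))) (.node (.node (.node (.leaf 211) (.leaf 33747)) (.node (.leaf 16851) (.leaf 51923))) (.node (.node (.leaf 8531) (.leaf 43603)) (.node (.leaf 26707) (.leaf 60243))))) (.node (.node (.node (.node (.leaf 179) (.leaf 33715)) (.node (.leaf 16819) (.leaf 51891))) (.node (.node (.leaf 8499) (.leaf 43571)) (.node (.leaf 26675) (.leaf 60211)))) (.node (.node (.node (.leaf 243) (.leaf 33779)) (.node (.leaf 16883) (.leaf 51955))) (.node (.node (.leaf 8563) (.leaf 43635)) (.node (.leaf 26739) (.leaf 60275)))))))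

/-- Part of a collection table. -/
def tblHe_7_4 : Trie := (.node (.node (.node (.node (.node (.node (.leaf 132) (.leaf 33668)) (.node (.leaf 16772) (.leaf 51844))) (.node (.node (.leaf 8452) (.leaf 43524)) (.node (.leaf 26628) (.leaf 60164)))) (.node (.node (.node (.leaf 196) (.leaf 33732)) (.node (.leaf 16836) (.leaf 51908))) (.node (.node (.leaf 8516) (.leaf 43588)) (.node (.leaf 26692) (.leaf 60228))))) (.node (.node (.node (.node (.leaf 164) (.leaf 33700)) (.node (.leaf 16804) (.leaf 51876))) (.node (.node (.leaf 8484) (.leaf 43556)) (.node (.leaf 26660) (.leaf 60196)))) (.node (.node (.node (.leaf 228) (.leaf 33764)) (.node (.leaf 16868) (.leaf 51940))) (.node (.node (.leaf 8548) (.leaf 43620)) (.node (.leaf 26724) (.leaf 60260)))))) (.node (.node (.node (.node (.node (.leaf 148) (.leaf 33684)) (.node (.leaf 16788) (.leaf 51860))) (.node (.node (.leaf 8468) (.leaf 43540)) (.node (.leaf 26644) (.leaf 60180)))) (.node (.node (.node (.leaf 212) (.leaf 33748)) (.node (.leaf 16852) (.leaf 51924))) (.node (.node (.leaf 8532)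 (.leaf 43604)) (.node (.leaf 26708) (.leaf 60244))))) (.node (.node (.node (.node (.leaf 180) (.leaf 33716)) (.node (.leaf 16820) (.leaf 51892))) (.node (.node (.leaf 8500) (.leaf 43572)) (.node (.leaf 26676) (.leaf 60212)))) (.node (.node (.node (.leaf 244) (.leaf 33780)) (.node (.leaf 16884) (.leaf 51956))) (.node (.node (.leaf 8564) (.leaf 43636)) (.node (.leaf 26740) (.leaf 60276)))))))

/-- Part of a collection table. -/
def tblHe_7_5 : Trie := (.node (.node (.node (.node (.node (.node (.leaf 133) (.leaf 33669)) (.node (.leaf 16773) (.leaf 51845))) (.node (.node (.leaf 8453) (.leaf 43525)) (.node (.leaf 26629) (.leaf 60165)))) (.node (.node (.node (.leaf 197) (.leaf 33733)) (.node (.leaf 16837) (.leaf 51909))) (.node (.node (.leaf 8517) (.leaf 43589)) (.node (.leaf 26693) (.leaf 60229))))) (.node (.node (.node (.node (.leaf 165) (.leaf 33701)) (.node (.leaf 16805) (.leaf 51877))) (.node (.node (.leaf 8485) (.leaf 43557)) (.node (.leaf 26661) (.leaf 60197)))) (.node (.node (.node (.leaf 229) (.leaf 33765)) (.node (.leaf 16869)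 (.leaf 51941))) (.node (.node (.leaf 8549) (.leaf 43621)) (.node (.leaf 26725) (.leaf 60261)))))) (.node (.node (.node (.node (.node (.leaf 149) (.leaf 33685)) (.node (.leaf 16789) (.leaf 51861))) (.node (.node (.leaf 8469) (.leaf 43541)) (.node (.leaf 26645) (.leaf 60181)))) (.node (.node (.node (.leaf 213) (.leaf 33749)) (.node (.leaf 16853) (.leaf 51925))) (.node (.node (.leaf 8533) (.leaf 43605)) (.node (.leaf 26709) (.leaf 60245))))) (.node (.node (.node (.node (.leaf 181) (.leaf 33717)) (.node (.leaf 16821) (.leaf 51893))) (.node (.node (.leaf 8501) (.leaf 43573)) (.node (.leaf 26677) (.leaf 60213)))) (.node (.node (.node (.leaf 245) (.leaf 33781)) (.node (.leaf 16885) (.leaf 51957))) (.node (.node (.leaf 8565) (.leaf 43637)) (.node (.leaf 26741) (.leaf 60277)))))))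

/-- Part of a collection table. -/
def tblHe_7_6 : Trie := (.node (.node (.node (.node (.node (.node (.leaf 134) (.leaf 33670)) (.node (.leaf 16774) (.leaf 51846))) (.node (.node (.leaf 8454) (.leaf 43526)) (.node (.leaf 26630) (.leaf 60166)))) (.node (.node (.node (.leaf 198) (.leaf 33734)) (.node (.leaf 16838) (.leaf 51910))) (.node (.node (.leaf 8518) (.leaf 43590)) (.node (.leaf 26694) (.leaf 60230))))) (.node (.node (.node (.node (.leaf 166) (.leaf 33702)) (.node (.leaf 16806) (.leaf 51878))) (.node (.node (.leaf 8486) (.leaf 43558)) (.node (.leaf 26662) (.leaf 60198)))) (.node (.node (.node (.leaf 230) (.leaf 33766)) (.node (.leaf 16870) (.leaf 51942))) (.node (.node (.leaf 8550) (.leaf 43622)) (.node (.leaf 26726) (.leaf 60262)))))) (.node (.node (.node (.node (.node (.leaf 150) (.leaf 33686)) (.node (.leaf 16790) (.leaf 51862))) (.node (.node (.leaf 8470) (.leaf 43542)) (.node (.leaf 26646) (.leaf 60182)))) (.node (.node (.node (.leaf 214) (.leaf 33750)) (.node (.leaf 16854) (.leaf 51926))) (.node (.node (.leaf 8534)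 (.leaf 43606)) (.node (.leaf 26710) (.leaf 60246))))) (.node (.node (.node (.node (.leaf 182) (.leaf 33718)) (.node (.leaf 16822) (.leaf 51894))) (.node (.node (.leaf 8502) (.leaf 43574)) (.node (.leaf 26678) (.leaf 60214)))) (.node (.node (.node (.leaf 246) (.leaf 33782)) (.node (.leaf 16886) (.leaf 51958))) (.node (.node (.leaf 8566) (.leaf 43638)) (.node (.leaf 26742) (.leaf 60278)))))))

/-- Part of a collection table. -/
def tblHe_7_7 : Trie := (.node (.node (.node (.node (.node (.node (.leaf 135) (.leaf 33671)) (.node (.leaf 16775) (.leaf 51847))) (.node (.node (.leaf 8455) (.leaf 43527)) (.node (.leaf 26631) (.leaf 60167)))) (.node (.node (.node (.leaf 199) (.leaf 33735)) (.node (.leaf 16839) (.leaf 51911))) (.node (.node (.leaf 8519) (.leaf 43591)) (.node (.leaf 26695) (.leaf 60231))))) (.node (.node (.node (.node (.leaf 167) (.leaf 33703)) (.node (.leaf 16807) (.leaf 51879))) (.node (.node (.leaf 8487) (.leaf 43559)) (.node (.leaf 26663) (.leaf 60199)))) (.node (.node (.node (.leaf 231) (.leaf 33767)) (.node (.leaf 16871)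 (.leaf 51943))) (.node (.node (.leaf 8551) (.leaf 43623)) (.node (.leaf 26727) (.leaf 60263)))))) (.node (.node (.node (.node (.node (.leaf 151) (.leaf 33687)) (.node (.leaf 16791) (.leaf 51863))) (.node (.node (.leaf 8471) (.leaf 43543)) (.node (.leaf 26647) (.leaf 60183)))) (.node (.node (.node (.leaf 215) (.leaf 33751)) (.node (.leaf 16855) (.leaf 51927))) (.node (.node (.leaf 8535) (.leaf 43607)) (.node (.leaf 26711) (.leaf 60247))))) (.node (.node (.node (.node (.leaf 183) (.leaf 33719)) (.node (.leaf 16823) (.leaf 51895))) (.node (.node (.leaf 8503) (.leaf 43575)) (.node (.leaf 26679) (.leaf 60215)))) (.node (.node (.node (.leaf 247) (.leaf 33783)) (.node (.leaf 16887) (.leaf 51959))) (.node (.node (.leaf 8567) (.leaf 43639)) (.node (.leaf 26743) (.leaf 60279)))))))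

/-- Part of a collection table. -/
def tblHe_7_8 : Trie := (.node (.node (.node (.node (.node (.node (.leaf 136) (.leaf 33672)) (.node (.leaf 16776) (.leaf 51848))) (.node (.node (.leaf 8456) (.leaf 43528)) (.node (.leaf 26632) (.leaf 60168)))) (.node (.node (.node (.leaf 200) (.leaf 33736)) (.node (.leaf 16840) (.leaf 51912))) (.node (.node (.leaf 8520) (.leaf 43592)) (.node (.leaf 26696) (.leaf 60232))))) (.node (.node (.node (.node (.leaf 168) (.leaf 33704)) (.node (.leaf 16808) (.leaf 51880))) (.node (.node (.leaf 8488) (.leaf 43560)) (.node (.leaf 26664) (.leaf 60200)))) (.node (.node (.node (.leaf 232) (.leaf 33768)) (.node (.leaf 16872) (.leaf 51944))) (.node (.node (.leaf 8552) (.leaf 43624)) (.node (.leaf 26728) (.leaf 60264)))))) (.node (.node (.node (.node (.node (.leaf 152) (.leaf 33688)) (.node (.leaf 16792) (.leaf 51864))) (.node (.node (.leaf 8472) (.leaf 43544)) (.node (.leaf 26648) (.leaf 60184)))) (.node (.node (.node (.leaf 216) (.leaf 33752)) (.node (.leaf 16856) (.leaf 51928))) (.node (.node (.leaf 8536)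 (.leaf 43608)) (.node (.leaf 26712) (.leaf 60248))))) (.node (.node (.node (.node (.leaf 184) (.leaf 33720)) (.node (.leaf 16824) (.leaf 51896))) (.node (.node (.leaf 8504) (.leaf 43576)) (.node (.leaf 26680) (.leaf 60216)))) (.node (.node (.node (.leaf 248) (.leaf 33784)) (.node (.leaf 16888) (.leaf 51960))) (.node (.node (.leaf 8568) (.leaf 43640)) (.node (.leaf 26744) (.leaf 60280)))))))

/-- Part of a collection table. -/
def tblHe_7_9 : Trie := (.node (.node (.node (.node (.node (.node (.leaf 137) (.leaf 33673)) (.node (.leaf 16777) (.leaf 51849))) (.node (.node (.leaf 8457) (.leaf 43529)) (.node (.leaf 26633) (.leaf 60169)))) (.node (.node (.node (.leaf 201) (.leaf 33737)) (.node (.leaf 16841) (.leaf 51913))) (.node (.node (.leaf 8521) (.leaf 43593)) (.node (.leaf 26697) (.leaf 60233))))) (.node (.node (.node (.node (.leaf 169) (.leaf 33705)) (.node (.leaf 16809) (.leaf 51881))) (.node (.node (.leaf 8489) (.leaf 43561)) (.node (.leaf 26665) (.leaf 60201)))) (.node (.node (.node (.leaf 233) (.leaf 33769)) (.node (.leaf 16873)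 (.leaf 51945))) (.node (.node (.leaf 8553) (.leaf 43625)) (.node (.leaf 26729) (.leaf 60265)))))) (.node (.node (.node (.node (.node (.leaf 153) (.leaf 33689)) (.node (.leaf 16793) (.leaf 51865))) (.node (.node (.leaf 8473) (.leaf 43545)) (.node (.leaf 26649) (.leaf 60185)))) (.node (.node (.node (.leaf 217) (.leaf 33753)) (.node (.leaf 16857) (.leaf 51929))) (.node (.node (.leaf 8537) (.leaf 43609)) (.node (.leaf 26713) (.leaf 60249))))) (.node (.node (.node (.node (.leaf 185) (.leaf 33721)) (.node (.leaf 16825) (.leaf 51897))) (.node (.node (.leaf 8505) (.leaf 43577)) (.node (.leaf 26681) (.leaf 60217)))) (.node (.node (.node (.leaf 249) (.leaf 33785)) (.node (.leaf 16889) (.leaf 51961))) (.node (.node (.leaf 8569) (.leaf 43641)) (.node (.leaf 26745) (.leaf 60281)))))))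

/-- Part of a collection table. -/
def tblHe_7_10 : Trie := (.node (.node (.node (.node (.node (.node (.leaf 138) (.leaf 33674)) (.node (.leaf 16778) (.leaf 51850))) (.node (.node (.leaf 8458) (.leaf 43530)) (.node (.leaf 26634) (.leaf 60170)))) (.node (.node (.node (.leaf 202) (.leaf 33738)) (.node (.leaf 16842) (.leaf 51914))) (.node (.node (.leaf 8522) (.leaf 43594)) (.node (.leaf 26698) (.leaf 60234))))) (.node (.node (.node (.node (.leaf 170) (.leaf 33706)) (.node (.leaf 16810) (.leaf 51882))) (.node (.node (.leaf 8490) (.leaf 43562)) (.node (.leaf 26666) (.leaf 60202)))) (.node (.node (.node (.leaf 234) (.leaf 33770)) (.node (.leaf 16874) (.leaf 51946))) (.node (.node (.leaf 8554) (.leaf 43626)) (.node (.leaf 26730) (.leaf 60266)))))) (.node (.node (.node (.node (.node (.leaf 154) (.leaf 33690)) (.node (.leaf 16794) (.leaf 51866))) (.node (.node (.leaf 8474) (.leaf 43546)) (.node (.leaf 26650) (.leaf 60186)))) (.node (.node (.node (.leaf 218) (.leaf 33754)) (.node (.leaf 16858) (.leaf 51930))) (.node (.node (.leaf 8538)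 (.leaf 43610)) (.node (.leaf 26714) (.leaf 60250))))) (.node (.node (.node (.node (.leaf 186) (.leaf 33722)) (.node (.leaf 16826) (.leaf 51898))) (.node (.node (.leaf 8506) (.leaf 43578)) (.node (.leaf 26682) (.leaf 60218)))) (.node (.node (.node (.leaf 250) (.leaf 33786)) (.node (.leaf 16890) (.leaf 51962))) (.node (.node (.leaf 8570) (.leaf 43642)) (.node (.leaf 26746) (.leaf 60282)))))))

/-- Part of a collection table. -/
def tblHe_7_11 : Trie := (.node (.node (.node (.node (.node (.node (.leaf 139) (.leaf 33675)) (.node (.leaf 16779) (.leaf 51851))) (.node (.node (.leaf 8459) (.leaf 43531)) (.node (.leaf 26635) (.leaf 60171)))) (.node (.node (.node (.leaf 203) (.leaf 33739)) (.node (.leaf 16843) (.leaf 51915))) (.node (.node (.leaf 8523) (.leaf 43595)) (.node (.leaf 26699) (.leaf 60235))))) (.node (.node (.node (.node (.leaf 171) (.leaf 33707)) (.node (.leaf 16811) (.leaf 51883))) (.node (.node (.leaf 8491) (.leaf 43563)) (.node (.leaf 26667) (.leaf 60203)))) (.node (.node (.node (.leaf 235) (.leaf 33771)) (.node (.leaf 16875)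 (.leaf 51947))) (.node (.node (.leaf 8555) (.leaf 43627)) (.node (.leaf 26731) (.leaf 60267)))))) (.node (.node (.node (.node (.node (.leaf 155) (.leaf 33691)) (.node (.leaf 16795) (.leaf 51867))) (.node (.node (.leaf 8475) (.leaf 43547)) (.node (.leaf 26651) (.leaf 60187)))) (.node (.node (.node (.leaf 219) (.leaf 33755)) (.node (.leaf 16859) (.leaf 51931))) (.node (.node (.leaf 8539) (.leaf 43611)) (.node (.leaf 26715) (.leaf 60251))))) (.node (.node (.node (.node (.leaf 187) (.leaf 33723)) (.node (.leaf 16827) (.leaf 51899))) (.node (.node (.leaf 8507) (.leaf 43579)) (.node (.leaf 26683) (.leaf 60219)))) (.node (.node (.node (.leaf 251) (.leaf 33787)) (.node (.leaf 16891) (.leaf 51963))) (.node (.node (.leaf 8571) (.leaf 43643)) (.node (.leaf 26747) (.leaf 60283)))))))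

/-- Part of a collection table. -/
def tblHe_7_12 : Trie := (.node (.node (.node (.node (.node (.node (.leaf 140) (.leaf 33676)) (.node (.leaf 16780) (.leaf 51852))) (.node (.node (.leaf 8460) (.leaf 43532)) (.node (.leaf 26636) (.leaf 60172)))) (.node (.node (.node (.leaf 204) (.leaf 33740)) (.node (.leaf 16844) (.leaf 51916))) (.node (.node (.leaf 8524) (.leaf 43596)) (.node (.leaf 26700) (.leaf 60236))))) (.node (.node (.node (.node (.leaf 172) (.leaf 33708)) (.node (.leaf 16812) (.leaf 51884))) (.node (.node (.leaf 8492) (.leaf 43564)) (.node (.leaf 26668) (.leaf 60204)))) (.node (.node (.node (.leaf 236) (.leaf 33772)) (.node (.leaf 16876) (.leaf 51948))) (.node (.node (.leaf 8556) (.leaf 43628)) (.node (.leaf 26732) (.leaf 60268)))))) (.node (.node (.node (.node (.node (.leaf 156) (.leaf 33692)) (.node (.leaf 16796) (.leaf 51868))) (.node (.node (.leaf 8476) (.leaf 43548)) (.node (.leaf 26652) (.leaf 60188)))) (.node (.node (.node (.leaf 220) (.leaf 33756)) (.node (.leaf 16860) (.leaf 51932))) (.node (.node (.leaf 8540)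 (.leaf 43612)) (.node (.leaf 26716) (.leaf 60252))))) (.node (.node (.node (.node (.leaf 188) (.leaf 33724)) (.node (.leaf 16828) (.leaf 51900))) (.node (.node (.leaf 8508) (.leaf 43580)) (.node (.leaf 26684) (.leaf 60220)))) (.node (.node (.node (.leaf 252) (.leaf 33788)) (.node (.leaf 16892) (.leaf 51964))) (.node (.node (.leaf 8572) (.leaf 43644)) (.node (.leaf 26748) (.leaf 60284)))))))

/-- Part of a collection table. -/
def tblHe_7_13 : Trie := (.node (.node (.node (.node (.node (.node (.leaf 141) (.leaf 33677)) (.node (.leaf 16781) (.leaf 51853))) (.node (.node (.leaf 8461) (.leaf 43533)) (.node (.leaf 26637) (.leaf 60173)))) (.node (.node (.node (.leaf 205) (.leaf 33741)) (.node (.leaf 16845) (.leaf 51917))) (.node (.node (.leaf 8525) (.leaf 43597)) (.node (.leaf 26701) (.leaf 60237))))) (.node (.node (.node (.node (.leaf 173) (.leaf 33709)) (.node (.leaf 16813) (.leaf 51885))) (.node (.node (.leaf 8493) (.leaf 43565)) (.node (.leaf 26669) (.leaf 60205)))) (.node (.node (.node (.leaf 237) (.leaf 33773)) (.node (.leaf 16877)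 (.leaf 51949))) (.node (.node (.leaf 8557) (.leaf 43629)) (.node (.leaf 26733) (.leaf 60269)))))) (.node (.node (.node (.node (.node (.leaf 157) (.leaf 33693)) (.node (.leaf 16797) (.leaf 51869))) (.node (.node (.leaf 8477) (.leaf 43549)) (.node (.leaf 26653) (.leaf 60189)))) (.node (.node (.node (.leaf 221) (.leaf 33757)) (.node (.leaf 16861) (.leaf 51933))) (.node (.node (.leaf 8541) (.leaf 43613)) (.node (.leaf 26717) (.leaf 60253))))) (.node (.node (.node (.node (.leaf 189) (.leaf 33725)) (.node (.leaf 16829) (.leaf 51901))) (.node (.node (.leaf 8509) (.leaf 43581)) (.node (.leaf 26685) (.leaf 60221)))) (.node (.node (.node (.leaf 253) (.leaf 33789)) (.node (.leaf 16893) (.leaf 51965))) (.node (.node (.leaf 8573) (.leaf 43645)) (.node (.leaf 26749) (.leaf 60285)))))))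

/-- Part of a collection table. -/
def tblHe_7_14 : Trie := (.node (.node (.node (.node (.node (.node (.leaf 142) (.leaf 33678)) (.node (.leaf 16782) (.leaf 51854))) (.node (.node (.leaf 8462) (.leaf 43534)) (.node (.leaf 26638) (.leaf 60174)))) (.node (.node (.node (.leaf 206) (.leaf 33742)) (.node (.leaf 16846) (.leaf 51918))) (.node (.node (.leaf 8526) (.leaf 43598)) (.node (.leaf 26702) (.leaf 60238))))) (.node (.node (.node (.node (.leaf 174) (.leaf 33710)) (.node (.leaf 16814) (.leaf 51886))) (.node (.node (.leaf 8494) (.leaf 43566)) (.node (.leaf 26670) (.leaf 60206)))) (.node (.node (.node (.leaf 238) (.leaf 33774)) (.node (.leaf 16878) (.leaf 51950))) (.node (.node (.leaf 8558) (.leaf 43630)) (.node (.leaf 26734) (.leaf 60270)))))) (.node (.node (.node (.node (.node (.leaf 158) (.leaf 33694)) (.node (.leaf 16798) (.leaf 51870))) (.node (.node (.leaf 8478) (.leaf 43550)) (.node (.leaf 26654) (.leaf 60190)))) (.node (.node (.node (.leaf 222) (.leaf 33758)) (.node (.leaf 16862) (.leaf 51934))) (.node (.node (.leaf 8542)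 (.leaf 43614)) (.node (.leaf 26718) (.leaf 60254))))) (.node (.node (.node (.node (.leaf 190) (.leaf 33726)) (.node (.leaf 16830) (.leaf 51902))) (.node (.node (.leaf 8510) (.leaf 43582)) (.node (.leaf 26686) (.leaf 60222)))) (.node (.node (.node (.leaf 254) (.leaf 33790)) (.node (.leaf 16894) (.leaf 51966))) (.node (.node (.leaf 8574) (.leaf 43646)) (.node (.leaf 26750) (.leaf 60286)))))))

/-- Part of a collection table. -/
def tblHe_7_15 : Trie := (.node (.node (.node (.node (.node (.node (.leaf 143) (.leaf 33679)) (.node (.leaf 16783) (.leaf 51855))) (.node (.node (.leaf 8463) (.leaf 43535)) (.node (.leaf 26639) (.leaf 60175)))) (.node (.node (.node (.leaf 207) (.leaf 33743)) (.node (.leaf 16847) (.leaf 51919))) (.node (.node (.leaf 8527) (.leaf 43599)) (.node (.leaf 26703) (.leaf 60239))))) (.node (.node (.node (.node (.leaf 175) (.leaf 33711)) (.node (.leaf 16815) (.leaf 51887))) (.node (.node (.leaf 8495) (.leaf 43567)) (.node (.leaf 26671) (.leaf 60207)))) (.node (.node (.node (.leaf 239) (.leaf 33775)) (.node (.leaf 16879)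 (.leaf 51951))) (.node (.node (.leaf 8559) (.leaf 43631)) (.node (.leaf 26735) (.leaf 60271)))))) (.node (.node (.node (.node (.node (.leaf 159) (.leaf 33695)) (.node (.leaf 16799) (.leaf 51871))) (.node (.node (.leaf 8479) (.leaf 43551)) (.node (.leaf 26655) (.leaf 60191)))) (.node (.node (.node (.leaf 223) (.leaf 33759)) (.node (.leaf 16863) (.leaf 51935))) (.node (.node (.leaf 8543) (.leaf 43615)) (.node (.leaf 26719) (.leaf 60255))))) (.node (.node (.node (.node (.leaf 191) (.leaf 33727)) (.node (.leaf 16831) (.leaf 51903))) (.node (.node (.leaf 8511) (.leaf 43583)) (.node (.leaf 26687) (.leaf 60223)))) (.node (.node (.node (.leaf 255) (.leaf 33791)) (.node (.leaf 16895) (.leaf 51967))) (.node (.node (.leaf 8575) (.leaf 43647)) (.node (.leaf 26751) (.leaf 60287)))))))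

/-- Part of a collection table. -/
def tblHe_8_0 : Trie := (.node (.node (.node (.node (.node (.node (.leaf 256) (.leaf 4864)) (.node (.leaf 2048) (.leaf 6656))) (.node (.node (.leaf 384) (.leaf 4992)) (.node (.leaf 2176) (.leaf 6784)))) (.node (.node (.node (.leaf 320) (.leaf 4928)) (.node (.leaf 2112) (.leaf 6720))) (.node (.node (.leaf 448) (.leaf 5056)) (.node (.leaf 2240) (.leaf 6848))))) (.node (.node (.node (.node (.leaf 288) (.leaf 4896)) (.node (.leaf 2080) (.leaf 6688))) (.node (.node (.leaf 416) (.leaf 5024)) (.node (.leaf 2208) (.leaf 6816)))) (.node (.node (.node (.leaf 352) (.leaf 4960)) (.node (.leaf 2144) (.leaf 6752))) (.node (.node (.leaf 480) (.leaf 5088)) (.node (.leaf 2272) (.leaf 6880)))))) (.node (.node (.node (.node (.node (.leaf 272) (.leaf 4880)) (.node (.leaf 2064) (.leaf 6672))) (.node (.node (.leaf 400) (.leaf 5008)) (.node (.leaf 2192) (.leaf 6800)))) (.node (.node (.node (.leaf 336) (.leaf 4944)) (.node (.leaf 2128) (.leaf 6736))) (.node (.node (.leaf 464) (.leaf 5072)) (.node (.leaf 2256) (.leaf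 6864))))) (.node (.node (.node (.node (.leaf 304) (.leaf 4912)) (.node (.leaf 2096) (.leaf 6704))) (.node (.node (.leaf 432) (.leaf 5040)) (.node (.leaf 2224) (.leaf 6832)))) (.node (.node (.node (.leaf 368) (.leaf 4976)) (.node (.leaf 2160) (.leaf 6768))) (.node (.node (.leaf 496) (.leaf 5104)) (.node (.leaf 2288) (.leaf 6896)))))))

/-- Part of a collection table. -/
def tblHe_8_1 : Trie := (.node (.node (.node (.node (.node (.node (.leaf 257) (.leaf 4865)) (.node (.leaf 2049) (.leaf 6657))) (.node (.node (.leaf 385) (.leaf 4993)) (.node (.leaf 2177) (.leaf 6785)))) (.node (.node (.node (.leaf 321) (.leaf 4929)) (.node (.leaf 2113) (.leaf 6721))) (.node (.node (.leaf 449) (.leaf 5057)) (.node (.leaf 2241) (.leaf 6849))))) (.node (.node (.node (.node (.leaf 289) (.leaf 4897)) (.node (.leaf 2081) (.leaf 6689))) (.node (.node (.leaf 417) (.leaf 5025)) (.node (.leaf 2209) (.leaf 6817)))) (.node (.node (.node (.leaf 353) (.leaf 4961)) (.node (.leaf 2145) (.leaf 6753))) (.node (.node (.leaf 481) (.leaf 5089)) (.node (.leaf 2273) (.leaf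 6881)))))) (.node (.node (.node (.node (.node (.leaf 273) (.leaf 4881)) (.node (.leaf 2065) (.leaf 6673))) (.node (.node (.leaf 401) (.leaf 5009)) (.node (.leaf 2193) (.leaf 6801)))) (.node (.node (.node (.leaf 337) (.leaf 4945)) (.node (.leaf 2129) (.leaf 6737))) (.node (.node (.leaf 465) (.leaf 5073)) (.node (.leaf 2257) (.leaf 6865))))) (.node (.node (.node (.node (.leaf 305) (.leaf 4913)) (.node (.leaf 2097) (.leaf 6705))) (.node (.node (.leaf 433) (.leaf 5041)) (.node (.leaf 2225) (.leaf 6833)))) (.node (.node (.node (.leaf 369) (.leaf 4977)) (.node (.leaf 2161) (.leaf 6769))) (.node (.node (.leaf 497) (.leaf 5105)) (.node (.leaf 2289) (.leaf 6897)))))))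

/-- Part of a collection table. -/
def tblHe_8_2 : Trie := (.node (.node (.node (.node (.node (.node (.leaf 258) (.leaf 4866)) (.node (.leaf 2050) (.leaf 6658))) (.node (.node (.leaf 386) (.leaf 4994)) (.node (.leaf 2178) (.leaf 6786)))) (.node (.node (.node (.leaf 322) (.leaf 4930)) (.node (.leaf 2114) (.leaf 6722))) (.node (.node (.leaf 450) (.leaf 5058)) (.node (.leaf 2242) (.leaf 6850))))) (.node (.node (.node (.node (.leaf 290) (.leaf 4898)) (.node (.leaf 2082) (.leaf 6690))) (.node (.node (.leaf 418) (.leaf 5026)) (.node (.leaf 2210) (.leaf 6818)))) (.node (.node (.node (.leaf 354) (.leaf 4962)) (.node (.leaf 2146) (.leaf 6754))) (.node (.node (.leaf 482) (.leaf 5090)) (.node (.leaf 2274) (.leaf 6882)))))) (.node (.node (.node (.node (.node (.leaf 274) (.leaf 4882)) (.node (.leaf 2066) (.leaf 6674))) (.node (.node (.leaf 402) (.leaf 5010)) (.node (.leaf 2194) (.leaf 6802)))) (.node (.node (.node (.leaf 338) (.leaf 4946)) (.node (.leaf 2130) (.leaf 6738))) (.node (.node (.leaf 466) (.leaf 5074)) (.node (.leaf 2258) (.leaf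 6866))))) (.node (.node (.node (.node (.leaf 306) (.leaf 4914)) (.node (.leaf 2098) (.leaf 6706))) (.node (.node (.leaf 434) (.leaf 5042)) (.node (.leaf 2226) (.leaf 6834)))) (.node (.node (.node (.leaf 370) (.leaf 4978)) (.node (.leaf 2162) (.leaf 6770))) (.node (.node (.leaf 498) (.leaf 5106)) (.node (.leaf 2290) (.leaf 6898)))))))

/-- Part of a collection table. -/
def tblHe_8_3 : Trie := (.node (.node (.node (.node (.node (.node (.leaf 259) (.leaf 4867)) (.node (.leaf 2051) (.leaf 6659))) (.node (.node (.leaf 387) (.leaf 4995)) (.node (.leaf 2179) (.leaf 6787)))) (.node (.node (.node (.leaf 323) (.leaf 4931)) (.node (.leaf 2115) (.leaf 6723))) (.node (.node (.leaf 451) (.leaf 5059)) (.node (.leaf 2243) (.leaf 6851))))) (.node (.node (.node (.node (.leaf 291) (.leaf 4899)) (.node (.leaf 2083) (.leaf 6691))) (.node (.node (.leaf 419) (.leaf 5027)) (.node (.leaf 2211) (.leaf 6819)))) (.node (.node (.node (.leaf 355) (.leaf 4963)) (.node (.leaf 2147) (.leaf 6755))) (.node (.node (.leaf 483) (.leaf 5091)) (.node (.leaf 2275) (.leaf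 6883)))))) (.node (.node (.node (.node (.node (.leaf 275) (.leaf 4883)) (.node (.leaf 2067) (.leaf 6675))) (.node (.node (.leaf 403) (.leaf 5011)) (.node (.leaf 2195) (.leaf 6803)))) (.node (.node (.node (.leaf 339) (.leaf 4947)) (.node (.leaf 2131) (.leaf 6739))) (.node (.node (.leaf 467) (.leaf 5075)) (.node (.leaf 2259) (.leaf 6867))))) (.node (.node (.node (.node (.leaf 307) (.leaf 4915)) (.node (.leaf 2099) (.leaf 6707))) (.node (.node (.leaf 435) (.leaf 5043)) (.node (.leaf 2227) (.leaf 6835)))) (.node (.node (.node (.leaf 371) (.leaf 4979)) (.node (.leaf 2163) (.leaf 6771))) (.node (.node (.leaf 499) (.leaf 5107)) (.node (.leaf 2291) (.leaf 6899)))))))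

/-- Part of a collection table. -/
def tblHe_8_4 : Trie := (.node (.node (.node (.node (.node (.node (.leaf 260) (.leaf 4868)) (.node (.leaf 2052) (.leaf 6660))) (.node (.node (.leaf 388) (.leaf 4996)) (.node (.leaf 2180) (.leaf 6788)))) (.node (.node (.node (.leaf 324) (.leaf 4932)) (.node (.leaf 2116) (.leaf 6724))) (.node (.node (.leaf 452) (.leaf 5060)) (.node (.leaf 2244) (.leaf 6852))))) (.node (.node (.node (.node (.leaf 292) (.leaf 4900)) (.node (.leaf 2084) (.leaf 6692))) (.node (.node (.leaf 420) (.leaf 5028)) (.node (.leaf 2212) (.leaf 6820)))) (.node (.node (.node (.leaf 356) (.leaf 4964)) (.node (.leaf 2148) (.leaf 6756))) (.node (.node (.leaf 484) (.leaf 5092)) (.node (.leaf 2276) (.leaf 6884)))))) (.node (.node (.node (.node (.node (.leaf 276) (.leaf 4884)) (.node (.leaf 2068) (.leaf 6676))) (.node (.node (.leaf 404) (.leaf 5012)) (.node (.leaf 2196) (.leaf 6804)))) (.node (.node (.node (.leaf 340) (.leaf 4948)) (.node (.leaf 2132) (.leaf 6740))) (.node (.node (.leaf 468) (.leaf 5076)) (.node (.leaf 2260) (.leaf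 6868))))) (.node (.node (.node (.node (.leaf 308) (.leaf 4916)) (.node (.leaf 2100) (.leaf 6708))) (.node (.node (.leaf 436) (.leaf 5044)) (.node (.leaf 2228) (.leaf 6836)))) (.node (.node (.node (.leaf 372) (.leaf 4980)) (.node (.leaf 2164) (.leaf 6772))) (.node (.node (.leaf 500) (.leaf 5108)) (.node (.leaf 2292) (.leaf 6900)))))))

/-- Part of a collection table. -/
def tblHe_8_5 : Trie := (.node (.node (.node (.node (.node (.node (.leaf 261) (.leaf 4869)) (.node (.leaf 2053) (.leaf 6661))) (.node (.node (.leaf 389) (.leaf 4997)) (.node (.leaf 2181) (.leaf 6789)))) (.node (.node (.node (.leaf 325) (.leaf 4933)) (.node (.leaf 2117) (.leaf 6725))) (.node (.node (.leaf 453) (.leaf 5061)) (.node (.leaf 2245) (.leaf 6853))))) (.node (.node (.node (.node (.leaf 293) (.leaf 4901)) (.node (.leaf 2085) (.leaf 6693))) (.node (.node (.leaf 421) (.leaf 5029)) (.node (.leaf 2213) (.leaf 6821)))) (.node (.node (.node (.leaf 357) (.leaf 4965)) (.node (.leaf 2149) (.leaf 6757))) (.node (.node (.leaf 485) (.leaf 5093)) (.node (.leaf 2277) (.leaf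 6885)))))) (.node (.node (.node (.node (.node (.leaf 277) (.leaf 4885)) (.node (.leaf 2069) (.leaf 6677))) (.node (.node (.leaf 405) (.leaf 5013)) (.node (.leaf 2197) (.leaf 6805)))) (.node (.node (.node (.leaf 341) (.leaf 4949)) (.node (.leaf 2133) (.leaf 6741))) (.node (.node (.leaf 469) (.leaf 5077)) (.node (.leaf 2261) (.leaf 6869))))) (.node (.node (.node (.node (.leaf 309) (.leaf 4917)) (.node (.leaf 2101) (.leaf 6709))) (.node (.node (.leaf 437) (.leaf 5045)) (.node (.leaf 2229) (.leaf 6837)))) (.node (.node (.node (.leaf 373) (.leaf 4981)) (.node (.leaf 2165) (.leaf 6773))) (.node (.node (.leaf 501) (.leaf 5109)) (.node (.leaf 2293) (.leaf 6901)))))))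

/-- Part of a collection table. -/
def tblHe_8_6 : Trie := (.node (.node (.node (.node (.node (.node (.leaf 262) (.leaf 4870)) (.node (.leaf 2054) (.leaf 6662))) (.node (.node (.leaf 390) (.leaf 4998)) (.node (.leaf 2182) (.leaf 6790)))) (.node (.node (.node (.leaf 326) (.leaf 4934)) (.node (.leaf 2118) (.leaf 6726))) (.node (.node (.leaf 454) (.leaf 5062)) (.node (.leaf 2246) (.leaf 6854))))) (.node (.node (.node (.node (.leaf 294) (.leaf 4902)) (.node (.leaf 2086) (.leaf 6694))) (.node (.node (.leaf 422) (.leaf 5030)) (.node (.leaf 2214) (.leaf 6822)))) (.node (.node (.node (.leaf 358) (.leaf 4966)) (.node (.leaf 2150) (.leaf 6758))) (.node (.node (.leaf 486) (.leaf 5094)) (.node (.leaf 2278) (.leaf 6886)))))) (.node (.node (.node (.node (.node (.leaf 278) (.leaf 4886)) (.node (.leaf 2070) (.leaf 6678))) (.node (.node (.leaf 406) (.leaf 5014)) (.node (.leaf 2198) (.leaf 6806)))) (.node (.node (.node (.leaf 342) (.leaf 4950)) (.node (.leaf 2134) (.leaf 6742))) (.node (.node (.leaf 470) (.leaf 5078)) (.node (.leaf 2262) (.leaf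 6870))))) (.node (.node (.node (.node (.leaf 310) (.leaf 4918)) (.node (.leaf 2102) (.leaf 6710))) (.node (.node (.leaf 438) (.leaf 5046)) (.node (.leaf 2230) (.leaf 6838)))) (.node (.node (.node (.leaf 374) (.leaf 4982)) (.node (.leaf 2166) (.leaf 6774))) (.node (.node (.leaf 502) (.leaf 5110)) (.node (.leaf 2294) (.leaf 6902)))))))

/-- Part of a collection table. -/
def tblHe_8_7 : Trie := (.node (.node (.node (.node (.node (.node (.leaf 263) (.leaf 4871)) (.node (.leaf 2055) (.leaf 6663))) (.node (.node (.leaf 391) (.leaf 4999)) (.node (.leaf 2183) (.leaf 6791)))) (.node (.node (.node (.leaf 327) (.leaf 4935)) (.node (.leaf 2119) (.leaf 6727))) (.node (.node (.leaf 455) (.leaf 5063)) (.node (.leaf 2247) (.leaf 6855))))) (.node (.node (.node (.node (.leaf 295) (.leaf 4903)) (.node (.leaf 2087) (.leaf 6695))) (.node (.node (.leaf 423) (.leaf 5031)) (.node (.leaf 2215) (.leaf 6823)))) (.node (.node (.node (.leaf 359) (.leaf 4967)) (.node (.leaf 2151) (.leaf 6759))) (.node (.node (.leaf 487) (.leaf 5095)) (.node (.leaf 2279) (.leaf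 6887)))))) (.node (.node (.node (.node (.node (.leaf 279) (.leaf 4887)) (.node (.leaf 2071) (.leaf 6679))) (.node (.node (.leaf 407) (.leaf 5015)) (.node (.leaf 2199) (.leaf 6807)))) (.node (.node (.node (.leaf 343) (.leaf 4951)) (.node (.leaf 2135) (.leaf 6743))) (.node (.node (.leaf 471) (.leaf 5079)) (.node (.leaf 2263) (.leaf 6871))))) (.node (.node (.node (.node (.leaf 311) (.leaf 4919)) (.node (.leaf 2103) (.leaf 6711))) (.node (.node (.leaf 439) (.leaf 5047)) (.node (.leaf 2231) (.leaf 6839)))) (.node (.node (.node (.leaf 375) (.leaf 4983)) (.node (.leaf 2167) (.leaf 6775))) (.node (.node (.leaf 503) (.leaf 5111)) (.node (.leaf 2295) (.leaf 6903)))))))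

/-- Part of a collection table. -/
def tblHe_8_8 : Trie := (.node (.node (.node (.node (.node (.node (.leaf 264) (.leaf 4872)) (.node (.leaf 2056) (.leaf 6664))) (.node (.node (.leaf 392) (.leaf 5000)) (.node (.leaf 2184) (.leaf 6792)))) (.node (.node (.node (.leaf 328) (.leaf 4936)) (.node (.leaf 2120) (.leaf 6728))) (.node (.node (.leaf 456) (.leaf 5064)) (.node (.leaf 2248) (.leaf 6856))))) (.node (.node (.node (.node (.leaf 296) (.leaf 4904)) (.node (.leaf 2088) (.leaf 6696))) (.node (.node (.leaf 424) (.leaf 5032)) (.node (.leaf 2216) (.leaf 6824)))) (.node (.node (.node (.leaf 360) (.leaf 4968)) (.node (.leaf 2152) (.leaf 6760))) (.node (.node (.leaf 488) (.leaf 5096)) (.node (.leaf 2280) (.leaf 6888)))))) (.node (.node (.node (.node (.node (.leaf 280) (.leaf 4888)) (.node (.leaf 2072) (.leaf 6680))) (.node (.node (.leaf 408) (.leaf 5016)) (.node (.leaf 2200) (.leaf 6808)))) (.node (.node (.node (.leaf 344) (.leaf 4952)) (.node (.leaf 2136) (.leaf 6744))) (.node (.node (.leaf 472) (.leaf 5080)) (.node (.leaf 2264) (.leaf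 6872))))) (.node (.node (.node (.node (.leaf 312) (.leaf 4920)) (.node (.leaf 2104) (.leaf 6712))) (.node (.node (.leaf 440) (.leaf 5048)) (.node (.leaf 2232) (.leaf 6840)))) (.node (.node (.node (.leaf 376) (.leaf 4984)) (.node (.leaf 2168) (.leaf 6776))) (.node (.node (.leaf 504) (.leaf 5112)) (.node (.leaf 2296) (.leaf 6904)))))))

/-- Part of a collection table. -/
def tblHe_8_9 : Trie := (.node (.node (.node (.node (.node (.node (.leaf 265) (.leaf 4873)) (.node (.leaf 2057) (.leaf 6665))) (.node (.node (.leaf 393) (.leaf 5001)) (.node (.leaf 2185) (.leaf 6793)))) (.node (.node (.node (.leaf 329) (.leaf 4937)) (.node (.leaf 2121) (.leaf 6729))) (.node (.node (.leaf 457) (.leaf 5065)) (.node (.leaf 2249) (.leaf 6857))))) (.node (.node (.node (.node (.leaf 297) (.leaf 4905)) (.node (.leaf 2089) (.leaf 6697))) (.node (.node (.leaf 425) (.leaf 5033)) (.node (.leaf 2217) (.leaf 6825)))) (.node (.node (.node (.leaf 361) (.leaf 4969)) (.node (.leaf 2153) (.leaf 6761))) (.node (.node (.leaf 489) (.leaf 5097)) (.node (.leaf 2281) (.leaf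 6889)))))) (.node (.node (.node (.node (.node (.leaf 281) (.leaf 4889)) (.node (.leaf 2073) (.leaf 6681))) (.node (.node (.leaf 409) (.leaf 5017)) (.node (.leaf 2201) (.leaf 6809)))) (.node (.node (.node (.leaf 345) (.leaf 4953)) (.node (.leaf 2137) (.leaf 6745))) (.node (.node (.leaf 473) (.leaf 5081)) (.node (.leaf 2265) (.leaf 6873))))) (.node (.node (.node (.node (.leaf 313) (.leaf 4921)) (.node (.leaf 2105) (.leaf 6713))) (.node (.node (.leaf 441) (.leaf 5049)) (.node (.leaf 2233) (.leaf 6841)))) (.node (.node (.node (.leaf 377) (.leaf 4985)) (.node (.leaf 2169) (.leaf 6777))) (.node (.node (.leaf 505) (.leaf 5113)) (.node (.leaf 2297) (.leaf 6905)))))))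

/-- Part of a collection table. -/
def tblHe_8_10 : Trie := (.node (.node (.node (.node (.node (.node (.leaf 266) (.leaf 4874)) (.node (.leaf 2058) (.leaf 6666))) (.node (.node (.leaf 394) (.leaf 5002)) (.node (.leaf 2186) (.leaf 6794)))) (.node (.node (.node (.leaf 330) (.leaf 4938)) (.node (.leaf 2122) (.leaf 6730))) (.node (.node (.leaf 458) (.leaf 5066)) (.node (.leaf 2250) (.leaf 6858))))) (.node (.node (.node (.node (.leaf 298) (.leaf 4906)) (.node (.leaf 2090) (.leaf 6698))) (.node (.node (.leaf 426) (.leaf 5034)) (.node (.leaf 2218) (.leaf 6826)))) (.node (.node (.node (.leaf 362) (.leaf 4970)) (.node (.leaf 2154) (.leaf 6762))) (.node (.node (.leaf 490) (.leaf 5098)) (.node (.leaf 2282) (.leaf 6890)))))) (.node (.node (.node (.node (.node (.leaf 282) (.leaf 4890)) (.node (.leaf 2074) (.leaf 6682))) (.node (.node (.leaf 410) (.leaf 5018)) (.node (.leaf 2202) (.leaf 6810)))) (.node (.node (.node (.leaf 346) (.leaf 4954)) (.node (.leaf 2138) (.leaf 6746))) (.node (.node (.leaf 474) (.leaf 5082)) (.node (.leaf 2266) (.leaf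 6874))))) (.node (.node (.node (.node (.leaf 314) (.leaf 4922)) (.node (.leaf 2106) (.leaf 6714))) (.node (.node (.leaf 442) (.leaf 5050)) (.node (.leaf 2234) (.leaf 6842)))) (.node (.node (.node (.leaf 378) (.leaf 4986)) (.node (.leaf 2170) (.leaf 6778))) (.node (.node (.leaf 506) (.leaf 5114)) (.node (.leaf 2298) (.leaf 6906)))))))

/-- Part of a collection table. -/
def tblHe_8_11 : Trie := (.node (.node (.node (.node (.node (.node (.leaf 267) (.leaf 4875)) (.node (.leaf 2059) (.leaf 6667))) (.node (.node (.leaf 395) (.leaf 5003)) (.node (.leaf 2187) (.leaf 6795)))) (.node (.node (.node (.leaf 331) (.leaf 4939)) (.node (.leaf 2123) (.leaf 6731))) (.node (.node (.leaf 459) (.leaf 5067)) (.node (.leaf 2251) (.leaf 6859))))) (.node (.node (.node (.node (.leaf 299) (.leaf 4907)) (.node (.leaf 2091) (.leaf 6699))) (.node (.node (.leaf 427) (.leaf 5035)) (.node (.leaf 2219) (.leaf 6827)))) (.node (.node (.node (.leaf 363) (.leaf 4971)) (.node (.leaf 2155) (.leaf 6763))) (.node (.node (.leaf 491) (.leaf 5099)) (.node (.leaf 2283)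 (.leaf 6891)))))) (.node (.node (.node (.node (.node (.leaf 283) (.leaf 4891)) (.node (.leaf 2075) (.leaf 6683))) (.node (.node (.leaf 411) (.leaf 5019)) (.node (.leaf 2203) (.leaf 6811)))) (.node (.node (.node (.leaf 347) (.leaf 4955)) (.node (.leaf 2139) (.leaf 6747))) (.node (.node (.leaf 475) (.leaf 5083)) (.node (.leaf 2267) (.leaf 6875))))) (.node (.node (.node (.node (.leaf 315) (.leaf 4923)) (.node (.leaf 2107) (.leaf 6715))) (.node (.node (.leaf 443) (.leaf 5051)) (.node (.leaf 2235) (.leaf 6843)))) (.node (.node (.node (.leaf 379) (.leaf 4987)) (.node (.leaf 2171) (.leaf 6779))) (.node (.node (.leaf 507) (.leaf 5115)) (.node (.leaf 2299) (.leaf 6907)))))))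

/-- Part of a collection table. -/
def tblHe_8_12 : Trie := (.node (.node (.node (.node (.node (.node (.leaf 268) (.leaf 4876)) (.node (.leaf 2060) (.leaf 6668))) (.node (.node (.leaf 396) (.leaf 5004)) (.node (.leaf 2188) (.leaf 6796)))) (.node (.node (.node (.leaf 332) (.leaf 4940)) (.node (.leaf 2124) (.leaf 6732))) (.node (.node (.leaf 460) (.leaf 5068)) (.node (.leaf 2252) (.leaf 6860))))) (.node (.node (.node (.node (.leaf 300) (.leaf 4908)) (.node (.leaf 2092) (.leaf 6700))) (.node (.node (.leaf 428) (.leaf 5036)) (.node (.leaf 2220) (.leaf 6828)))) (.node (.node (.node (.leaf 364) (.leaf 4972)) (.node (.leaf 2156) (.leaf 6764))) (.node (.node (.leaf 492) (.leaf 5100)) (.node (.leaf 2284) (.leaf 6892)))))) (.node (.node (.node (.node (.node (.leaf 284) (.leaf 4892)) (.node (.leaf 2076) (.leaf 6684))) (.node (.node (.leaf 412) (.leaf 5020)) (.node (.leaf 2204) (.leaf 6812)))) (.node (.node (.node (.leaf 348) (.leaf 4956)) (.node (.leaf 2140) (.leaf 6748))) (.node (.node (.leaf 476) (.leaf 5084)) (.node (.leaf 2268) (.leaf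 6876))))) (.node (.node (.node (.node (.leaf 316) (.leaf 4924)) (.node (.leaf 2108) (.leaf 6716))) (.node (.node (.leaf 444) (.leaf 5052)) (.node (.leaf 2236) (.leaf 6844)))) (.node (.node (.node (.leaf 380) (.leaf 4988)) (.node (.leaf 2172) (.leaf 6780))) (.node (.node (.leaf 508) (.leaf 5116)) (.node (.leaf 2300) (.leaf 6908)))))))

/-- Part of a collection table. -/
def tblHe_8_13 : Trie := (.node (.node (.node (.node (.node (.node (.leaf 269) (.leaf 4877)) (.node (.leaf 2061) (.leaf 6669))) (.node (.node (.leaf 397) (.leaf 5005)) (.node (.leaf 2189) (.leaf 6797)))) (.node (.node (.node (.leaf 333) (.leaf 4941)) (.node (.leaf 2125) (.leaf 6733))) (.node (.node (.leaf 461) (.leaf 5069)) (.node (.leaf 2253) (.leaf 6861))))) (.node (.node (.node (.node (.leaf 301) (.leaf 4909)) (.node (.leaf 2093) (.leaf 6701))) (.node (.node (.leaf 429) (.leaf 5037)) (.node (.leaf 2221) (.leaf 6829)))) (.node (.node (.node (.leaf 365) (.leaf 4973)) (.node (.leaf 2157) (.leaf 6765))) (.node (.node (.leaf 493) (.leaf 5101)) (.node (.leaf 2285)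 (.leaf 6893)))))) (.node (.node (.node (.node (.node (.leaf 285) (.leaf 4893)) (.node (.leaf 2077) (.leaf 6685))) (.node (.node (.leaf 413) (.leaf 5021)) (.node (.leaf 2205) (.leaf 6813)))) (.node (.node (.node (.leaf 349) (.leaf 4957)) (.node (.leaf 2141) (.leaf 6749))) (.node (.node (.leaf 477) (.leaf 5085)) (.node (.leaf 2269) (.leaf 6877))))) (.node (.node (.node (.node (.leaf 317) (.leaf 4925)) (.node (.leaf 2109) (.leaf 6717))) (.node (.node (.leaf 445) (.leaf 5053)) (.node (.leaf 2237) (.leaf 6845)))) (.node (.node (.node (.leaf 381) (.leaf 4989)) (.node (.leaf 2173) (.leaf 6781))) (.node (.node (.leaf 509) (.leaf 5117)) (.node (.leaf 2301) (.leaf 6909)))))))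

/-- Part of a collection table. -/
def tblHe_8_14 : Trie := (.node (.node (.node (.node (.node (.node (.leaf 270) (.leaf 4878)) (.node (.leaf 2062) (.leaf 6670))) (.node (.node (.leaf 398) (.leaf 5006)) (.node (.leaf 2190) (.leaf 6798)))) (.node (.node (.node (.leaf 334) (.leaf 4942)) (.node (.leaf 2126) (.leaf 6734))) (.node (.node (.leaf 462) (.leaf 5070)) (.node (.leaf 2254) (.leaf 6862))))) (.node (.node (.node (.node (.leaf 302) (.leaf 4910)) (.node (.leaf 2094) (.leaf 6702))) (.node (.node (.leaf 430) (.leaf 5038)) (.node (.leaf 2222) (.leaf 6830)))) (.node (.node (.node (.leaf 366) (.leaf 4974)) (.node (.leaf 2158) (.leaf 6766))) (.node (.node (.leaf 494) (.leaf 5102)) (.node (.leaf 2286) (.leaf 6894)))))) (.node (.node (.node (.node (.node (.leaf 286) (.leaf 4894)) (.node (.leaf 2078) (.leaf 6686))) (.node (.node (.leaf 414) (.leaf 5022)) (.node (.leaf 2206) (.leaf 6814)))) (.node (.node (.node (.leaf 350) (.leaf 4958)) (.node (.leaf 2142) (.leaf 6750))) (.node (.node (.leaf 478) (.leaf 5086)) (.node (.leaf 2270) (.leaf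 6878))))) (.node (.node (.node (.node (.leaf 318) (.leaf 4926)) (.node (.leaf 2110) (.leaf 6718))) (.node (.node (.leaf 446) (.leaf 5054)) (.node (.leaf 2238) (.leaf 6846)))) (.node (.node (.node (.leaf 382) (.leaf 4990)) (.node (.leaf 2174) (.leaf 6782))) (.node (.node (.leaf 510) (.leaf 5118)) (.node (.leaf 2302) (.leaf 6910)))))))

/-- Part of a collection table. -/
def tblHe_8_15 : Trie := (.node (.node (.node (.node (.node (.node (.leaf 271) (.leaf 4879)) (.node (.leaf 2063) (.leaf 6671))) (.node (.node (.leaf 399) (.leaf 5007)) (.node (.leaf 2191) (.leaf 6799)))) (.node (.node (.node (.leaf 335) (.leaf 4943)) (.node (.leaf 2127) (.leaf 6735))) (.node (.node (.leaf 463) (.leaf 5071)) (.node (.leaf 2255) (.leaf 6863))))) (.node (.node (.node (.node (.leaf 303) (.leaf 4911)) (.node (.leaf 2095) (.leaf 6703))) (.node (.node (.leaf 431) (.leaf 5039)) (.node (.leaf 2223) (.leaf 6831)))) (.node (.node (.node (.leaf 367) (.leaf 4975)) (.node (.leaf 2159) (.leaf 6767))) (.node (.node (.leaf 495) (.leaf 5103)) (.node (.leaf 2287)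 (.leaf 6895)))))) (.node (.node (.node (.node (.node (.leaf 287) (.leaf 4895)) (.node (.leaf 2079) (.leaf 6687))) (.node (.node (.leaf 415) (.leaf 5023)) (.node (.leaf 2207) (.leaf 6815)))) (.node (.node (.node (.leaf 351) (.leaf 4959)) (.node (.leaf 2143) (.leaf 6751))) (.node (.node (.leaf 479) (.leaf 5087)) (.node (.leaf 2271) (.leaf 6879))))) (.node (.node (.node (.node (.leaf 319) (.leaf 4927)) (.node (.leaf 2111) (.leaf 6719))) (.node (.node (.leaf 447) (.leaf 5055)) (.node (.leaf 2239) (.leaf 6847)))) (.node (.node (.node (.leaf 383) (.leaf 4991)) (.node (.leaf 2175) (.leaf 6783))) (.node (.node (.leaf 511) (.leaf 5119)) (.node (.leaf 2303) (.leaf 6911)))))))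

/-- Part of a collection table. -/
def tblHe_9_0 : Trie := (.node (.node (.node (.node (.node (.node (.leaf 512) (.leaf 1024)) (.node (.leaf 768) (.leaf 1280))) (.node (.node (.leaf 640) (.leaf 1152)) (.node (.leaf 896) (.leaf 1408)))) (.node (.node (.node (.leaf 576) (.leaf 1088)) (.node (.leaf 832) (.leaf 1344))) (.node (.node (.leaf 704) (.leaf 1216)) (.node (.leaf 960) (.leaf 1472))))) (.node (.node (.node (.node (.leaf 544) (.leaf 1056)) (.node (.leaf 800) (.leaf 1312))) (.node (.node (.leaf 672) (.leaf 1184)) (.node (.leaf 928) (.leaf 1440)))) (.node (.node (.node (.leaf 608) (.leaf 1120)) (.node (.leaf 864) (.leaf 1376))) (.node (.node (.leaf 736) (.leaf 1248)) (.node (.leaf 992) (.leaf 1504)))))) (.node (.node (.node (.node (.node (.leaf 528) (.leaf 1040)) (.node (.leaf 784) (.leaf 1296))) (.node (.node (.leaf 656) (.leaf 1168)) (.node (.leaf 912) (.leaf 1424)))) (.node (.node (.node (.leaf 592) (.leaf 1104)) (.node (.leaf 848) (.leaf 1360))) (.node (.node (.leaf 720) (.leaf 1232)) (.node (.leaf 976) (.leaf 1488)))))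 (.node (.node (.node (.node (.leaf 560) (.leaf 1072)) (.node (.leaf 816) (.leaf 1328))) (.node (.node (.leaf 688) (.leaf 1200)) (.node (.leaf 944) (.leaf 1456)))) (.node (.node (.node (.leaf 624) (.leaf 1136)) (.node (.leaf 880) (.leaf 1392))) (.node (.node (.leaf 752) (.leaf 1264)) (.node (.leaf 1008) (.leaf 1520)))))))

/-- Part of a collection table. -/
def tblHe_9_1 : Trie := (.node (.node (.node (.node (.node (.node (.leaf 513) (.leaf 1025)) (.node (.leaf 769) (.leaf 1281))) (.node (.node (.leaf 641) (.leaf 1153)) (.node (.leaf 897) (.leaf 1409)))) (.node (.node (.node (.leaf 577) (.leaf 1089)) (.node (.leaf 833) (.leaf 1345))) (.node (.node (.leaf 705) (.leaf 1217)) (.node (.leaf 961) (.leaf 1473))))) (.node (.node (.node (.node (.leaf 545) (.leaf 1057)) (.node (.leaf 801) (.leaf 1313))) (.node (.node (.leaf 673) (.leaf 1185)) (.node (.leaf 929) (.leaf 1441)))) (.node (.node (.node (.leaf 609) (.leaf 1121)) (.node (.leaf 865) (.leaf 1377))) (.node (.node (.leaf 737) (.leaf 1249)) (.node (.leaf 993) (.leaf 1505)))))) (.node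 (.node (.node (.node (.node (.leaf 529) (.leaf 1041)) (.node (.leaf 785) (.leaf 1297))) (.node (.node (.leaf 657) (.leaf 1169)) (.node (.leaf 913) (.leaf 1425)))) (.node (.node (.node (.leaf 593) (.leaf 1105)) (.node (.leaf 849) (.leaf 1361))) (.node (.node (.leaf 721) (.leaf 1233)) (.node (.leaf 977) (.leaf 1489))))) (.node (.node (.node (.node (.leaf 561) (.leaf 1073)) (.node (.leaf 817) (.leaf 1329))) (.node (.node (.leaf 689) (.leaf 1201)) (.node (.leaf 945) (.leaf 1457)))) (.node (.node (.node (.leaf 625) (.leaf 1137)) (.node (.leaf 881) (.leaf 1393))) (.node (.node (.leaf 753) (.leaf 1265)) (.node (.leaf 1009) (.leaf 1521)))))))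

/-- Part of a collection table. -/
def tblHe_9_2 : Trie := (.node (.node (.node (.node (.node (.node (.leaf 514) (.leaf 1026)) (.node (.leaf 770) (.leaf 1282))) (.node (.node (.leaf 642) (.leaf 1154)) (.node (.leaf 898) (.leaf 1410)))) (.node (.node (.node (.leaf 578) (.leaf 1090)) (.node (.leaf 834) (.leaf 1346))) (.node (.node (.leaf 706) (.leaf 1218)) (.node (.leaf 962) (.leaf 1474))))) (.node (.node (.node (.node (.leaf 546) (.leaf 1058)) (.node (.leaf 802) (.leaf 1314))) (.node (.node (.leaf 674) (.leaf 1186)) (.node (.leaf 930) (.leaf 1442)))) (.node (.node (.node (.leaf 610) (.leaf 1122)) (.node (.leaf 866) (.leaf 1378))) (.node (.node (.leaf 738) (.leaf 1250)) (.node (.leaf 994) (.leaf 1506)))))) (.node (.node (.node (.node (.node (.leaf 530) (.leaf 1042)) (.node (.leaf 786) (.leaf 1298))) (.node (.node (.leaf 658) (.leaf 1170)) (.node (.leaf 914) (.leaf 1426)))) (.node (.node (.node (.leaf 594) (.leaf 1106)) (.node (.leaf 850) (.leaf 1362))) (.node (.node (.leaf 722) (.leaf 1234)) (.node (.leaf 978) (.leaf 1490)))))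 (.node (.node (.node (.node (.leaf 562) (.leaf 1074)) (.node (.leaf 818) (.leaf 1330))) (.node (.node (.leaf 690) (.leaf 1202)) (.node (.leaf 946) (.leaf 1458)))) (.node (.node (.node (.leaf 626) (.leaf 1138)) (.node (.leaf 882) (.leaf 1394))) (.node (.node (.leaf 754) (.leaf 1266)) (.node (.leaf 1010) (.leaf 1522)))))))

/-- Part of a collection table. -/
def tblHe_9_3 : Trie := (.node (.node (.node (.node (.node (.node (.leaf 515) (.leaf 1027)) (.node (.leaf 771) (.leaf 1283))) (.node (.node (.leaf 643) (.leaf 1155)) (.node (.leaf 899) (.leaf 1411)))) (.node (.node (.node (.leaf 579) (.leaf 1091)) (.node (.leaf 835) (.leaf 1347))) (.node (.node (.leaf 707) (.leaf 1219)) (.node (.leaf 963) (.leaf 1475))))) (.node (.node (.node (.node (.leaf 547) (.leaf 1059)) (.node (.leaf 803) (.leaf 1315))) (.node (.node (.leaf 675) (.leaf 1187)) (.node (.leaf 931) (.leaf 1443)))) (.node (.node (.node (.leaf 611) (.leaf 1123)) (.node (.leaf 867) (.leaf 1379))) (.node (.node (.leaf 739) (.leaf 1251)) (.node (.leaf 995) (.leaf 1507)))))) (.node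 (.node (.node (.node (.node (.leaf 531) (.leaf 1043)) (.node (.leaf 787) (.leaf 1299))) (.node (.node (.leaf 659) (.leaf 1171)) (.node (.leaf 915) (.leaf 1427)))) (.node (.node (.node (.leaf 595) (.leaf 1107)) (.node (.leaf 851) (.leaf 1363))) (.node (.node (.leaf 723) (.leaf 1235)) (.node (.leaf 979) (.leaf 1491))))) (.node (.node (.node (.node (.leaf 563) (.leaf 1075)) (.node (.leaf 819) (.leaf 1331))) (.node (.node (.leaf 691) (.leaf 1203)) (.node (.leaf 947) (.leaf 1459)))) (.node (.node (.node (.leaf 627) (.leaf 1139)) (.node (.leaf 883) (.leaf 1395))) (.node (.node (.leaf 755) (.leaf 1267)) (.node (.leaf 1011) (.leaf 1523)))))))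

/-- Part of a collection table. -/
def tblHe_9_4 : Trie := (.node (.node (.node (.node (.node (.node (.leaf 516) (.leaf 1028)) (.node (.leaf 772) (.leaf 1284))) (.node (.node (.leaf 644) (.leaf 1156)) (.node (.leaf 900) (.leaf 1412)))) (.node (.node (.node (.leaf 580) (.leaf 1092)) (.node (.leaf 836) (.leaf 1348))) (.node (.node (.leaf 708) (.leaf 1220)) (.node (.leaf 964) (.leaf 1476))))) (.node (.node (.node (.node (.leaf 548) (.leaf 1060)) (.node (.leaf 804) (.leaf 1316))) (.node (.node (.leaf 676) (.leaf 1188)) (.node (.leaf 932) (.leaf 1444)))) (.node (.node (.node (.leaf 612) (.leaf 1124)) (.node (.leaf 868) (.leaf 1380))) (.node (.node (.leaf 740) (.leaf 1252)) (.node (.leaf 996) (.leaf 1508)))))) (.node (.node (.node (.node (.node (.leaf 532) (.leaf 1044)) (.node (.leaf 788) (.leaf 1300))) (.node (.node (.leaf 660) (.leaf 1172)) (.node (.leaf 916) (.leaf 1428)))) (.node (.node (.node (.leaf 596) (.leaf 1108)) (.node (.leaf 852) (.leaf 1364))) (.node (.node (.leaf 724) (.leaf 1236)) (.node (.leaf 980) (.leaf 1492)))))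 (.node (.node (.node (.node (.leaf 564) (.leaf 1076)) (.node (.leaf 820) (.leaf 1332))) (.node (.node (.leaf 692) (.leaf 1204)) (.node (.leaf 948) (.leaf 1460)))) (.node (.node (.node (.leaf 628) (.leaf 1140)) (.node (.leaf 884) (.leaf 1396))) (.node (.node (.leaf 756) (.leaf 1268)) (.node (.leaf 1012) (.leaf 1524)))))))

/-- Part of a collection table. -/
def tblHe_9_5 : Trie := (.node (.node (.node (.node (.node (.node (.leaf 517) (.leaf 1029)) (.node (.leaf 773) (.leaf 1285))) (.node (.node (.leaf 645) (.leaf 1157)) (.node (.leaf 901) (.leaf 1413)))) (.node (.node (.node (.leaf 581) (.leaf 1093)) (.node (.leaf 837) (.leaf 1349))) (.node (.node (.leaf 709) (.leaf 1221)) (.node (.leaf 965) (.leaf 1477))))) (.node (.node (.node (.node (.leaf 549) (.leaf 1061)) (.node (.leaf 805) (.leaf 1317))) (.node (.node (.leaf 677) (.leaf 1189)) (.node (.leaf 933) (.leaf 1445)))) (.node (.node (.node (.leaf 613) (.leaf 1125)) (.node (.leaf 869) (.leaf 1381))) (.node (.node (.leaf 741) (.leaf 1253)) (.node (.leaf 997) (.leaf 1509)))))) (.node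 (.node (.node (.node (.node (.leaf 533) (.leaf 1045)) (.node (.leaf 789) (.leaf 1301))) (.node (.node (.leaf 661) (.leaf 1173)) (.node (.leaf 917) (.leaf 1429)))) (.node (.node (.node (.leaf 597) (.leaf 1109)) (.node (.leaf 853) (.leaf 1365))) (.node (.node (.leaf 725) (.leaf 1237)) (.node (.leaf 981) (.leaf 1493))))) (.node (.node (.node (.node (.leaf 565) (.leaf 1077)) (.node (.leaf 821) (.leaf 1333))) (.node (.node (.leaf 693) (.leaf 1205)) (.node (.leaf 949) (.leaf 1461)))) (.node (.node (.node (.leaf 629) (.leaf 1141)) (.node (.leaf 885) (.leaf 1397))) (.node (.node (.leaf 757) (.leaf 1269)) (.node (.leaf 1013) (.leaf 1525)))))))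

/-- Part of a collection table. -/
def tblHe_9_6 : Trie := (.node (.node (.node (.node (.node (.node (.leaf 518) (.leaf 1030)) (.node (.leaf 774) (.leaf 1286))) (.node (.node (.leaf 646) (.leaf 1158)) (.node (.leaf 902) (.leaf 1414)))) (.node (.node (.node (.leaf 582) (.leaf 1094)) (.node (.leaf 838) (.leaf 1350))) (.node (.node (.leaf 710) (.leaf 1222)) (.node (.leaf 966) (.leaf 1478))))) (.node (.node (.node (.node (.leaf 550) (.leaf 1062)) (.node (.leaf 806) (.leaf 1318))) (.node (.node (.leaf 678) (.leaf 1190)) (.node (.leaf 934) (.leaf 1446)))) (.node (.node (.node (.leaf 614) (.leaf 1126)) (.node (.leaf 870) (.leaf 1382))) (.node (.node (.leaf 742) (.leaf 1254)) (.node (.leaf 998) (.leaf 1510)))))) (.node (.node (.node (.node (.node (.leaf 534) (.leaf 1046)) (.node (.leaf 790) (.leaf 1302))) (.node (.node (.leaf 662) (.leaf 1174)) (.node (.leaf 918) (.leaf 1430)))) (.node (.node (.node (.leaf 598) (.leaf 1110)) (.node (.leaf 854) (.leaf 1366))) (.node (.node (.leaf 726) (.leaf 1238)) (.node (.leaf 982) (.leaf 1494)))))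 (.node (.node (.node (.node (.leaf 566) (.leaf 1078)) (.node (.leaf 822) (.leaf 1334))) (.node (.node (.leaf 694) (.leaf 1206)) (.node (.leaf 950) (.leaf 1462)))) (.node (.node (.node (.leaf 630) (.leaf 1142)) (.node (.leaf 886) (.leaf 1398))) (.node (.node (.leaf 758) (.leaf 1270)) (.node (.leaf 1014) (.leaf 1526)))))))

/-- Part of a collection table. -/
def tblHe_9_7 : Trie := (.node (.node (.node (.node (.node (.node (.leaf 519) (.leaf 1031)) (.node (.leaf 775) (.leaf 1287))) (.node (.node (.leaf 647) (.leaf 1159)) (.node (.leaf 903) (.leaf 1415)))) (.node (.node (.node (.leaf 583) (.leaf 1095)) (.node (.leaf 839) (.leaf 1351))) (.node (.node (.leaf 711) (.leaf 1223)) (.node (.leaf 967) (.leaf 1479))))) (.node (.node (.node (.node (.leaf 551) (.leaf 1063)) (.node (.leaf 807) (.leaf 1319))) (.node (.node (.leaf 679) (.leaf 1191)) (.node (.leaf 935) (.leaf 1447)))) (.node (.node (.node (.leaf 615) (.leaf 1127)) (.node (.leaf 871) (.leaf 1383))) (.node (.node (.leaf 743) (.leaf 1255)) (.node (.leaf 999) (.leaf 1511)))))) (.node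 (.node (.node (.node (.node (.leaf 535) (.leaf 1047)) (.node (.leaf 791) (.leaf 1303))) (.node (.node (.leaf 663) (.leaf 1175)) (.node (.leaf 919) (.leaf 1431)))) (.node (.node (.node (.leaf 599) (.leaf 1111)) (.node (.leaf 855) (.leaf 1367))) (.node (.node (.leaf 727) (.leaf 1239)) (.node (.leaf 983) (.leaf 1495))))) (.node (.node (.node (.node (.leaf 567) (.leaf 1079)) (.node (.leaf 823) (.leaf 1335))) (.node (.node (.leaf 695) (.leaf 1207)) (.node (.leaf 951) (.leaf 1463)))) (.node (.node (.node (.leaf 631) (.leaf 1143)) (.node (.leaf 887) (.leaf 1399))) (.node (.node (.leaf 759) (.leaf 1271)) (.node (.leaf 1015) (.leaf 1527)))))))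

/-- Part of a collection table. -/
def tblHe_9_8 : Trie := (.node (.node (.node (.node (.node (.node (.leaf 520) (.leaf 1032)) (.node (.leaf 776) (.leaf 1288))) (.node (.node (.leaf 648) (.leaf 1160)) (.node (.leaf 904) (.leaf 1416)))) (.node (.node (.node (.leaf 584) (.leaf 1096)) (.node (.leaf 840) (.leaf 1352))) (.node (.node (.leaf 712) (.leaf 1224)) (.node (.leaf 968) (.leaf 1480))))) (.node (.node (.node (.node (.leaf 552) (.leaf 1064)) (.node (.leaf 808) (.leaf 1320))) (.node (.node (.leaf 680) (.leaf 1192)) (.node (.leaf 936) (.leaf 1448)))) (.node (.node (.node (.leaf 616) (.leaf 1128)) (.node (.leaf 872) (.leaf 1384))) (.node (.node (.leaf 744) (.leaf 1256)) (.node (.leaf 1000) (.leaf 1512)))))) (.node (.node (.node (.node (.node (.leaf 536) (.leaf 1048)) (.node (.leaf 792) (.leaf 1304))) (.node (.node (.leaf 664) (.leaf 1176)) (.node (.leaf 920) (.leaf 1432)))) (.node (.node (.node (.leaf 600) (.leaf 1112)) (.node (.leaf 856) (.leaf 1368))) (.node (.node (.leaf 728) (.leaf 1240)) (.node (.leaf 984) (.leaf 1496)))))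 (.node (.node (.node (.node (.leaf 568) (.leaf 1080)) (.node (.leaf 824) (.leaf 1336))) (.node (.node (.leaf 696) (.leaf 1208)) (.node (.leaf 952) (.leaf 1464)))) (.node (.node (.node (.leaf 632) (.leaf 1144)) (.node (.leaf 888) (.leaf 1400))) (.node (.node (.leaf 760) (.leaf 1272)) (.node (.leaf 1016) (.leaf 1528)))))))

/-- Part of a collection table. -/
def tblHe_9_9 : Trie := (.node (.node (.node (.node (.node (.node (.leaf 521) (.leaf 1033)) (.node (.leaf 777) (.leaf 1289))) (.node (.node (.leaf 649) (.leaf 1161)) (.node (.leaf 905) (.leaf 1417)))) (.node (.node (.node (.leaf 585) (.leaf 1097)) (.node (.leaf 841) (.leaf 1353))) (.node (.node (.leaf 713) (.leaf 1225)) (.node (.leaf 969) (.leaf 1481))))) (.node (.node (.node (.node (.leaf 553) (.leaf 1065)) (.node (.leaf 809) (.leaf 1321))) (.node (.node (.leaf 681) (.leaf 1193)) (.node (.leaf 937) (.leaf 1449)))) (.node (.node (.node (.leaf 617) (.leaf 1129)) (.node (.leaf 873) (.leaf 1385))) (.node (.node (.leaf 745) (.leaf 1257)) (.node (.leaf 1001) (.leaf 1513)))))) (.node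 (.node (.node (.node (.node (.leaf 537) (.leaf 1049)) (.node (.leaf 793) (.leaf 1305))) (.node (.node (.leaf 665) (.leaf 1177)) (.node (.leaf 921) (.leaf 1433)))) (.node (.node (.node (.leaf 601) (.leaf 1113)) (.node (.leaf 857) (.leaf 1369))) (.node (.node (.leaf 729) (.leaf 1241)) (.node (.leaf 985) (.leaf 1497))))) (.node (.node (.node (.node (.leaf 569) (.leaf 1081)) (.node (.leaf 825) (.leaf 1337))) (.node (.node (.leaf 697) (.leaf 1209)) (.node (.leaf 953) (.leaf 1465)))) (.node (.node (.node (.leaf 633) (.leaf 1145)) (.node (.leaf 889) (.leaf 1401))) (.node (.node (.leaf 761) (.leaf 1273)) (.node (.leaf 1017) (.leaf 1529)))))))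

/-- Part of a collection table. -/
def tblHe_9_10 : Trie := (.node (.node (.node (.node (.node (.node (.leaf 522) (.leaf 1034)) (.node (.leaf 778) (.leaf 1290))) (.node (.node (.leaf 650) (.leaf 1162)) (.node (.leaf 906) (.leaf 1418)))) (.node (.node (.node (.leaf 586) (.leaf 1098)) (.node (.leaf 842) (.leaf 1354))) (.node (.node (.leaf 714) (.leaf 1226)) (.node (.leaf 970) (.leaf 1482))))) (.node (.node (.node (.node (.leaf 554) (.leaf 1066)) (.node (.leaf 810) (.leaf 1322))) (.node (.node (.leaf 682) (.leaf 1194)) (.node (.leaf 938) (.leaf 1450)))) (.node (.node (.node (.leaf 618) (.leaf 1130)) (.node (.leaf 874) (.leaf 1386))) (.node (.node (.leaf 746) (.leaf 1258)) (.node (.leaf 1002) (.leaf 1514)))))) (.node (.node (.node (.node (.node (.leaf 538) (.leaf 1050)) (.node (.leaf 794) (.leaf 1306))) (.node (.node (.leaf 666) (.leaf 1178)) (.node (.leaf 922) (.leaf 1434)))) (.node (.node (.node (.leaf 602) (.leaf 1114)) (.node (.leaf 858) (.leaf 1370))) (.node (.node (.leaf 730) (.leaf 1242)) (.node (.leaf 986) (.leaf 1498)))))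 (.node (.node (.node (.node (.leaf 570) (.leaf 1082)) (.node (.leaf 826) (.leaf 1338))) (.node (.node (.leaf 698) (.leaf 1210)) (.node (.leaf 954) (.leaf 1466)))) (.node (.node (.node (.leaf 634) (.leaf 1146)) (.node (.leaf 890) (.leaf 1402))) (.node (.node (.leaf 762) (.leaf 1274)) (.node (.leaf 1018) (.leaf 1530)))))))

/-- Part of a collection table. -/
def tblHe_9_11 : Trie := (.node (.node (.node (.node (.node (.node (.leaf 523) (.leaf 1035)) (.node (.leaf 779) (.leaf 1291))) (.node (.node (.leaf 651) (.leaf 1163)) (.node (.leaf 907) (.leaf 1419)))) (.node (.node (.node (.leaf 587) (.leaf 1099)) (.node (.leaf 843) (.leaf 1355))) (.node (.node (.leaf 715) (.leaf 1227)) (.node (.leaf 971) (.leaf 1483))))) (.node (.node (.node (.node (.leaf 555) (.leaf 1067)) (.node (.leaf 811) (.leaf 1323))) (.node (.node (.leaf 683) (.leaf 1195)) (.node (.leaf 939) (.leaf 1451)))) (.node (.node (.node (.leaf 619) (.leaf 1131)) (.node (.leaf 875) (.leaf 1387))) (.node (.node (.leaf 747) (.leaf 1259)) (.node (.leaf 1003) (.leaf 1515)))))) (.node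 (.node (.node (.node (.node (.leaf 539) (.leaf 1051)) (.node (.leaf 795) (.leaf 1307))) (.node (.node (.leaf 667) (.leaf 1179)) (.node (.leaf 923) (.leaf 1435)))) (.node (.node (.node (.leaf 603) (.leaf 1115)) (.node (.leaf 859) (.leaf 1371))) (.node (.node (.leaf 731) (.leaf 1243)) (.node (.leaf 987) (.leaf 1499))))) (.node (.node (.node (.node (.leaf 571) (.leaf 1083)) (.node (.leaf 827) (.leaf 1339))) (.node (.node (.leaf 699) (.leaf 1211)) (.node (.leaf 955) (.leaf 1467)))) (.node (.node (.node (.leaf 635) (.leaf 1147)) (.node (.leaf 891) (.leaf 1403))) (.node (.node (.leaf 763) (.leaf 1275)) (.node (.leaf 1019) (.leaf 1531)))))))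

/-- Part of a collection table. -/
def tblHe_9_12 : Trie := (.node (.node (.node (.node (.node (.node (.leaf 524) (.leaf 1036)) (.node (.leaf 780) (.leaf 1292))) (.node (.node (.leaf 652) (.leaf 1164)) (.node (.leaf 908) (.leaf 1420)))) (.node (.node (.node (.leaf 588) (.leaf 1100)) (.node (.leaf 844) (.leaf 1356))) (.node (.node (.leaf 716) (.leaf 1228)) (.node (.leaf 972) (.leaf 1484))))) (.node (.node (.node (.node (.leaf 556) (.leaf 1068)) (.node (.leaf 812) (.leaf 1324))) (.node (.node (.leaf 684) (.leaf 1196)) (.node (.leaf 940) (.leaf 1452)))) (.node (.node (.node (.leaf 620) (.leaf 1132)) (.node (.leaf 876) (.leaf 1388))) (.node (.node (.leaf 748) (.leaf 1260)) (.node (.leaf 1004) (.leaf 1516)))))) (.node (.node (.node (.node (.node (.leaf 540) (.leaf 1052)) (.node (.leaf 796) (.leaf 1308))) (.node (.node (.leaf 668) (.leaf 1180)) (.node (.leaf 924) (.leaf 1436)))) (.node (.node (.node (.leaf 604) (.leaf 1116)) (.node (.leaf 860) (.leaf 1372))) (.node (.node (.leaf 732) (.leaf 1244)) (.node (.leaf 988) (.leaf 1500)))))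 (.node (.node (.node (.node (.leaf 572) (.leaf 1084)) (.node (.leaf 828) (.leaf 1340))) (.node (.node (.leaf 700) (.leaf 1212)) (.node (.leaf 956) (.leaf 1468)))) (.node (.node (.node (.leaf 636) (.leaf 1148)) (.node (.leaf 892) (.leaf 1404))) (.node (.node (.leaf 764) (.leaf 1276)) (.node (.leaf 1020) (.leaf 1532)))))))

/-- Part of a collection table. -/
def tblHe_9_13 : Trie := (.node (.node (.node (.node (.node (.node (.leaf 525) (.leaf 1037)) (.node (.leaf 781) (.leaf 1293))) (.node (.node (.leaf 653) (.leaf 1165)) (.node (.leaf 909) (.leaf 1421)))) (.node (.node (.node (.leaf 589) (.leaf 1101)) (.node (.leaf 845) (.leaf 1357))) (.node (.node (.leaf 717) (.leaf 1229)) (.node (.leaf 973) (.leaf 1485))))) (.node (.node (.node (.node (.leaf 557) (.leaf 1069)) (.node (.leaf 813) (.leaf 1325))) (.node (.node (.leaf 685) (.leaf 1197)) (.node (.leaf 941) (.leaf 1453)))) (.node (.node (.node (.leaf 621) (.leaf 1133)) (.node (.leaf 877) (.leaf 1389))) (.node (.node (.leaf 749) (.leaf 1261)) (.node (.leaf 1005) (.leaf 1517)))))) (.node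 (.node (.node (.node (.node (.leaf 541) (.leaf 1053)) (.node (.leaf 797) (.leaf 1309))) (.node (.node (.leaf 669) (.leaf 1181)) (.node (.leaf 925) (.leaf 1437)))) (.node (.node (.node (.leaf 605) (.leaf 1117)) (.node (.leaf 861) (.leaf 1373))) (.node (.node (.leaf 733) (.leaf 1245)) (.node (.leaf 989) (.leaf 1501))))) (.node (.node (.node (.node (.leaf 573) (.leaf 1085)) (.node (.leaf 829) (.leaf 1341))) (.node (.node (.leaf 701) (.leaf 1213)) (.node (.leaf 957) (.leaf 1469)))) (.node (.node (.node (.leaf 637) (.leaf 1149)) (.node (.leaf 893) (.leaf 1405))) (.node (.node (.leaf 765) (.leaf 1277)) (.node (.leaf 1021) (.leaf 1533)))))))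

/-- Part of a collection table. -/
def tblHe_9_14 : Trie := (.node (.node (.node (.node (.node (.node (.leaf 526) (.leaf 1038)) (.node (.leaf 782) (.leaf 1294))) (.node (.node (.leaf 654) (.leaf 1166)) (.node (.leaf 910) (.leaf 1422)))) (.node (.node (.node (.leaf 590) (.leaf 1102)) (.node (.leaf 846) (.leaf 1358))) (.node (.node (.leaf 718) (.leaf 1230)) (.node (.leaf 974) (.leaf 1486))))) (.node (.node (.node (.node (.leaf 558) (.leaf 1070)) (.node (.leaf 814) (.leaf 1326))) (.node (.node (.leaf 686) (.leaf 1198)) (.node (.leaf 942) (.leaf 1454)))) (.node (.node (.node (.leaf 622) (.leaf 1134)) (.node (.leaf 878) (.leaf 1390))) (.node (.node (.leaf 750) (.leaf 1262)) (.node (.leaf 1006) (.leaf 1518)))))) (.node (.node (.node (.node (.node (.leaf 542) (.leaf 1054)) (.node (.leaf 798) (.leaf 1310))) (.node (.node (.leaf 670) (.leaf 1182)) (.node (.leaf 926) (.leaf 1438)))) (.node (.node (.node (.leaf 606) (.leaf 1118)) (.node (.leaf 862) (.leaf 1374))) (.node (.node (.leaf 734) (.leaf 1246)) (.node (.leaf 990) (.leaf 1502)))))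 (.node (.node (.node (.node (.leaf 574) (.leaf 1086)) (.node (.leaf 830) (.leaf 1342))) (.node (.node (.leaf 702) (.leaf 1214)) (.node (.leaf 958) (.leaf 1470)))) (.node (.node (.node (.leaf 638) (.leaf 1150)) (.node (.leaf 894) (.leaf 1406))) (.node (.node (.leaf 766) (.leaf 1278)) (.node (.leaf 1022) (.leaf 1534)))))))

/-- Part of a collection table. -/
def tblHe_9_15 : Trie := (.node (.node (.node (.node (.node (.node (.leaf 527) (.leaf 1039)) (.node (.leaf 783) (.leaf 1295))) (.node (.node (.leaf 655) (.leaf 1167)) (.node (.leaf 911) (.leaf 1423)))) (.node (.node (.node (.leaf 591) (.leaf 1103)) (.node (.leaf 847) (.leaf 1359))) (.node (.node (.leaf 719) (.leaf 1231)) (.node (.leaf 975) (.leaf 1487))))) (.node (.node (.node (.node (.leaf 559) (.leaf 1071)) (.node (.leaf 815) (.leaf 1327))) (.node (.node (.leaf 687) (.leaf 1199)) (.node (.leaf 943) (.leaf 1455)))) (.node (.node (.node (.leaf 623) (.leaf 1135)) (.node (.leaf 879) (.leaf 1391))) (.node (.node (.leaf 751) (.leaf 1263)) (.node (.leaf 1007) (.leaf 1519)))))) (.node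 (.node (.node (.node (.node (.leaf 543) (.leaf 1055)) (.node (.leaf 799) (.leaf 1311))) (.node (.node (.leaf 671) (.leaf 1183)) (.node (.leaf 927) (.leaf 1439)))) (.node (.node (.node (.leaf 607) (.leaf 1119)) (.node (.leaf 863) (.leaf 1375))) (.node (.node (.leaf 735) (.leaf 1247)) (.node (.leaf 991) (.leaf 1503))))) (.node (.node (.node (.node (.leaf 575) (.leaf 1087)) (.node (.leaf 831) (.leaf 1343))) (.node (.node (.leaf 703) (.leaf 1215)) (.node (.leaf 959) (.leaf 1471)))) (.node (.node (.node (.leaf 639) (.leaf 1151)) (.node (.leaf 895) (.leaf 1407))) (.node (.node (.leaf 767) (.leaf 1279)) (.node (.leaf 1023) (.leaf 1535)))))))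

/-- Collector. -/
def colHe : Collector where
  n := 10
  rels := [([9, 9], []),
    ([8, 8], []),
    ([9, 8], [8, 9]),
    ([7, 7], [8]),
    ([8, 7], [7, 8]),
    ([9, 7], [7, 8, 9]),
    ([6, 6], []),
    ([7, 6], [6, 7, 8]),
    ([8, 6], [6, 8]),
    ([9, 6], [6, 8, 9]),
    ([5, 5], []),
    ([6, 5], [5, 7, 9]),
    ([7, 5], [5, 7]),
    ([8, 5], [5, 8]),
    ([9, 5], [5, 6, 7]),
    ([4, 4], [6, 7, 8, 9]),
    ([5, 4], [4, 5, 6, 7, 8, 9]),
    ([6, 4], [4, 6, 8]),
    ([7, 4], [4, 6, 9]),
    ([8, 4], [4, 8]),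
    ([9, 4], [4, 6, 7, 8]),
    ([3, 3], [5]),
    ([4, 3], [3, 5, 6, 7]),
    ([5, 3], [3, 5]),
    ([6, 3], [3, 4, 7]),
    ([7, 3], [3, 5, 7, 8]),
    ([8, 3], [3, 8]),
    ([9, 3], [3, 4, 5, 6, 7, 8, 9]),
    ([2, 2], [5]),
    ([3, 2], [2, 3]),
    ([4, 2], [2, 5, 8, 9]),
    ([5, 2], [2, 5]),
    ([6, 2], [2, 4, 6, 8, 9]),
    ([7, 2], [2, 5, 7]),
    ([8, 2], [2, 8]),
    ([9, 2], [2, 4, 5, 8]),
    ([1, 1], [2, 3, 4, 5, 8, 9]),
    ([2, 1], [1, 3, 4, 5, 6, 7]),
    ([3, 1], [1, 2, 4, 5, 8, 9]),
    ([4, 1], [1, 5, 6, 7, 8]),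
    ([5, 1], [1, 5, 6, 7, 9]),
    ([6, 1], [1, 4, 7]),
    ([7, 1], [1, 5, 7]),
    ([8, 1], [1, 8]),
    ([9, 1], [1, 4, 5, 6, 7, 9]),
    ([0, 0], [1, 2, 4, 5, 7]),
    ([1, 0], [0, 2, 4, 5, 7, 8]),
    ([2, 0], [0, 3, 4, 5, 6, 7, 8]),
    ([3, 0], [0, 2, 4, 5, 8, 9]),
    ([4, 0], [0, 1, 3, 6, 9]),
    ([5, 0], [0, 5, 6, 7, 9]),
    ([6, 0], [0, 1, 2, 4, 9]),
    ([7, 0], [0, 5, 7, 8]),
    ([8, 0], [0, 8]),
    ([9, 0], [0, 1, 2, 4, 5, 7, 9])]
  table := [(.node (.node (.node (.node tblHe_0_0 tblHe_0_8) (.node tblHe_0_4 tblHe_0_12)) (.node (.node tblHe_0_2 tblHe_0_10) (.node tblHe_0_6 tblHe_0_14))) (.node (.node (.node tblHe_0_1 tblHe_0_9) (.node tblHe_0_5 tblHe_0_13)) (.node (.node tblHe_0_3 tblHe_0_11) (.node tblHe_0_7 tblHe_0_15)))),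
    (.node (.node (.node (.node tblHe_1_0 tblHe_1_8) (.node tblHe_1_4 tblHe_1_12)) (.node (.node tblHe_1_2 tblHe_1_10) (.node tblHe_1_6 tblHe_1_14))) (.node (.node (.node tblHe_1_1 tblHe_1_9) (.node tblHe_1_5 tblHe_1_13)) (.node (.node tblHe_1_3 tblHe_1_11) (.node tblHe_1_7 tblHe_1_15)))),
    (.node (.node (.node (.node tblHe_2_0 tblHe_2_8) (.node tblHe_2_4 tblHe_2_12)) (.node (.node tblHe_2_2 tblHe_2_10) (.node tblHe_2_6 tblHe_2_14))) (.node (.node (.node tblHe_2_1 tblHe_2_9) (.node tblHe_2_5 tblHe_2_13)) (.node (.node tblHe_2_3 tblHe_2_11) (.node tblHe_2_7 tblHe_2_15)))),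
    (.node (.node (.node (.node tblHe_3_0 tblHe_3_8) (.node tblHe_3_4 tblHe_3_12)) (.node (.node tblHe_3_2 tblHe_3_10) (.node tblHe_3_6 tblHe_3_14))) (.node (.node (.node tblHe_3_1 tblHe_3_9) (.node tblHe_3_5 tblHe_3_13)) (.node (.node tblHe_3_3 tblHe_3_11) (.node tblHe_3_7 tblHe_3_15)))),
    (.node (.node (.node (.node tblHe_4_0 tblHe_4_8) (.node tblHe_4_4 tblHe_4_12)) (.node (.node tblHe_4_2 tblHe_4_10) (.node tblHe_4_6 tblHe_4_14))) (.node (.node (.node tblHe_4_1 tblHe_4_9) (.node tblHe_4_5 tblHe_4_13)) (.node (.node tblHe_4_3 tblHe_4_11) (.node tblHe_4_7 tblHe_4_15)))),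
    (.node (.node (.node (.node tblHe_5_0 tblHe_5_8) (.node tblHe_5_4 tblHe_5_12)) (.node (.node tblHe_5_2 tblHe_5_10) (.node tblHe_5_6 tblHe_5_14))) (.node (.node (.node tblHe_5_1 tblHe_5_9) (.node tblHe_5_5 tblHe_5_13)) (.node (.node tblHe_5_3 tblHe_5_11) (.node tblHe_5_7 tblHe_5_15)))),
    (.node (.node (.node (.node tblHe_6_0 tblHe_6_8) (.node tblHe_6_4 tblHe_6_12)) (.node (.node tblHe_6_2 tblHe_6_10) (.node tblHe_6_6 tblHe_6_14))) (.node (.node (.node tblHe_6_1 tblHe_6_9) (.node tblHe_6_5 tblHe_6_13)) (.node (.node tblHe_6_3 tblHe_6_11) (.node tblHe_6_7 tblHe_6_15)))),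
    (.node (.node (.node (.node tblHe_7_0 tblHe_7_8) (.node tblHe_7_4 tblHe_7_12)) (.node (.node tblHe_7_2 tblHe_7_10) (.node tblHe_7_6 tblHe_7_14))) (.node (.node (.node tblHe_7_1 tblHe_7_9) (.node tblHe_7_5 tblHe_7_13)) (.node (.node tblHe_7_3 tblHe_7_11) (.node tblHe_7_7 tblHe_7_15)))),
    (.node (.node (.node (.node tblHe_8_0 tblHe_8_8) (.node tblHe_8_4 tblHe_8_12)) (.node (.node tblHe_8_2 tblHe_8_10) (.node tblHe_8_6 tblHe_8_14))) (.node (.node (.node tblHe_8_1 tblHe_8_9) (.node tblHe_8_5 tblHe_8_13)) (.node (.node tblHe_8_3 tblHe_8_11) (.node tblHe_8_7 tblHe_8_15)))),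
    (.node (.node (.node (.node tblHe_9_0 tblHe_9_8) (.node tblHe_9_4 tblHe_9_12)) (.node (.node tblHe_9_2 tblHe_9_10) (.node tblHe_9_6 tblHe_9_14))) (.node (.node (.node tblHe_9_1 tblHe_9_9) (.node tblHe_9_5 tblHe_9_13)) (.node (.node tblHe_9_3 tblHe_9_11) (.node tblHe_9_7 tblHe_9_15))))]
  eqs := [.assoc [0] 45,
    .assoc [1] 36,
    .assoc [1] 45,
    .assoc [1] 46,
    .assoc [2] 28,
    .assoc [2] 36,
    .assoc [2] 37,
    .assoc [2] 45,
    .assoc [2] 46,
    .assoc [2] 47,
    .assoc [3] 21,
    .assoc [3] 36,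
    .assoc [3] 37,
    .assoc [3] 38,
    .assoc [3] 45,
    .assoc [3] 46,
    .assoc [3] 47,
    .assoc [3] 48,
    .assoc [4] 15,
    .assoc [4] 21,
    .assoc [4] 22,
    .assoc [4] 28,
    .assoc [4] 29,
    .assoc [4] 30,
    .assoc [4] 36,
    .assoc [4] 37,
    .assoc [4] 38,
    .assoc [4] 39,
    .assoc [4] 45,
    .assoc [4] 46,
    .assoc [4] 47,
    .assoc [4] 48,
    .assoc [4] 49,
    .assoc [5] 15,
    .assoc [5] 22,
    .assoc [5] 30,
    .assoc [5] 45,
    .conj 0 [(0, 0), (12, 915)] [(12, 12)],
    .conj 0 [(0, 0), (12, 915), (32, 905), (44, 518)] [(32, 12), (12, 32)],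
    .conj 0 [(0, 0), (32, 905)] [(32, 32)],
    .conj 0 [(0, 0), (69, 362)] [(69, 69)],
    .conj 0 [(0, 0), (12, 915), (69, 362), (73, 934), (101, 553), (329, 678), (357, 809), (736, 127), (748, 44)] [(73, 12), (329, 12), (736, 12), (101, 69), (329, 69), (12, 73)],
    .conj 1 [(0, 0), (7, 812), (11, 236), (12, 396), (65, 713), (70, 371), (97, 863), (106, 511), (109, 979), (326, 115), (653, 159), (906, 947)] [(11, 7), (97, 7), (109, 7), (326, 7), (653, 7), (70, 12), (97, 12), (7, 65), (11, 65)],
    .conj 1 [(0, 0), (7, 812), (12, 396), (66, 224), (73, 128), (78, 364), (101, 268)] [(78, 7), (66, 12), (73, 12), (7, 66)],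
    .conj 1 [(0, 0), (7, 812), (83, 330), (952, 838)] [(952, 7), (7, 83)],
    .conj 2 [(0, 0), (6, 774)] [(6, 6)],
    .conj 2 [(0, 0), (6, 774), (332, 332), (362, 618)] [(332, 6), (6, 332)],
    .conj 3 [(0, 0), (12, 123), (32, 461), (44, 150)] [(32, 12), (12, 32)],
    .conj 4 [(0, 0), (6, 298)] [(6, 6)]]
  gauge := [0, 8162774324609024, 2814749767106560, 0, 7599824371187712, 21392098230009856, 1125899906842624, 0, 25895697857380352, 0]
  comb := [107273338179256, 57187867174, 6903832404, 317745739332387, 8737001506, 109582708399259, 319704921897734, 109582701851865, 14370841158, 109556978376347, 2374491818766, 392423566633523, 2362663943579, 8704436832, 41321399609904, 354317264396805, 318360827662983, 530185944373076, 3682184302873, 3310534448, 215093476979231, 374945665644610, 536861844450382, 1024, 434658371030394, 356152781894308, 63409463122, 262198932582837, 300178379427048, 77167233666359, 543651145200067, 16, 259197188467890, 108233222990542, 15365125940, 541331219071647, 48494135181278, 291272522485132, 361715884322676,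 294580806764915, 139264, 434111835512616, 317048944498869, 57275877926, 154232613315506, 171528691370796, 491715604246363, 391078649268246, 0, 0, 0, 0, 0, 17272460359, 0]

/-- Normal forms by increasing key. -/
def orderHe : List ℕ := [803, 304, 531, 704, 778, 197, 329, 646, 428, 565, 506, 703, 694, 377, 655, 860, 31, 582, 768, 613, 496, 762, 835, 886, 149, 348, 281, 297, 627, 266, 684, 47, 741, 896, 159, 966, 259, 857, 54, 138, 556, 425, 796, 623, 442, 725, 755, 944, 106, 933, 553, 85, 922, 486, 864, 12, 223, 1020, 495, 115, 214, 793, 400, 67, 687, 444, 140, 351, 499, 992, 490, 549, 218, 937, 102, 789, 918, 89, 976, 771, 825, 457, 246, 518, 44, 575, 659, 832, 355, 624, 906, 117, 69, 954, 207, 28, 204, 393, 979, 426, 995, 143, 726, 858, 309, 656, 352, 709, 185, 447, 742, 572, 298, 595, 332, 9, 150, 464, 1017, 282, 837, 63, 614, 629, 380, 975, 224, 163, 724, 379, 158, 754, 856, 385, 749, 567, 424, 740, 199, 331, 258, 622, 177, 733, 455, 168, 433, 823, 123, 989, 75, 878, 2, 996, 980, 600, 1005, 129, 414, 1010, 551, 939, 840, 894,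 61, 791, 274, 4, 632, 1012, 161, 290, 590, 973, 91, 593, 833, 430, 45, 706, 907, 152, 29, 276, 519, 292, 306, 247, 862, 616, 955, 625, 775, 651, 408, 20, 36, 503, 577, 50, 301, 285, 872, 881, 606, 699, 174, 962, 180, 103, 610, 141, 445, 388, 146, 491, 312, 919, 270, 977, 766, 712, 219, 993, 396, 95, 474, 533, 805, 681, 358, 234, 515, 720, 188, 943, 345, 662, 243, 736, 362, 764, 239, 677, 479, 371, 144, 268, 608, 809, 323, 537, 470, 230, 341, 666, 787, 960, 902, 172, 911, 950, 121, 73, 959, 453, 547, 48, 604, 250, 522, 821, 990, 753, 852, 571, 434, 157, 327, 621, 130, 257, 1006, 744, 420, 375, 728, 203, 984, 1009, 164, 119, 459, 386, 877, 734, 178, 827, 413, 1000, 750, 1, 71, 596, 201, 880, 774, 99, 576, 650, 915, 325, 284, 463, 569, 300, 698, 373, 831, 502, 56, 235, 14, 737, 436, 359, 866, 663, 189, 132, 402, 475, 721, 968, 1022, 397, 873, 492, 51, 21, 175, 842, 220, 634, 409, 963, 112, 1014, 37, 6, 607, 64, 179, 714, 1001, 985, 597, 364, 751, 387, 314, 560, 182, 668, 390, 735, 165, 192, 166, 1023, 544, 956, 986, 133, 15, 437,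 784, 57, 867, 598, 403, 1002, 969, 908, 928, 261, 38, 22, 252, 639, 410, 80, 757, 889, 35, 847, 524, 585, 874, 19, 689, 311, 395, 776, 82, 813, 526, 692, 711, 930, 504, 254, 644, 641, 541, 187, 635, 221, 65, 830, 324, 7, 568, 98, 493, 843, 372, 462, 914, 113, 1015, 200, 767, 422, 389, 800, 700, 181, 730, 271, 528, 854, 611, 313, 746, 713, 652, 147, 236, 617, 586, 307, 277, 890, 431, 476, 153, 758, 707, 368, 320, 293, 262, 863, 552, 114, 657, 66, 84, 494, 727, 353, 792, 573, 932, 222, 427, 743, 205, 859, 5, 672, 895, 294, 336, 154, 508, 278, 591, 633, 291, 1013, 841, 780, 618, 275, 710, 415, 640, 997, 601, 540, 186, 688, 3, 879, 394, 812, 169, 981, 1011, 310, 817, 439, 904, 135, 971, 109, 244, 210, 952, 449, 78, 59, 925, 482, 516, 126, 763, 349, 958, 769, 583, 685, 452, 910, 267, 786, 887, 497, 546, 820, 120, 72, 926, 228, 450, 283, 381, 664, 615, 225, 468, 333, 299, 151, 465, 110, 818, 360, 936, 498, 788, 529, 855, 686, 653, 747, 770, 423, 801, 731, 701, 88, 350, 548, 970, 435, 108, 745, 131, 1007, 853, 729, 924, 816, 58, 438,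 991, 134, 421, 448, 265, 76, 851, 42, 208, 885, 719, 406, 419, 581, 319, 870, 26, 124, 480, 761, 542, 356, 155, 660, 642, 472, 673, 509, 619, 814, 295, 337, 232, 690, 781, 279, 512, 869, 838, 287, 579, 1018, 92, 630, 25, 303, 883, 10, 240, 940, 41, 405, 145, 765, 190, 722, 136, 363, 231, 609, 471, 667, 738, 964, 269, 398, 52, 440, 723, 170, 137, 460, 982, 399, 53, 441, 912, 739, 828, 998, 96, 965, 191, 602, 934, 636, 32, 927, 361, 794, 451, 554, 819, 229, 111, 469, 665, 86, 16, 844, 160, 550, 357, 691, 60, 938, 90, 592, 473, 233, 972, 543, 815, 661, 790, 643, 599, 785, 680, 242, 532, 942, 1003, 909, 344, 514, 545, 167, 957, 94, 804, 987, 183, 561, 466, 648, 193, 500, 334, 365, 715, 226, 391, 382, 315, 669, 696, 772, 93, 1019, 196, 702, 11, 802, 376, 513, 564, 941, 839, 530, 631, 241, 654, 328, 511, 675, 901, 521, 748, 249, 783, 384, 330, 339, 176, 566, 949, 378, 732, 198, 773, 383, 467, 458, 227, 697, 412, 876, 70, 649, 1008, 118, 826, 501, 335, 0, 105, 367, 563, 588, 678, 213, 272, 485, 288, 810, 892, 538, 342, 921, 195, 671,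 947, 489, 682, 416, 559, 917, 899, 806, 799, 716, 316, 346, 217, 534, 848, 101, 68, 574, 891, 477, 321, 263, 354, 824, 587, 206, 116, 456, 658, 237, 369, 759, 347, 584, 846, 417, 535, 638, 260, 849, 317, 18, 717, 34, 888, 683, 807, 756, 446, 978, 401, 1021, 184, 308, 708, 392, 215, 923, 13, 865, 994, 142, 487, 107, 100, 798, 253, 411, 558, 929, 39, 216, 898, 525, 916, 488, 946, 875, 23, 81, 370, 808, 983, 913, 171, 536, 461, 340, 999, 322, 238, 829, 676, 478, 97, 603, 1004, 432, 74, 454, 255, 822, 988, 83, 645, 128, 931, 505, 122, 693, 527, 777, 202, 620, 256, 517, 752, 211, 374, 79, 570, 127, 905, 326, 483, 953, 245, 156, 811, 318, 264, 850, 343, 884, 418, 289, 893, 273, 760, 679, 718, 589, 539, 580, 1016, 17, 795, 62, 836, 935, 845, 974, 594, 637, 555, 628, 33, 162, 8, 87, 507, 868, 40, 695, 305, 647, 24, 578, 861, 286, 882, 302, 429, 705, 779, 404, 296, 951, 251, 612, 148, 523, 626, 49, 30, 961, 605, 46, 834, 173, 280, 903, 338, 520, 55, 945, 139, 557, 948, 782, 897, 248, 674, 900, 510, 967, 797, 443, 125, 27, 484, 670, 194,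 920, 481, 871, 366, 43, 77, 209, 407, 212, 562, 104]

/-- Points for the keys. -/
def ptsHe : List ℕ := [1825, 660]

/-- Distinct words of the Sylow `3`-subgroup. -/
def words3 : List (List ℕ) := [[19],
  [18, 18, 19, 18, 19, 18, 18, 19, 19],
  [18, 18, 19],
  [18, 18, 19, 19, 18, 19, 18, 18, 19, 19, 18, 19, 18, 18, 19, 19],
  [18, 18, 19, 18, 18, 19, 19, 18, 19, 18, 18, 19, 19],
  [19, 19],
  [18, 18],
  [18, 19],
  [18, 19, 18, 19, 18, 18, 19, 19, 18, 19, 18, 18, 19, 19],
  [18, 19, 18, 18, 19, 19, 18, 19, 18, 18, 19, 19],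
  [19, 18, 19, 18, 18, 19, 19, 18, 19, 18, 18, 19, 19],
  [18, 18, 18, 19, 18, 18, 19, 19],
  [18, 18, 19, 18, 19, 18, 18, 19, 19, 18, 19, 18, 18, 19, 19],
  [18, 19, 18, 19, 18, 18, 19, 19],
  [18, 18, 19, 18, 18, 19, 19],
  [19, 19, 18, 19, 18, 18, 19, 19],
  [18, 19, 18, 18, 19, 19],
  [18, 18, 19, 19],
  [18, 18, 19, 19, 18, 19, 18, 18, 19, 19],
  [18],
  [18, 19, 19],
  [19, 19, 18, 19, 18, 18, 19, 19, 18, 19, 18, 18, 19, 19],
  [19, 18, 19, 18, 18, 19, 19],
  [],
  [18, 19, 19, 18, 19, 18, 18, 19, 19, 18, 19, 18, 18, 19, 19],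
  [18, 18, 18, 19, 18, 18, 19, 19, 18, 19, 18, 18, 19, 19],
  [18, 19, 19, 18, 19, 18, 18, 19, 19]]

/-- Points for their keys. -/
def pts3 : List ℕ := [1637]

/-- Distinct words of the Sylow `5`-subgroup. -/
def words5 : List (List ℕ) := [[15, 15, 15, 15, 16, 16, 16],
  [15, 15, 15, 16, 16, 16],
  [15, 16, 16, 16, 16],
  [16, 16, 16],
  [15, 16, 16, 16],
  [15, 15, 16, 16, 16],
  [15, 15, 16, 16, 16, 16],
  [16, 16, 16, 16],
  [15, 15, 15, 15, 16, 16, 16, 16],
  [15, 15, 15, 16, 16, 16, 16],
  [15, 15, 16, 16],
  [15, 16, 16],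
  [15, 16],
  [16],
  [15, 15, 15, 15, 16],
  [16, 16],
  [15, 15, 15, 16],
  [15, 15, 15, 16, 16],
  [],
  [15, 15],
  [15],
  [15, 15, 15, 15, 16, 16],
  [15, 15, 15],
  [15, 15, 15, 15],
  [15, 15, 16]]

/-- Points for their keys. -/
def pts5 : List ℕ := [1889]

/-- Distinct words of the Sylow `7`-subgroup. -/
def words7 : List (List ℕ) := [[23, 23, 23, 24, 24, 24, 23, 24, 23, 23, 23, 23, 23, 23, 24, 24, 24, 24, 24, 24, 23, 24, 23, 23, 23, 23, 23, 23, 24, 24, 24, 24, 24, 24, 23, 24, 23, 23, 23, 23, 23, 23, 24, 24, 24, 24, 24, 24, 23, 24, 23, 23, 23, 23, 23, 23, 24, 24, 24, 24, 24, 24],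
  [23, 23, 24, 23, 23, 23, 23, 23, 23, 24, 24, 24, 24, 24, 24, 23, 24, 23, 23, 23, 23, 23, 23, 24, 24, 24, 24, 24, 24],
  [23, 23, 23, 23, 23, 23, 24, 24, 24, 24, 23, 24, 23, 23, 23, 23, 23, 23, 24, 24, 24, 24, 24, 24, 23, 24, 23, 23, 23, 23, 23, 23, 24, 24, 24, 24, 24, 24, 23, 24, 23, 23, 23, 23, 23, 23, 24, 24, 24, 24, 24, 24],
  [23, 23, 23, 23, 23, 24, 24, 24, 24, 24, 24, 23, 24, 23, 23, 23, 23, 23, 23, 24, 24, 24, 24, 24, 24, 23, 24, 23, 23, 23, 23, 23, 23, 24, 24, 24, 24, 24, 24, 23, 24, 23, 23, 23, 23, 23, 23, 24, 24, 24, 24, 24, 24, 23, 24, 23, 23, 23, 23, 23, 23, 24, 24, 24, 24, 24, 24],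
  [23, 23, 23, 23, 23, 23, 23, 24, 23, 23, 23, 23, 23, 23, 24, 24, 24, 24, 24, 24, 23, 24, 23, 23, 23, 23, 23, 23, 24, 24, 24, 24, 24, 24],
  [23, 23, 23, 24, 24, 24, 23, 24, 23, 23, 23, 23, 23, 23, 24, 24, 24, 24, 24, 24, 23, 24, 23, 23, 23, 23, 23, 23, 24, 24, 24, 24, 24, 24, 23, 24, 23, 23, 23, 23, 23, 23, 24, 24, 24, 24, 24, 24, 23, 24, 23, 23, 23, 23, 23, 23, 24, 24, 24, 24, 24, 24, 23, 24, 23, 23, 23, 23, 23, 23, 24, 24, 24, 24, 24, 24, 23, 24, 23, 23, 23, 23, 23, 23, 24, 24, 24, 24, 24, 24],
  [23, 23, 24, 23, 24, 23, 23, 23, 23, 23, 23, 24, 24, 24, 24, 24, 24, 23, 24, 23, 23, 23, 23, 23, 23, 24, 24, 24, 24, 24, 24, 23, 24, 23, 23, 23, 23, 23, 23, 24, 24, 24, 24, 24, 24, 23, 24, 23, 23, 23, 23, 23, 23, 24, 24, 24, 24, 24, 24, 23, 24, 23, 23, 23, 23, 23, 23, 24, 24, 24, 24, 24, 24, 23, 24, 23, 23, 23, 23, 23, 23, 24, 24, 24, 24, 24, 24],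
  [23, 23, 23, 23, 23, 23, 24, 24, 24, 24, 23, 24, 23, 23, 23, 23, 23, 23, 24, 24, 24, 24, 24, 24, 23, 24, 23, 23, 23, 23, 23, 23, 24, 24, 24, 24, 24, 24, 23, 24, 23, 23, 23, 23, 23, 23, 24, 24, 24, 24, 24, 24, 23, 24, 23, 23, 23, 23, 23, 23, 24, 24, 24, 24, 24, 24],
  [23, 24, 24, 24, 24, 24, 23, 24, 23, 23, 23, 23, 23, 23, 24, 24, 24, 24, 24, 24, 23, 24, 23, 23, 23, 23, 23, 23, 24, 24, 24, 24, 24, 24, 23, 24, 23, 23, 23, 23, 23, 23, 24, 24, 24, 24, 24, 24, 23, 24, 23, 23, 23, 23, 23, 23, 24, 24, 24, 24, 24, 24],
  [23, 23, 23, 23, 23, 24, 24, 24, 24, 24, 24, 23, 24, 23, 23, 23, 23, 23, 23, 24, 24, 24, 24, 24, 24, 23, 24, 23, 23, 23, 23, 23, 23, 24, 24, 24, 24, 24, 24, 23, 24, 23, 23, 23, 23, 23, 23, 24, 24, 24, 24, 24, 24, 23, 24, 23, 23, 23, 23, 23, 23, 24, 24, 24, 24, 24, 24, 23, 24, 23, 23, 23, 23, 23, 23, 24, 24, 24, 24, 24, 24],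
  [23, 23, 23, 23, 23, 23, 24, 24, 24, 24, 24, 23, 24, 23, 23, 23, 23, 23, 23, 24, 24, 24, 24, 24, 24, 23, 24, 23, 23, 23, 23, 23, 23, 24, 24, 24, 24, 24, 24],
  [24, 24, 24, 24, 24, 24, 23, 24, 23, 23, 23, 23, 23, 23, 24, 24, 24, 24, 24, 24, 23, 24, 23, 23, 23, 23, 23, 23, 24, 24, 24, 24, 24, 24, 23, 24, 23, 23, 23, 23, 23, 23, 24, 24, 24, 24, 24, 24, 23, 24, 23, 23, 23, 23, 23, 23, 24, 24, 24, 24, 24, 24],
  [23, 23, 23, 23, 23, 23, 24, 24, 24, 24, 24, 23, 24, 23, 23, 23, 23, 23, 23, 24, 24, 24, 24, 24, 24, 23, 24, 23, 23, 23, 23, 23, 23, 24, 24, 24, 24, 24, 24, 23, 24, 23, 23, 23, 23, 23, 23, 24, 24, 24, 24, 24, 24],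
  [23, 23, 23, 23, 24, 24, 23, 24, 23, 23, 23, 23, 23, 23, 24, 24, 24, 24, 24, 24, 23, 24, 23, 23, 23, 23, 23, 23, 24, 24, 24, 24, 24, 24, 23, 24, 23, 23, 23, 23, 23, 23, 24, 24, 24, 24, 24, 24],
  [23, 23, 23, 23, 24, 24, 24, 24, 24, 24, 23, 24, 23, 23, 23, 23, 23, 23, 24, 24, 24, 24, 24, 24, 23, 24, 23, 23, 23, 23, 23, 23, 24, 24, 24, 24, 24, 24, 23, 24, 23, 23, 23, 23, 23, 23, 24, 24, 24, 24, 24, 24, 23, 24, 23, 23, 23, 23, 23, 23, 24, 24, 24, 24, 24, 24, 23, 24, 23, 23, 23, 23, 23, 23, 24, 24, 24, 24, 24, 24],
  [23, 24, 24, 23, 24, 23, 23, 23, 23, 23, 23, 24, 24, 24, 24, 24, 24, 23, 24, 23, 23, 23, 23, 23, 23, 24, 24, 24, 24, 24, 24],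
  [23, 23, 23, 23, 24, 24, 23, 24, 23, 23, 23, 23, 23, 23, 24, 24, 24, 24, 24, 24, 23, 24, 23, 23, 23, 23, 23, 23, 24, 24, 24, 24, 24, 24],
  [23],
  [23, 23, 23, 23, 23, 24, 24, 24, 23, 24, 23, 23, 23, 23, 23, 23, 24, 24, 24, 24, 24, 24, 23, 24, 23, 23, 23, 23, 23, 23, 24, 24, 24, 24, 24, 24, 23, 24, 23, 23, 23, 23, 23, 23, 24, 24, 24, 24, 24, 24],
  [23, 23, 24, 24, 23, 24, 23, 23, 23, 23, 23, 23, 24, 24, 24, 24, 24, 24, 23, 24, 23, 23, 23, 23, 23, 23, 24, 24, 24, 24, 24, 24, 23, 24, 23, 23, 23, 23, 23, 23, 24, 24, 24, 24, 24, 24],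
  [23, 23, 23, 23, 23, 24, 23, 23, 23, 23, 23, 23, 24, 24, 24, 24, 24, 24, 23, 24, 23, 23, 23, 23, 23, 23, 24, 24, 24, 24, 24, 24, 23, 24, 23, 23, 23, 23, 23, 23, 24, 24, 24, 24, 24, 24, 23, 24, 23, 23, 23, 23, 23, 23, 24, 24, 24, 24, 24, 24, 23, 24, 23, 23, 23, 23, 23, 23, 24, 24, 24, 24, 24, 24, 23, 24, 23, 23, 23, 23, 23, 23, 24, 24, 24, 24, 24, 24],
  [23, 23, 23, 23, 24, 24, 24, 24, 23, 24, 23, 23, 23, 23, 23, 23, 24, 24, 24, 24, 24, 24, 23, 24, 23, 23, 23, 23, 23, 23, 24, 24, 24, 24, 24, 24, 23, 24, 23, 23, 23, 23, 23, 23, 24, 24, 24, 24, 24, 24, 23, 24, 23, 23, 23, 23, 23, 23, 24, 24, 24, 24, 24, 24],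
  [23, 23, 23, 23, 23, 23, 24, 23, 24, 23, 23, 23, 23, 23, 23, 24, 24, 24, 24, 24, 24, 23, 24, 23, 23, 23, 23, 23, 23, 24, 24, 24, 24, 24, 24, 23, 24, 23, 23, 23, 23, 23, 23, 24, 24, 24, 24, 24, 24],
  [23, 23, 23, 23, 23, 23, 24, 23, 23, 23, 23, 23, 23, 24, 24, 24, 24, 24, 24],
  [23, 24, 24, 24, 24, 24, 24, 23, 24, 23, 23, 23, 23, 23, 23, 24, 24, 24, 24, 24, 24, 23, 24, 23, 23, 23, 23, 23, 23, 24, 24, 24, 24, 24, 24, 23, 24, 23, 23, 23, 23, 23, 23, 24, 24, 24, 24, 24, 24, 23, 24, 23, 23, 23, 23, 23, 23, 24, 24, 24, 24, 24, 24],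
  [23, 24, 24, 24, 23, 24, 23, 23, 23, 23, 23, 23, 24, 24, 24, 24, 24, 24, 23, 24, 23, 23, 23, 23, 23, 23, 24, 24, 24, 24, 24, 24, 23, 24, 23, 23, 23, 23, 23, 23, 24, 24, 24, 24, 24, 24],
  [23, 23, 23, 23, 23, 24, 24, 23, 24, 23, 23, 23, 23, 23, 23, 24, 24, 24, 24, 24, 24, 23, 24, 23, 23, 23, 23, 23, 23, 24, 24, 24, 24, 24, 24, 23, 24, 23, 23, 23, 23, 23, 23, 24, 24, 24, 24, 24, 24, 23, 24, 23, 23, 23, 23, 23, 23, 24, 24, 24, 24, 24, 24],
  [23, 23, 23, 23, 23, 24, 24, 24, 24, 24, 24, 23, 24, 23, 23, 23, 23, 23, 23, 24, 24, 24, 24, 24, 24, 23, 24, 23, 23, 23, 23, 23, 23, 24, 24, 24, 24, 24, 24],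
  [23, 24, 24, 23, 24, 23, 23, 23, 23, 23, 23, 24, 24, 24, 24, 24, 24, 23, 24, 23, 23, 23, 23, 23, 23, 24, 24, 24, 24, 24, 24, 23, 24, 23, 23, 23, 23, 23, 23, 24, 24, 24, 24, 24, 24],
  [23, 23, 23, 23, 23, 23, 24, 24, 24, 24, 24, 24, 23, 24, 23, 23, 23, 23, 23, 23, 24, 24, 24, 24, 24, 24, 23, 24, 23, 23, 23, 23, 23, 23, 24, 24, 24, 24, 24, 24, 23, 24, 23, 23, 23, 23, 23, 23, 24, 24, 24, 24, 24, 24, 23, 24, 23, 23, 23, 23, 23, 23, 24, 24, 24, 24, 24, 24, 23, 24, 23, 23, 23, 23, 23, 23, 24, 24, 24, 24, 24, 24],
  [23, 23, 23, 23, 23, 23, 24, 23, 24, 23, 23, 23, 23, 23, 23, 24, 24, 24, 24, 24, 24, 23, 24, 23, 23, 23, 23, 23, 23, 24, 24, 24, 24, 24, 24, 23, 24, 23, 23, 23, 23, 23, 23, 24, 24, 24, 24, 24, 24, 23, 24, 23, 23, 23, 23, 23, 23, 24, 24, 24, 24, 24, 24],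
  [23, 23, 23, 23, 23, 23, 24, 24, 24, 24, 24, 23, 24, 23, 23, 23, 23, 23, 23, 24, 24, 24, 24, 24, 24, 23, 24, 23, 23, 23, 23, 23, 23, 24, 24, 24, 24, 24, 24, 23, 24, 23, 23, 23, 23, 23, 23, 24, 24, 24, 24, 24, 24, 23, 24, 23, 23, 23, 23, 23, 23, 24, 24, 24, 24, 24, 24, 23, 24, 23, 23, 23, 23, 23, 23, 24, 24, 24, 24, 24, 24],
  [23, 23, 24, 24, 24, 24, 24, 23, 24, 23, 23, 23, 23, 23, 23, 24, 24, 24, 24, 24, 24, 23, 24, 23, 23, 23, 23, 23, 23, 24, 24, 24, 24, 24, 24, 23, 24, 23, 23, 23, 23, 23, 23, 24, 24, 24, 24, 24, 24, 23, 24, 23, 23, 23, 23, 23, 23, 24, 24, 24, 24, 24, 24],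
  [23, 23, 23, 23, 24, 24, 24, 24, 24, 23, 24, 23, 23, 23, 23, 23, 23, 24, 24, 24, 24, 24, 24, 23, 24, 23, 23, 23, 23, 23, 23, 24, 24, 24, 24, 24, 24, 23, 24, 23, 23, 23, 23, 23, 23, 24, 24, 24, 24, 24, 24],
  [23, 23, 23, 23, 23, 23, 24, 24, 24, 23, 24, 23, 23, 23, 23, 23, 23, 24, 24, 24, 24, 24, 24, 23, 24, 23, 23, 23, 23, 23, 23, 24, 24, 24, 24, 24, 24, 23, 24, 23, 23, 23, 23, 23, 23, 24, 24, 24, 24, 24, 24, 23, 24, 23, 23, 23, 23, 23, 23, 24, 24, 24, 24, 24, 24],
  [24, 24, 24, 24, 24, 24, 23, 24, 23, 23, 23, 23, 23, 23, 24, 24, 24, 24, 24, 24],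
  [23, 23, 23, 23, 23, 23, 24, 24, 24, 23, 24, 23, 23, 23, 23, 23, 23, 24, 24, 24, 24, 24, 24, 23, 24, 23, 23, 23, 23, 23, 23, 24, 24, 24, 24, 24, 24, 23, 24, 23, 23, 23, 23, 23, 23, 24, 24, 24, 24, 24, 24],
  [23, 23, 23, 23, 23, 24, 24, 24, 24, 23, 24, 23, 23, 23, 23, 23, 23, 24, 24, 24, 24, 24, 24, 23, 24, 23, 23, 23, 23, 23, 23, 24, 24, 24, 24, 24, 24, 23, 24, 23, 23, 23, 23, 23, 23, 24, 24, 24, 24, 24, 24, 23, 24, 23, 23, 23, 23, 23, 23, 24, 24, 24, 24, 24, 24, 23, 24, 23, 23, 23, 23, 23, 23, 24, 24, 24, 24, 24, 24, 23, 24, 23, 23, 23, 23, 23, 23, 24, 24, 24, 24, 24, 24],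
  [23, 23, 23, 23, 23, 24, 23, 24, 23, 23, 23, 23, 23, 23, 24, 24, 24, 24, 24, 24, 23, 24, 23, 23, 23, 23, 23, 23, 24, 24, 24, 24, 24, 24, 23, 24, 23, 23, 23, 23, 23, 23, 24, 24, 24, 24, 24, 24],
  [23, 23, 24, 24, 24, 24, 23, 24, 23, 23, 23, 23, 23, 23, 24, 24, 24, 24, 24, 24, 23, 24, 23, 23, 23, 23, 23, 23, 24, 24, 24, 24, 24, 24],
  [23, 23, 23, 23, 24, 24, 24, 23, 24, 23, 23, 23, 23, 23, 23, 24, 24, 24, 24, 24, 24],
  [23, 23, 23, 23, 24, 24, 24, 23, 24, 23, 23, 23, 23, 23, 23, 24, 24, 24, 24, 24, 24, 23, 24, 23, 23, 23, 23, 23, 23, 24, 24, 24, 24, 24, 24],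
  [23, 23, 23, 23, 23, 23, 23, 24, 23, 23, 23, 23, 23, 23, 24, 24, 24, 24, 24, 24],
  [23, 23, 23, 23, 24, 24],
  [23, 23, 23, 23, 23, 24, 23, 23, 23, 23, 23, 23, 24, 24, 24, 24, 24, 24, 23, 24, 23, 23, 23, 23, 23, 23, 24, 24, 24, 24, 24, 24, 23, 24, 23, 23, 23, 23, 23, 23, 24, 24, 24, 24, 24, 24, 23, 24, 23, 23, 23, 23, 23, 23, 24, 24, 24, 24, 24, 24, 23, 24, 23, 23, 23, 23, 23, 23, 24, 24, 24, 24, 24, 24],
  [23, 23, 23, 24, 24, 24, 24, 24, 24, 23, 24, 23, 23, 23, 23, 23, 23, 24, 24, 24, 24, 24, 24, 23, 24, 23, 23, 23, 23, 23, 23, 24, 24, 24, 24, 24, 24, 23, 24, 23, 23, 23, 23, 23, 23, 24, 24, 24, 24, 24, 24, 23, 24, 23, 23, 23, 23, 23, 23, 24, 24, 24, 24, 24, 24, 23, 24, 23, 23, 23, 23, 23, 23, 24, 24, 24, 24, 24, 24],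
  [24, 24, 24, 24, 24, 23, 24, 23, 23, 23, 23, 23, 23, 24, 24, 24, 24, 24, 24],
  [23, 24, 24, 24, 24, 24, 24, 23, 24, 23, 23, 23, 23, 23, 23, 24, 24, 24, 24, 24, 24, 23, 24, 23, 23, 23, 23, 23, 23, 24, 24, 24, 24, 24, 24],
  [23, 23, 23, 23, 23, 23, 24, 24, 24, 24, 24, 23, 24, 23, 23, 23, 23, 23, 23, 24, 24, 24, 24, 24, 24, 23, 24, 23, 23, 23, 23, 23, 23, 24, 24, 24, 24, 24, 24, 23, 24, 23, 23, 23, 23, 23, 23, 24, 24, 24, 24, 24, 24, 23, 24, 23, 23, 23, 23, 23, 23, 24, 24, 24, 24, 24, 24],
  [23, 23, 23, 23, 24, 24, 24, 24, 24, 24, 23, 24, 23, 23, 23, 23, 23, 23, 24, 24, 24, 24, 24, 24, 23, 24, 23, 23, 23, 23, 23, 23, 24, 24, 24, 24, 24, 24, 23, 24, 23, 23, 23, 23, 23, 23, 24, 24, 24, 24, 24, 24, 23, 24, 23, 23, 23, 23, 23, 23, 24, 24, 24, 24, 24, 24],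
  [24, 24, 24, 24, 23, 24, 23, 23, 23, 23, 23, 23, 24, 24, 24, 24, 24, 24],
  [23, 23, 24],
  [23, 23, 23, 23, 23, 24, 23, 24, 23, 23, 23, 23, 23, 23, 24, 24, 24, 24, 24, 24, 23, 24, 23, 23, 23, 23, 23, 23, 24, 24, 24, 24, 24, 24, 23, 24, 23, 23, 23, 23, 23, 23, 24, 24, 24, 24, 24, 24, 23, 24, 23, 23, 23, 23, 23, 23, 24, 24, 24, 24, 24, 24, 23, 24, 23, 23, 23, 23, 23, 23, 24, 24, 24, 24, 24, 24, 23, 24, 23, 23, 23, 23, 23, 23, 24, 24, 24, 24, 24, 24],
  [23, 23, 24, 24, 24, 24, 24, 24, 23, 24, 23, 23, 23, 23, 23, 23, 24, 24, 24, 24, 24, 24, 23, 24, 23, 23, 23, 23, 23, 23, 24, 24, 24, 24, 24, 24, 23, 24, 23, 23, 23, 23, 23, 23, 24, 24, 24, 24, 24, 24, 23, 24, 23, 23, 23, 23, 23, 23, 24, 24, 24, 24, 24, 24, 23, 24, 23, 23, 23, 23, 23, 23, 24, 24, 24, 24, 24, 24, 23, 24, 23, 23, 23, 23, 23, 23, 24, 24, 24, 24, 24, 24],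
  [23, 23, 24, 24, 23, 24, 23, 23, 23, 23, 23, 23, 24, 24, 24, 24, 24, 24],
  [23, 23, 23, 23, 23, 24, 24, 24, 23, 24, 23, 23, 23, 23, 23, 23, 24, 24, 24, 24, 24, 24, 23, 24, 23, 23, 23, 23, 23, 23, 24, 24, 24, 24, 24, 24, 23, 24, 23, 23, 23, 23, 23, 23, 24, 24, 24, 24, 24, 24, 23, 24, 23, 23, 23, 23, 23, 23, 24, 24, 24, 24, 24, 24, 23, 24, 23, 23, 23, 23, 23, 23, 24, 24, 24, 24, 24, 24],
  [23, 23, 23, 23, 23, 24, 24, 23, 24, 23, 23, 23, 23, 23, 23, 24, 24, 24, 24, 24, 24, 23, 24, 23, 23, 23, 23, 23, 23, 24, 24, 24, 24, 24, 24, 23, 24, 23, 23, 23, 23, 23, 23, 24, 24, 24, 24, 24, 24, 23, 24, 23, 23, 23, 23, 23, 23, 24, 24, 24, 24, 24, 24, 23, 24, 23, 23, 23, 23, 23, 23, 24, 24, 24, 24, 24, 24, 23, 24, 23, 23, 23, 23, 23, 23, 24, 24, 24, 24, 24, 24],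
  [23, 24, 24, 24, 24, 24],
  [23, 23, 24, 24, 24, 24, 24, 23, 24, 23, 23, 23, 23, 23, 23, 24, 24, 24, 24, 24, 24],
  [23, 23, 23, 24, 23, 23, 23, 23, 23, 23, 24, 24, 24, 24, 24, 24, 23, 24, 23, 23, 23, 23, 23, 23, 24, 24, 24, 24, 24, 24, 23, 24, 23, 23, 23, 23, 23, 23, 24, 24, 24, 24, 24, 24, 23, 24, 23, 23, 23, 23, 23, 23, 24, 24, 24, 24, 24, 24, 23, 24, 23, 23, 23, 23, 23, 23, 24, 24, 24, 24, 24, 24],
  [23, 23, 23, 23, 23, 23, 24, 24, 24, 23, 24, 23, 23, 23, 23, 23, 23, 24, 24, 24, 24, 24, 24, 23, 24, 23, 23, 23, 23, 23, 23, 24, 24, 24, 24, 24, 24],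
  [23, 23, 23, 23, 23, 24, 24, 23, 24, 23, 23, 23, 23, 23, 23, 24, 24, 24, 24, 24, 24, 23, 24, 23, 23, 23, 23, 23, 23, 24, 24, 24, 24, 24, 24, 23, 24, 23, 23, 23, 23, 23, 23, 24, 24, 24, 24, 24, 24, 23, 24, 23, 23, 23, 23, 23, 23, 24, 24, 24, 24, 24, 24, 23, 24, 23, 23, 23, 23, 23, 23, 24, 24, 24, 24, 24, 24],
  [23, 23, 23, 23, 23, 24, 23, 23, 23, 23, 23, 23, 24, 24, 24, 24, 24, 24, 23, 24, 23, 23, 23, 23, 23, 23, 24, 24, 24, 24, 24, 24, 23, 24, 23, 23, 23, 23, 23, 23, 24, 24, 24, 24, 24, 24, 23, 24, 23, 23, 23, 23, 23, 23, 24, 24, 24, 24, 24, 24],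
  [23, 23, 23, 24, 24, 23, 24, 23, 23, 23, 23, 23, 23, 24, 24, 24, 24, 24, 24, 23, 24, 23, 23, 23, 23, 23, 23, 24, 24, 24, 24, 24, 24],
  [23, 23, 23, 23, 23, 24, 24],
  [24, 24, 24, 24, 24, 23, 24, 23, 23, 23, 23, 23, 23, 24, 24, 24, 24, 24, 24, 23, 24, 23, 23, 23, 23, 23, 23, 24, 24, 24, 24, 24, 24, 23, 24, 23, 23, 23, 23, 23, 23, 24, 24, 24, 24, 24, 24],
  [23, 23, 23, 23, 23, 23, 24, 24, 24, 23, 24, 23, 23, 23, 23, 23, 23, 24, 24, 24, 24, 24, 24, 23, 24, 23, 23, 23, 23, 23, 23, 24, 24, 24, 24, 24, 24, 23, 24, 23, 23, 23, 23, 23, 23, 24, 24, 24, 24, 24, 24, 23, 24, 23, 23, 23, 23, 23, 23, 24, 24, 24, 24, 24, 24, 23, 24, 23, 23, 23, 23, 23, 23, 24, 24, 24, 24, 24, 24],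
  [23, 24, 24, 24, 24, 24, 23, 24, 23, 23, 23, 23, 23, 23, 24, 24, 24, 24, 24, 24],
  [23, 23, 23, 23, 24, 24, 24, 24, 24, 23, 24, 23, 23, 23, 23, 23, 23, 24, 24, 24, 24, 24, 24, 23, 24, 23, 23, 23, 23, 23, 23, 24, 24, 24, 24, 24, 24, 23, 24, 23, 23, 23, 23, 23, 23, 24, 24, 24, 24, 24, 24, 23, 24, 23, 23, 23, 23, 23, 23, 24, 24, 24, 24, 24, 24],
  [24, 24, 24, 24, 24, 24, 23, 24, 23, 23, 23, 23, 23, 23, 24, 24, 24, 24, 24, 24, 23, 24, 23, 23, 23, 23, 23, 23, 24, 24, 24, 24, 24, 24, 23, 24, 23, 23, 23, 23, 23, 23, 24, 24, 24, 24, 24, 24],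
  [23, 24, 23, 24, 23, 23, 23, 23, 23, 23, 24, 24, 24, 24, 24, 24, 23, 24, 23, 23, 23, 23, 23, 23, 24, 24, 24, 24, 24, 24, 23, 24, 23, 23, 23, 23, 23, 23, 24, 24, 24, 24, 24, 24, 23, 24, 23, 23, 23, 23, 23, 23, 24, 24, 24, 24, 24, 24, 23, 24, 23, 23, 23, 23, 23, 23, 24, 24, 24, 24, 24, 24],
  [24, 24, 24, 24, 24, 24, 23, 24, 23, 23, 23, 23, 23, 23, 24, 24, 24, 24, 24, 24, 23, 24, 23, 23, 23, 23, 23, 23, 24, 24, 24, 24, 24, 24],
  [23, 23, 23, 24, 24, 24, 24, 24, 24, 23, 24, 23, 23, 23, 23, 23, 23, 24, 24, 24, 24, 24, 24, 23, 24, 23, 23, 23, 23, 23, 23, 24, 24, 24, 24, 24, 24],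
  [23, 24, 24, 24, 24, 24, 24, 23, 24, 23, 23, 23, 23, 23, 23, 24, 24, 24, 24, 24, 24, 23, 24, 23, 23, 23, 23, 23, 23, 24, 24, 24, 24, 24, 24, 23, 24, 23, 23, 23, 23, 23, 23, 24, 24, 24, 24, 24, 24],
  [23, 23, 23, 23, 23, 24],
  [23, 23, 24, 24, 24, 24, 24, 23, 24, 23, 23, 23, 23, 23, 23, 24, 24, 24, 24, 24, 24, 23, 24, 23, 23, 23, 23, 23, 23, 24, 24, 24, 24, 24, 24, 23, 24, 23, 23, 23, 23, 23, 23, 24, 24, 24, 24, 24, 24],
  [23, 23, 23, 23],
  [23, 23, 23, 24, 23, 24, 23, 23, 23, 23, 23, 23, 24, 24, 24, 24, 24, 24, 23, 24, 23, 23, 23, 23, 23, 23, 24, 24, 24, 24, 24, 24, 23, 24, 23, 23, 23, 23, 23, 23, 24, 24, 24, 24, 24, 24, 23, 24, 23, 23, 23, 23, 23, 23, 24, 24, 24, 24, 24, 24, 23, 24, 23, 23, 23, 23, 23, 23, 24, 24, 24, 24, 24, 24],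
  [23, 23, 24, 23, 24, 23, 23, 23, 23, 23, 23, 24, 24, 24, 24, 24, 24, 23, 24, 23, 23, 23, 23, 23, 23, 24, 24, 24, 24, 24, 24, 23, 24, 23, 23, 23, 23, 23, 23, 24, 24, 24, 24, 24, 24, 23, 24, 23, 23, 23, 23, 23, 23, 24, 24, 24, 24, 24, 24],
  [23, 23, 23, 23, 23, 23, 23, 24, 23, 23, 23, 23, 23, 23, 24, 24, 24, 24, 24, 24, 23, 24, 23, 23, 23, 23, 23, 23, 24, 24, 24, 24, 24, 24, 23, 24, 23, 23, 23, 23, 23, 23, 24, 24, 24, 24, 24, 24, 23, 24, 23, 23, 23, 23, 23, 23, 24, 24, 24, 24, 24, 24],
  [23, 23, 23, 23, 23, 23, 24, 24, 24, 24, 23, 24, 23, 23, 23, 23, 23, 23, 24, 24, 24, 24, 24, 24, 23, 24, 23, 23, 23, 23, 23, 23, 24, 24, 24, 24, 24, 24, 23, 24, 23, 23, 23, 23, 23, 23, 24, 24, 24, 24, 24, 24, 23, 24, 23, 23, 23, 23, 23, 23, 24, 24, 24, 24, 24, 24, 23, 24, 23, 23, 23, 23, 23, 23, 24, 24, 24, 24, 24, 24, 23, 24, 23, 23, 23, 23, 23, 23, 24, 24, 24, 24, 24, 24],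
  [23, 23, 23, 24, 23, 23, 23, 23, 23, 23, 24, 24, 24, 24, 24, 24, 23, 24, 23, 23, 23, 23, 23, 23, 24, 24, 24, 24, 24, 24, 23, 24, 23, 23, 23, 23, 23, 23, 24, 24, 24, 24, 24, 24],
  [23, 23, 23, 23, 23, 24, 24, 24, 24, 23, 24, 23, 23, 23, 23, 23, 23, 24, 24, 24, 24, 24, 24],
  [23, 23, 23, 24, 24, 24, 24, 24, 24, 23, 24, 23, 23, 23, 23, 23, 23, 24, 24, 24, 24, 24, 24, 23, 24, 23, 23, 23, 23, 23, 23, 24, 24, 24, 24, 24, 24, 23, 24, 23, 23, 23, 23, 23, 23, 24, 24, 24, 24, 24, 24, 23, 24, 23, 23, 23, 23, 23, 23, 24, 24, 24, 24, 24, 24],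
  [24, 23, 24, 23, 23, 23, 23, 23, 23, 24, 24, 24, 24, 24, 24, 23, 24, 23, 23, 23, 23, 23, 23, 24, 24, 24, 24, 24, 24],
  [24, 24, 24, 23, 24, 23, 23, 23, 23, 23, 23, 24, 24, 24, 24, 24, 24, 23, 24, 23, 23, 23, 23, 23, 23, 24, 24, 24, 24, 24, 24, 23, 24, 23, 23, 23, 23, 23, 23, 24, 24, 24, 24, 24, 24],
  [23, 23, 23, 23, 23, 24, 24, 24, 24, 23, 24, 23, 23, 23, 23, 23, 23, 24, 24, 24, 24, 24, 24, 23, 24, 23, 23, 23, 23, 23, 23, 24, 24, 24, 24, 24, 24],
  [24, 24, 24, 24, 23, 24, 23, 23, 23, 23, 23, 23, 24, 24, 24, 24, 24, 24, 23, 24, 23, 23, 23, 23, 23, 23, 24, 24, 24, 24, 24, 24, 23, 24, 23, 23, 23, 23, 23, 23, 24, 24, 24, 24, 24, 24],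
  [23, 23, 24, 24, 24, 24, 23, 24, 23, 23, 23, 23, 23, 23, 24, 24, 24, 24, 24, 24, 23, 24, 23, 23, 23, 23, 23, 23, 24, 24, 24, 24, 24, 24, 23, 24, 23, 23, 23, 23, 23, 23, 24, 24, 24, 24, 24, 24],
  [23, 24, 24, 24, 24, 23, 24, 23, 23, 23, 23, 23, 23, 24, 24, 24, 24, 24, 24, 23, 24, 23, 23, 23, 23, 23, 23, 24, 24, 24, 24, 24, 24, 23, 24, 23, 23, 23, 23, 23, 23, 24, 24, 24, 24, 24, 24, 23, 24, 23, 23, 23, 23, 23, 23, 24, 24, 24, 24, 24, 24],
  [24, 24, 24, 24, 23, 24, 23, 23, 23, 23, 23, 23, 24, 24, 24, 24, 24, 24, 23, 24, 23, 23, 23, 23, 23, 23, 24, 24, 24, 24, 24, 24],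
  [23, 23, 23, 23, 23, 23, 24, 24, 23, 24, 23, 23, 23, 23, 23, 23, 24, 24, 24, 24, 24, 24],
  [23, 24, 23, 23, 23, 23, 23, 23, 24, 24, 24, 24, 24, 24],
  [23, 23, 23, 24, 24, 24, 24, 24, 23, 24, 23, 23, 23, 23, 23, 23, 24, 24, 24, 24, 24, 24],
  [24, 24],
  [23, 23, 23, 24, 24, 24, 24, 24, 24, 23, 24, 23, 23, 23, 23, 23, 23, 24, 24, 24, 24, 24, 24, 23, 24, 23, 23, 23, 23, 23, 23, 24, 24, 24, 24, 24, 24, 23, 24, 23, 23, 23, 23, 23, 23, 24, 24, 24, 24, 24, 24],
  [23, 24, 24, 24, 24, 24, 24, 23, 24, 23, 23, 23, 23, 23, 23, 24, 24, 24, 24, 24, 24, 23, 24, 23, 23, 23, 23, 23, 23, 24, 24, 24, 24, 24, 24, 23, 24, 23, 23, 23, 23, 23, 23, 24, 24, 24, 24, 24, 24, 23, 24, 23, 23, 23, 23, 23, 23, 24, 24, 24, 24, 24, 24, 23, 24, 23, 23, 23, 23, 23, 23, 24, 24, 24, 24, 24, 24, 23, 24, 23, 23, 23, 23, 23, 23, 24, 24, 24, 24, 24, 24],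
  [23, 23, 23, 23, 23, 24, 23, 23, 23, 23, 23, 23, 24, 24, 24, 24, 24, 24, 23, 24, 23, 23, 23, 23, 23, 23, 24, 24, 24, 24, 24, 24],
  [24, 24, 24, 23, 24, 23, 23, 23, 23, 23, 23, 24, 24, 24, 24, 24, 24, 23, 24, 23, 23, 23, 23, 23, 23, 24, 24, 24, 24, 24, 24],
  [23, 23, 23, 24, 23, 24, 23, 23, 23, 23, 23, 23, 24, 24, 24, 24, 24, 24, 23, 24, 23, 23, 23, 23, 23, 23, 24, 24, 24, 24, 24, 24, 23, 24, 23, 23, 23, 23, 23, 23, 24, 24, 24, 24, 24, 24, 23, 24, 23, 23, 23, 23, 23, 23, 24, 24, 24, 24, 24, 24],
  [23, 23, 23, 23, 23, 23, 23, 24, 23, 23, 23, 23, 23, 23, 24, 24, 24, 24, 24, 24, 23, 24, 23, 23, 23, 23, 23, 23, 24, 24, 24, 24, 24, 24, 23, 24, 23, 23, 23, 23, 23, 23, 24, 24, 24, 24, 24, 24, 23, 24, 23, 23, 23, 23, 23, 23, 24, 24, 24, 24, 24, 24, 23, 24, 23, 23, 23, 23, 23, 23, 24, 24, 24, 24, 24, 24],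
  [23, 23, 23, 23, 24, 24, 24, 24, 23, 24, 23, 23, 23, 23, 23, 23, 24, 24, 24, 24, 24, 24],
  [23, 23, 23, 23, 23, 24, 24, 24, 23, 24, 23, 23, 23, 23, 23, 23, 24, 24, 24, 24, 24, 24, 23, 24, 23, 23, 23, 23, 23, 23, 24, 24, 24, 24, 24, 24, 23, 24, 23, 23, 23, 23, 23, 23, 24, 24, 24, 24, 24, 24, 23, 24, 23, 23, 23, 23, 23, 23, 24, 24, 24, 24, 24, 24],
  [23, 23, 24, 24, 23, 24, 23, 23, 23, 23, 23, 23, 24, 24, 24, 24, 24, 24, 23, 24, 23, 23, 23, 23, 23, 23, 24, 24, 24, 24, 24, 24],
  [23, 23, 24, 23, 23, 23, 23, 23, 23, 24, 24, 24, 24, 24, 24],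
  [23, 23, 23, 24, 24, 24, 23, 24, 23, 23, 23, 23, 23, 23, 24, 24, 24, 24, 24, 24, 23, 24, 23, 23, 23, 23, 23, 23, 24, 24, 24, 24, 24, 24, 23, 24, 23, 23, 23, 23, 23, 23, 24, 24, 24, 24, 24, 24, 23, 24, 23, 23, 23, 23, 23, 23, 24, 24, 24, 24, 24, 24, 23, 24, 23, 23, 23, 23, 23, 23, 24, 24, 24, 24, 24, 24],
  [24, 24, 24, 23, 24, 23, 23, 23, 23, 23, 23, 24, 24, 24, 24, 24, 24, 23, 24, 23, 23, 23, 23, 23, 23, 24, 24, 24, 24, 24, 24, 23, 24, 23, 23, 23, 23, 23, 23, 24, 24, 24, 24, 24, 24, 23, 24, 23, 23, 23, 23, 23, 23, 24, 24, 24, 24, 24, 24, 23, 24, 23, 23, 23, 23, 23, 23, 24, 24, 24, 24, 24, 24, 23, 24, 23, 23, 23, 23, 23, 23, 24, 24, 24, 24, 24, 24],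
  [23, 23, 24, 24, 24, 23, 24, 23, 23, 23, 23, 23, 23, 24, 24, 24, 24, 24, 24, 23, 24, 23, 23, 23, 23, 23, 23, 24, 24, 24, 24, 24, 24],
  [23, 23, 23, 23, 23, 23, 24, 23, 23, 23, 23, 23, 23, 24, 24, 24, 24, 24, 24, 23, 24, 23, 23, 23, 23, 23, 23, 24, 24, 24, 24, 24, 24, 23, 24, 23, 23, 23, 23, 23, 23, 24, 24, 24, 24, 24, 24, 23, 24, 23, 23, 23, 23, 23, 23, 24, 24, 24, 24, 24, 24, 23, 24, 23, 23, 23, 23, 23, 23, 24, 24, 24, 24, 24, 24, 23, 24, 23, 23, 23, 23, 23, 23, 24, 24, 24, 24, 24, 24],
  [23, 23, 23, 23, 23, 23, 24, 23, 23, 23, 23, 23, 23, 24, 24, 24, 24, 24, 24, 23, 24, 23, 23, 23, 23, 23, 23, 24, 24, 24, 24, 24, 24, 23, 24, 23, 23, 23, 23, 23, 23, 24, 24, 24, 24, 24, 24, 23, 24, 23, 23, 23, 23, 23, 23, 24, 24, 24, 24, 24, 24],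
  [23, 23, 23, 24, 24, 24, 24, 23, 24, 23, 23, 23, 23, 23, 23, 24, 24, 24, 24, 24, 24, 23, 24, 23, 23, 23, 23, 23, 23, 24, 24, 24, 24, 24, 24, 23, 24, 23, 23, 23, 23, 23, 23, 24, 24, 24, 24, 24, 24, 23, 24, 23, 23, 23, 23, 23, 23, 24, 24, 24, 24, 24, 24, 23, 24, 23, 23, 23, 23, 23, 23, 24, 24, 24, 24, 24, 24],
  [23, 23, 23, 23, 23, 23, 24, 24],
  [23, 23, 23, 23, 23, 23, 23, 24, 23, 23, 23, 23, 23, 23, 24, 24, 24, 24, 24, 24, 23, 24, 23, 23, 23, 23, 23, 23, 24, 24, 24, 24, 24, 24, 23, 24, 23, 23, 23, 23, 23, 23, 24, 24, 24, 24, 24, 24],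
  [23, 23, 23, 23, 24, 24, 24, 24, 24, 24, 23, 24, 23, 23, 23, 23, 23, 23, 24, 24, 24, 24, 24, 24],
  [23, 23, 24, 24, 24, 23, 24, 23, 23, 23, 23, 23, 23, 24, 24, 24, 24, 24, 24, 23, 24, 23, 23, 23, 23, 23, 23, 24, 24, 24, 24, 24, 24, 23, 24, 23, 23, 23, 23, 23, 23, 24, 24, 24, 24, 24, 24, 23, 24, 23, 23, 23, 23, 23, 23, 24, 24, 24, 24, 24, 24, 23, 24, 23, 23, 23, 23, 23, 23, 24, 24, 24, 24, 24, 24, 23, 24, 23, 23, 23, 23, 23, 23, 24, 24, 24, 24, 24, 24],
  [23, 23, 23, 23, 24, 24, 24, 24, 24, 24, 23, 24, 23, 23, 23, 23, 23, 23, 24, 24, 24, 24, 24, 24, 23, 24, 23, 23, 23, 23, 23, 23, 24, 24, 24, 24, 24, 24, 23, 24, 23, 23, 23, 23, 23, 23, 24, 24, 24, 24, 24, 24],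
  [23, 23, 23, 23, 23, 23, 24, 23, 23, 23, 23, 23, 23, 24, 24, 24, 24, 24, 24, 23, 24, 23, 23, 23, 23, 23, 23, 24, 24, 24, 24, 24, 24, 23, 24, 23, 23, 23, 23, 23, 23, 24, 24, 24, 24, 24, 24],
  [23, 24, 23, 24, 23, 23, 23, 23, 23, 23, 24, 24, 24, 24, 24, 24, 23, 24, 23, 23, 23, 23, 23, 23, 24, 24, 24, 24, 24, 24, 23, 24, 23, 23, 23, 23, 23, 23, 24, 24, 24, 24, 24, 24, 23, 24, 23, 23, 23, 23, 23, 23, 24, 24, 24, 24, 24, 24],
  [23, 23, 24, 24, 24],
  [23, 23, 23, 24, 24, 24, 24, 24, 23, 24, 23, 23, 23, 23, 23, 23, 24, 24, 24, 24, 24, 24, 23, 24, 23, 23, 23, 23, 23, 23, 24, 24, 24, 24, 24, 24, 23, 24, 23, 23, 23, 23, 23, 23, 24, 24, 24, 24, 24, 24, 23, 24, 23, 23, 23, 23, 23, 23, 24, 24, 24, 24, 24, 24, 23, 24, 23, 23, 23, 23, 23, 23, 24, 24, 24, 24, 24, 24, 23, 24, 23, 23, 23, 23, 23, 23, 24, 24, 24, 24, 24, 24],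
  [23, 23, 23, 23, 24, 24, 24, 24],
  [23, 23, 23, 23, 24, 24, 24, 24, 23, 24, 23, 23, 23, 23, 23, 23, 24, 24, 24, 24, 24, 24, 23, 24, 23, 23, 23, 23, 23, 23, 24, 24, 24, 24, 24, 24, 23, 24, 23, 23, 23, 23, 23, 23, 24, 24, 24, 24, 24, 24, 23, 24, 23, 23, 23, 23, 23, 23, 24, 24, 24, 24, 24, 24, 23, 24, 23, 23, 23, 23, 23, 23, 24, 24, 24, 24, 24, 24, 23, 24, 23, 23, 23, 23, 23, 23, 24, 24, 24, 24, 24, 24],
  [23, 24, 24],
  [23, 24, 23, 24, 23, 23, 23, 23, 23, 23, 24, 24, 24, 24, 24, 24, 23, 24, 23, 23, 23, 23, 23, 23, 24, 24, 24, 24, 24, 24, 23, 24, 23, 23, 23, 23, 23, 23, 24, 24, 24, 24, 24, 24, 23, 24, 23, 23, 23, 23, 23, 23, 24, 24, 24, 24, 24, 24, 23, 24, 23, 23, 23, 23, 23, 23, 24, 24, 24, 24, 24, 24, 23, 24, 23, 23, 23, 23, 23, 23, 24, 24, 24, 24, 24, 24],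
  [24, 24, 23, 24, 23, 23, 23, 23, 23, 23, 24, 24, 24, 24, 24, 24, 23, 24, 23, 23, 23, 23, 23, 23, 24, 24, 24, 24, 24, 24, 23, 24, 23, 23, 23, 23, 23, 23, 24, 24, 24, 24, 24, 24, 23, 24, 23, 23, 23, 23, 23, 23, 24, 24, 24, 24, 24, 24],
  [23, 23, 23, 23, 24, 24, 24, 24, 24, 23, 24, 23, 23, 23, 23, 23, 23, 24, 24, 24, 24, 24, 24, 23, 24, 23, 23, 23, 23, 23, 23, 24, 24, 24, 24, 24, 24, 23, 24, 23, 23, 23, 23, 23, 23, 24, 24, 24, 24, 24, 24, 23, 24, 23, 23, 23, 23, 23, 23, 24, 24, 24, 24, 24, 24, 23, 24, 23, 23, 23, 23, 23, 23, 24, 24, 24, 24, 24, 24, 23, 24, 23, 23, 23, 23, 23, 23, 24, 24, 24, 24, 24, 24],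
  [23, 23, 23, 23, 23, 23, 24, 24, 24, 23, 24, 23, 23, 23, 23, 23, 23, 24, 24, 24, 24, 24, 24],
  [23, 23, 23, 23, 23, 24, 24, 24, 24, 24, 24, 23, 24, 23, 23, 23, 23, 23, 23, 24, 24, 24, 24, 24, 24, 23, 24, 23, 23, 23, 23, 23, 23, 24, 24, 24, 24, 24, 24, 23, 24, 23, 23, 23, 23, 23, 23, 24, 24, 24, 24, 24, 24],
  [23, 23, 23, 23, 24, 24, 24, 24, 24, 24],
  [23, 23, 23, 23, 23, 23, 24, 24, 23, 24, 23, 23, 23, 23, 23, 23, 24, 24, 24, 24, 24, 24, 23, 24, 23, 23, 23, 23, 23, 23, 24, 24, 24, 24, 24, 24, 23, 24, 23, 23, 23, 23, 23, 23, 24, 24, 24, 24, 24, 24, 23, 24, 23, 23, 23, 23, 23, 23, 24, 24, 24, 24, 24, 24, 23, 24, 23, 23, 23, 23, 23, 23, 24, 24, 24, 24, 24, 24],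
  [23, 23, 23, 24, 24, 24, 24, 24, 23, 24, 23, 23, 23, 23, 23, 23, 24, 24, 24, 24, 24, 24, 23, 24, 23, 23, 23, 23, 23, 23, 24, 24, 24, 24, 24, 24, 23, 24, 23, 23, 23, 23, 23, 23, 24, 24, 24, 24, 24, 24],
  [23, 23, 23, 23, 23, 24, 24, 24, 24, 24, 23, 24, 23, 23, 23, 23, 23, 23, 24, 24, 24, 24, 24, 24],
  [24, 23, 24, 23, 23, 23, 23, 23, 23, 24, 24, 24, 24, 24, 24],
  [23, 24, 24, 24, 24, 23, 24, 23, 23, 23, 23, 23, 23, 24, 24, 24, 24, 24, 24, 23, 24, 23, 23, 23, 23, 23, 23, 24, 24, 24, 24, 24, 24, 23, 24, 23, 23, 23, 23, 23, 23, 24, 24, 24, 24, 24, 24, 23, 24, 23, 23, 23, 23, 23, 23, 24, 24, 24, 24, 24, 24, 23, 24, 23, 23, 23, 23, 23, 23, 24, 24, 24, 24, 24, 24],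
  [23, 23, 23, 23, 23, 23, 24, 24, 23, 24, 23, 23, 23, 23, 23, 23, 24, 24, 24, 24, 24, 24, 23, 24, 23, 23, 23, 23, 23, 23, 24, 24, 24, 24, 24, 24, 23, 24, 23, 23, 23, 23, 23, 23, 24, 24, 24, 24, 24, 24],
  [24],
  [23, 23, 24, 24, 24, 23, 24, 23, 23, 23, 23, 23, 23, 24, 24, 24, 24, 24, 24, 23, 24, 23, 23, 23, 23, 23, 23, 24, 24, 24, 24, 24, 24, 23, 24, 23, 23, 23, 23, 23, 23, 24, 24, 24, 24, 24, 24],
  [24, 24, 24, 23, 24, 23, 23, 23, 23, 23, 23, 24, 24, 24, 24, 24, 24, 23, 24, 23, 23, 23, 23, 23, 23, 24, 24, 24, 24, 24, 24, 23, 24, 23, 23, 23, 23, 23, 23, 24, 24, 24, 24, 24, 24, 23, 24, 23, 23, 23, 23, 23, 23, 24, 24, 24, 24, 24, 24, 23, 24, 23, 23, 23, 23, 23, 23, 24, 24, 24, 24, 24, 24],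
  [23, 23, 23, 23, 23, 23, 24, 23, 23, 23, 23, 23, 23, 24, 24, 24, 24, 24, 24, 23, 24, 23, 23, 23, 23, 23, 23, 24, 24, 24, 24, 24, 24],
  [23, 23, 24, 24, 23, 24, 23, 23, 23, 23, 23, 23, 24, 24, 24, 24, 24, 24, 23, 24, 23, 23, 23, 23, 23, 23, 24, 24, 24, 24, 24, 24, 23, 24, 23, 23, 23, 23, 23, 23, 24, 24, 24, 24, 24, 24, 23, 24, 23, 23, 23, 23, 23, 23, 24, 24, 24, 24, 24, 24, 23, 24, 23, 23, 23, 23, 23, 23, 24, 24, 24, 24, 24, 24, 23, 24, 23, 23, 23, 23, 23, 23, 24, 24, 24, 24, 24, 24],
  [23, 24, 24, 24, 24, 24, 23, 24, 23, 23, 23, 23, 23, 23, 24, 24, 24, 24, 24, 24, 23, 24, 23, 23, 23, 23, 23, 23, 24, 24, 24, 24, 24, 24, 23, 24, 23, 23, 23, 23, 23, 23, 24, 24, 24, 24, 24, 24, 23, 24, 23, 23, 23, 23, 23, 23, 24, 24, 24, 24, 24, 24, 23, 24, 23, 23, 23, 23, 23, 23, 24, 24, 24, 24, 24, 24],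
  [23, 24, 23, 23, 23, 23, 23, 23, 24, 24, 24, 24, 24, 24, 23, 24, 23, 23, 23, 23, 23, 23, 24, 24, 24, 24, 24, 24, 23, 24, 23, 23, 23, 23, 23, 23, 24, 24, 24, 24, 24, 24, 23, 24, 23, 23, 23, 23, 23, 23, 24, 24, 24, 24, 24, 24],
  [23, 23, 24, 23, 24, 23, 23, 23, 23, 23, 23, 24, 24, 24, 24, 24, 24, 23, 24, 23, 23, 23, 23, 23, 23, 24, 24, 24, 24, 24, 24, 23, 24, 23, 23, 23, 23, 23, 23, 24, 24, 24, 24, 24, 24, 23, 24, 23, 23, 23, 23, 23, 23, 24, 24, 24, 24, 24, 24, 23, 24, 23, 23, 23, 23, 23, 23, 24, 24, 24, 24, 24, 24],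
  [23, 23, 23, 23, 23, 24, 24, 23, 24, 23, 23, 23, 23, 23, 23, 24, 24, 24, 24, 24, 24],
  [23, 23, 23, 23, 24, 24, 24, 23, 24, 23, 23, 23, 23, 23, 23, 24, 24, 24, 24, 24, 24, 23, 24, 23, 23, 23, 23, 23, 23, 24, 24, 24, 24, 24, 24, 23, 24, 23, 23, 23, 23, 23, 23, 24, 24, 24, 24, 24, 24, 23, 24, 23, 23, 23, 23, 23, 23, 24, 24, 24, 24, 24, 24, 23, 24, 23, 23, 23, 23, 23, 23, 24, 24, 24, 24, 24, 24, 23, 24, 23, 23, 23, 23, 23, 23, 24, 24, 24, 24, 24, 24],
  [23, 23, 23, 23, 24, 24, 23, 24, 23, 23, 23, 23, 23, 23, 24, 24, 24, 24, 24, 24, 23, 24, 23, 23, 23, 23, 23, 23, 24, 24, 24, 24, 24, 24, 23, 24, 23, 23, 23, 23, 23, 23, 24, 24, 24, 24, 24, 24, 23, 24, 23, 23, 23, 23, 23, 23, 24, 24, 24, 24, 24, 24, 23, 24, 23, 23, 23, 23, 23, 23, 24, 24, 24, 24, 24, 24],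
  [23, 24, 24, 24, 23, 24, 23, 23, 23, 23, 23, 23, 24, 24, 24, 24, 24, 24, 23, 24, 23, 23, 23, 23, 23, 23, 24, 24, 24, 24, 24, 24, 23, 24, 23, 23, 23, 23, 23, 23, 24, 24, 24, 24, 24, 24, 23, 24, 23, 23, 23, 23, 23, 23, 24, 24, 24, 24, 24, 24],
  [23, 23, 24, 23, 24, 23, 23, 23, 23, 23, 23, 24, 24, 24, 24, 24, 24],
  [23, 23, 23, 24, 23, 24, 23, 23, 23, 23, 23, 23, 24, 24, 24, 24, 24, 24],
  [23, 23, 23, 23, 23, 24, 24, 24, 24, 24],
  [23, 24, 24, 24, 23, 24, 23, 23, 23, 23, 23, 23, 24, 24, 24, 24, 24, 24],
  [23, 23, 23, 23, 23, 23, 24, 24, 23, 24, 23, 23, 23, 23, 23, 23, 24, 24, 24, 24, 24, 24, 23, 24, 23, 23, 23, 23, 23, 23, 24, 24, 24, 24, 24, 24],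
  [23, 23, 23, 23, 24, 24, 24, 24, 24, 24, 23, 24, 23, 23, 23, 23, 23, 23, 24, 24, 24, 24, 24, 24, 23, 24, 23, 23, 23, 23, 23, 23, 24, 24, 24, 24, 24, 24, 23, 24, 23, 23, 23, 23, 23, 23, 24, 24, 24, 24, 24, 24, 23, 24, 23, 23, 23, 23, 23, 23, 24, 24, 24, 24, 24, 24, 23, 24, 23, 23, 23, 23, 23, 23, 24, 24, 24, 24, 24, 24, 23, 24, 23, 23, 23, 23, 23, 23, 24, 24, 24, 24, 24, 24],
  [23, 23, 23, 23, 23, 23, 24],
  [23, 23, 23, 24, 24, 23, 24, 23, 23, 23, 23, 23, 23, 24, 24, 24, 24, 24, 24, 23, 24, 23, 23, 23, 23, 23, 23, 24, 24, 24, 24, 24, 24, 23, 24, 23, 23, 23, 23, 23, 23, 24, 24, 24, 24, 24, 24, 23, 24, 23, 23, 23, 23, 23, 23, 24, 24, 24, 24, 24, 24, 23, 24, 23, 23, 23, 23, 23, 23, 24, 24, 24, 24, 24, 24],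
  [23, 23, 23, 24],
  [23, 23, 24, 23, 24, 23, 23, 23, 23, 23, 23, 24, 24, 24, 24, 24, 24, 23, 24, 23, 23, 23, 23, 23, 23, 24, 24, 24, 24, 24, 24, 23, 24, 23, 23, 23, 23, 23, 23, 24, 24, 24, 24, 24, 24],
  [23, 23, 24, 24, 24, 24, 24],
  [23, 23, 23, 24, 24, 24, 24, 24, 23, 24, 23, 23, 23, 23, 23, 23, 24, 24, 24, 24, 24, 24, 23, 24, 23, 23, 23, 23, 23, 23, 24, 24, 24, 24, 24, 24],
  [23, 23, 23, 23, 24, 24, 24, 24, 23, 24, 23, 23, 23, 23, 23, 23, 24, 24, 24, 24, 24, 24, 23, 24, 23, 23, 23, 23, 23, 23, 24, 24, 24, 24, 24, 24, 23, 24, 23, 23, 23, 23, 23, 23, 24, 24, 24, 24, 24, 24],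
  [23, 23, 23, 23, 24, 24, 23, 24, 23, 23, 23, 23, 23, 23, 24, 24, 24, 24, 24, 24],
  [23, 23, 23, 23, 23, 24, 24, 24, 24, 24, 24, 23, 24, 23, 23, 23, 23, 23, 23, 24, 24, 24, 24, 24, 24],
  [23, 24, 23, 23, 23, 23, 23, 23, 24, 24, 24, 24, 24, 24, 23, 24, 23, 23, 23, 23, 23, 23, 24, 24, 24, 24, 24, 24, 23, 24, 23, 23, 23, 23, 23, 23, 24, 24, 24, 24, 24, 24],
  [],
  [23, 24, 23, 24, 23, 23, 23, 23, 23, 23, 24, 24, 24, 24, 24, 24],
  [23, 23, 23, 23, 24, 24, 24, 24, 24, 23, 24, 23, 23, 23, 23, 23, 23, 24, 24, 24, 24, 24, 24],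
  [23, 23, 24, 23, 23, 23, 23, 23, 23, 24, 24, 24, 24, 24, 24, 23, 24, 23, 23, 23, 23, 23, 23, 24, 24, 24, 24, 24, 24, 23, 24, 23, 23, 23, 23, 23, 23, 24, 24, 24, 24, 24, 24, 23, 24, 23, 23, 23, 23, 23, 23, 24, 24, 24, 24, 24, 24, 23, 24, 23, 23, 23, 23, 23, 23, 24, 24, 24, 24, 24, 24, 23, 24, 23, 23, 23, 23, 23, 23, 24, 24, 24, 24, 24, 24],
  [23, 23, 23, 23, 24, 23, 23, 23, 23, 23, 23, 24, 24, 24, 24, 24, 24],
  [24, 24, 23, 24, 23, 23, 23, 23, 23, 23, 24, 24, 24, 24, 24, 24],
  [23, 23, 23, 23, 23, 23, 24, 24, 24, 24, 24, 23, 24, 23, 23, 23, 23, 23, 23, 24, 24, 24, 24, 24, 24, 23, 24, 23, 23, 23, 23, 23, 23, 24, 24, 24, 24, 24, 24, 23, 24, 23, 23, 23, 23, 23, 23, 24, 24, 24, 24, 24, 24, 23, 24, 23, 23, 23, 23, 23, 23, 24, 24, 24, 24, 24, 24, 23, 24, 23, 23, 23, 23, 23, 23, 24, 24, 24, 24, 24, 24, 23, 24, 23, 23, 23, 23, 23, 23, 24, 24, 24, 24, 24, 24],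
  [23, 23, 23, 23, 23, 24, 24, 24],
  [23, 24, 23, 23, 23, 23, 23, 23, 24, 24, 24, 24, 24, 24, 23, 24, 23, 23, 23, 23, 23, 23, 24, 24, 24, 24, 24, 24],
  [23, 23, 23, 23, 24, 24, 24, 24, 24],
  [23, 24, 23, 24, 23, 23, 23, 23, 23, 23, 24, 24, 24, 24, 24, 24, 23, 24, 23, 23, 23, 23, 23, 23, 24, 24, 24, 24, 24, 24],
  [23, 23, 24, 24, 24, 24, 24, 24, 23, 24, 23, 23, 23, 23, 23, 23, 24, 24, 24, 24, 24, 24, 23, 24, 23, 23, 23, 23, 23, 23, 24, 24, 24, 24, 24, 24, 23, 24, 23, 23, 23, 23, 23, 23, 24, 24, 24, 24, 24, 24, 23, 24, 23, 23, 23, 23, 23, 23, 24, 24, 24, 24, 24, 24, 23, 24, 23, 23, 23, 23, 23, 23, 24, 24, 24, 24, 24, 24],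
  [24, 24, 24, 24, 24, 23, 24, 23, 23, 23, 23, 23, 23, 24, 24, 24, 24, 24, 24, 23, 24, 23, 23, 23, 23, 23, 23, 24, 24, 24, 24, 24, 24, 23, 24, 23, 23, 23, 23, 23, 23, 24, 24, 24, 24, 24, 24, 23, 24, 23, 23, 23, 23, 23, 23, 24, 24, 24, 24, 24, 24, 23, 24, 23, 23, 23, 23, 23, 23, 24, 24, 24, 24, 24, 24, 23, 24, 23, 23, 23, 23, 23, 23, 24, 24, 24, 24, 24, 24],
  [23, 24, 24, 24, 23, 24, 23, 23, 23, 23, 23, 23, 24, 24, 24, 24, 24, 24, 23, 24, 23, 23, 23, 23, 23, 23, 24, 24, 24, 24, 24, 24, 23, 24, 23, 23, 23, 23, 23, 23, 24, 24, 24, 24, 24, 24, 23, 24, 23, 23, 23, 23, 23, 23, 24, 24, 24, 24, 24, 24, 23, 24, 23, 23, 23, 23, 23, 23, 24, 24, 24, 24, 24, 24],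
  [23, 23, 23, 23, 23, 23, 24, 24, 24],
  [24, 23, 24, 23, 23, 23, 23, 23, 23, 24, 24, 24, 24, 24, 24, 23, 24, 23, 23, 23, 23, 23, 23, 24, 24, 24, 24, 24, 24, 23, 24, 23, 23, 23, 23, 23, 23, 24, 24, 24, 24, 24, 24, 23, 24, 23, 23, 23, 23, 23, 23, 24, 24, 24, 24, 24, 24, 23, 24, 23, 23, 23, 23, 23, 23, 24, 24, 24, 24, 24, 24, 23, 24, 23, 23, 23, 23, 23, 23, 24, 24, 24, 24, 24, 24],
  [23, 23, 23, 24, 24, 23, 24, 23, 23, 23, 23, 23, 23, 24, 24, 24, 24, 24, 24],
  [23, 23, 24, 24, 24, 24, 24, 24, 23, 24, 23, 23, 23, 23, 23, 23, 24, 24, 24, 24, 24, 24, 23, 24, 23, 23, 23, 23, 23, 23, 24, 24, 24, 24, 24, 24, 23, 24, 23, 23, 23, 23, 23, 23, 24, 24, 24, 24, 24, 24, 23, 24, 23, 23, 23, 23, 23, 23, 24, 24, 24, 24, 24, 24],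
  [23, 24, 23, 23, 23, 23, 23, 23, 24, 24, 24, 24, 24, 24, 23, 24, 23, 23, 23, 23, 23, 23, 24, 24, 24, 24, 24, 24, 23, 24, 23, 23, 23, 23, 23, 23, 24, 24, 24, 24, 24, 24, 23, 24, 23, 23, 23, 23, 23, 23, 24, 24, 24, 24, 24, 24, 23, 24, 23, 23, 23, 23, 23, 23, 24, 24, 24, 24, 24, 24],
  [23, 24, 24, 24, 24, 24, 24],
  [23, 23, 23, 24, 23, 24, 23, 23, 23, 23, 23, 23, 24, 24, 24, 24, 24, 24, 23, 24, 23, 23, 23, 23, 23, 23, 24, 24, 24, 24, 24, 24, 23, 24, 23, 23, 23, 23, 23, 23, 24, 24, 24, 24, 24, 24],
  [23, 23, 23, 23, 23, 24, 23, 23, 23, 23, 23, 23, 24, 24, 24, 24, 24, 24],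
  [23, 23, 24, 24, 24, 24, 24, 23, 24, 23, 23, 23, 23, 23, 23, 24, 24, 24, 24, 24, 24, 23, 24, 23, 23, 23, 23, 23, 23, 24, 24, 24, 24, 24, 24],
  [24, 24, 24, 24, 24],
  [23, 23, 23, 24, 24, 24, 24, 24, 24, 23, 24, 23, 23, 23, 23, 23, 23, 24, 24, 24, 24, 24, 24],
  [23, 23, 23, 23, 23, 24, 24, 23, 24, 23, 23, 23, 23, 23, 23, 24, 24, 24, 24, 24, 24, 23, 24, 23, 23, 23, 23, 23, 23, 24, 24, 24, 24, 24, 24, 23, 24, 23, 23, 23, 23, 23, 23, 24, 24, 24, 24, 24, 24],
  [24, 24, 24, 24, 23, 24, 23, 23, 23, 23, 23, 23, 24, 24, 24, 24, 24, 24, 23, 24, 23, 23, 23, 23, 23, 23, 24, 24, 24, 24, 24, 24, 23, 24, 23, 23, 23, 23, 23, 23, 24, 24, 24, 24, 24, 24, 23, 24, 23, 23, 23, 23, 23, 23, 24, 24, 24, 24, 24, 24, 23, 24, 23, 23, 23, 23, 23, 23, 24, 24, 24, 24, 24, 24, 23, 24, 23, 23, 23, 23, 23, 23, 24, 24, 24, 24, 24, 24],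
  [23, 24, 24, 24, 24, 24, 24, 23, 24, 23, 23, 23, 23, 23, 23, 24, 24, 24, 24, 24, 24],
  [23, 23, 23, 24, 24, 24, 24],
  [24, 24, 24, 23, 24, 23, 23, 23, 23, 23, 23, 24, 24, 24, 24, 24, 24, 23, 24, 23, 23, 23, 23, 23, 23, 24, 24, 24, 24, 24, 24, 23, 24, 23, 23, 23, 23, 23, 23, 24, 24, 24, 24, 24, 24, 23, 24, 23, 23, 23, 23, 23, 23, 24, 24, 24, 24, 24, 24],
  [23, 23, 23, 23, 23, 24, 24, 24, 24, 23, 24, 23, 23, 23, 23, 23, 23, 24, 24, 24, 24, 24, 24, 23, 24, 23, 23, 23, 23, 23, 23, 24, 24, 24, 24, 24, 24, 23, 24, 23, 23, 23, 23, 23, 23, 24, 24, 24, 24, 24, 24, 23, 24, 23, 23, 23, 23, 23, 23, 24, 24, 24, 24, 24, 24, 23, 24, 23, 23, 23, 23, 23, 23, 24, 24, 24, 24, 24, 24],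
  [23, 23, 23, 23, 23, 23, 24, 23, 24, 23, 23, 23, 23, 23, 23, 24, 24, 24, 24, 24, 24, 23, 24, 23, 23, 23, 23, 23, 23, 24, 24, 24, 24, 24, 24],
  [23, 23, 24, 24, 24, 24, 24, 24, 23, 24, 23, 23, 23, 23, 23, 23, 24, 24, 24, 24, 24, 24, 23, 24, 23, 23, 23, 23, 23, 23, 24, 24, 24, 24, 24, 24, 23, 24, 23, 23, 23, 23, 23, 23, 24, 24, 24, 24, 24, 24],
  [23, 24, 24, 24, 24, 23, 24, 23, 23, 23, 23, 23, 23, 24, 24, 24, 24, 24, 24, 23, 24, 23, 23, 23, 23, 23, 23, 24, 24, 24, 24, 24, 24, 23, 24, 23, 23, 23, 23, 23, 23, 24, 24, 24, 24, 24, 24],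
  [23, 23, 23, 24, 24, 24, 24, 23, 24, 23, 23, 23, 23, 23, 23, 24, 24, 24, 24, 24, 24, 23, 24, 23, 23, 23, 23, 23, 23, 24, 24, 24, 24, 24, 24, 23, 24, 23, 23, 23, 23, 23, 23, 24, 24, 24, 24, 24, 24],
  [23, 23, 23, 23, 23, 23, 24, 24, 24, 24, 24, 24, 23, 24, 23, 23, 23, 23, 23, 23, 24, 24, 24, 24, 24, 24, 23, 24, 23, 23, 23, 23, 23, 23, 24, 24, 24, 24, 24, 24],
  [23, 23, 23, 23, 23, 23, 24, 23, 24, 23, 23, 23, 23, 23, 23, 24, 24, 24, 24, 24, 24, 23, 24, 23, 23, 23, 23, 23, 23, 24, 24, 24, 24, 24, 24, 23, 24, 23, 23, 23, 23, 23, 23, 24, 24, 24, 24, 24, 24, 23, 24, 23, 23, 23, 23, 23, 23, 24, 24, 24, 24, 24, 24, 23, 24, 23, 23, 23, 23, 23, 23, 24, 24, 24, 24, 24, 24],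
  [23, 24, 24, 23, 24, 23, 23, 23, 23, 23, 23, 24, 24, 24, 24, 24, 24],
  [23, 24, 23, 23, 23, 23, 23, 23, 24, 24, 24, 24, 24, 24, 23, 24, 23, 23, 23, 23, 23, 23, 24, 24, 24, 24, 24, 24, 23, 24, 23, 23, 23, 23, 23, 23, 24, 24, 24, 24, 24, 24, 23, 24, 23, 23, 23, 23, 23, 23, 24, 24, 24, 24, 24, 24, 23, 24, 23, 23, 23, 23, 23, 23, 24, 24, 24, 24, 24, 24, 23, 24, 23, 23, 23, 23, 23, 23, 24, 24, 24, 24, 24, 24],
  [23, 23, 23, 24, 24, 24, 24, 24],
  [23, 23, 23, 23, 24, 23, 23, 23, 23, 23, 23, 24, 24, 24, 24, 24, 24, 23, 24, 23, 23, 23, 23, 23, 23, 24, 24, 24, 24, 24, 24],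
  [23, 23, 23, 23, 23, 24, 24, 24, 24, 24, 23, 24, 23, 23, 23, 23, 23, 23, 24, 24, 24, 24, 24, 24, 23, 24, 23, 23, 23, 23, 23, 23, 24, 24, 24, 24, 24, 24],
  [23, 23, 23, 23, 24, 23, 23, 23, 23, 23, 23, 24, 24, 24, 24, 24, 24, 23, 24, 23, 23, 23, 23, 23, 23, 24, 24, 24, 24, 24, 24, 23, 24, 23, 23, 23, 23, 23, 23, 24, 24, 24, 24, 24, 24, 23, 24, 23, 23, 23, 23, 23, 23, 24, 24, 24, 24, 24, 24, 23, 24, 23, 23, 23, 23, 23, 23, 24, 24, 24, 24, 24, 24, 23, 24, 23, 23, 23, 23, 23, 23, 24, 24, 24, 24, 24, 24],
  [23, 23, 23, 23, 24, 24, 24, 23, 24, 23, 23, 23, 23, 23, 23, 24, 24, 24, 24, 24, 24, 23, 24, 23, 23, 23, 23, 23, 23, 24, 24, 24, 24, 24, 24, 23, 24, 23, 23, 23, 23, 23, 23, 24, 24, 24, 24, 24, 24, 23, 24, 23, 23, 23, 23, 23, 23, 24, 24, 24, 24, 24, 24, 23, 24, 23, 23, 23, 23, 23, 23, 24, 24, 24, 24, 24, 24],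
  [23, 23, 23, 23, 23, 23, 24, 24, 24, 24, 24, 24, 23, 24, 23, 23, 23, 23, 23, 23, 24, 24, 24, 24, 24, 24, 23, 24, 23, 23, 23, 23, 23, 23, 24, 24, 24, 24, 24, 24, 23, 24, 23, 23, 23, 23, 23, 23, 24, 24, 24, 24, 24, 24, 23, 24, 23, 23, 23, 23, 23, 23, 24, 24, 24, 24, 24, 24, 23, 24, 23, 23, 23, 23, 23, 23, 24, 24, 24, 24, 24, 24, 23, 24, 23, 23, 23, 23, 23, 23, 24, 24, 24, 24, 24, 24],
  [23, 23, 23, 23, 24, 24, 24],
  [24, 24, 24, 24, 24, 23, 24, 23, 23, 23, 23, 23, 23, 24, 24, 24, 24, 24, 24, 23, 24, 23, 23, 23, 23, 23, 23, 24, 24, 24, 24, 24, 24, 23, 24, 23, 23, 23, 23, 23, 23, 24, 24, 24, 24, 24, 24, 23, 24, 23, 23, 23, 23, 23, 23, 24, 24, 24, 24, 24, 24],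
  [23, 23, 23, 23, 23, 23, 23, 24, 23, 23, 23, 23, 23, 23, 24, 24, 24, 24, 24, 24, 23, 24, 23, 23, 23, 23, 23, 23, 24, 24, 24, 24, 24, 24, 23, 24, 23, 23, 23, 23, 23, 23, 24, 24, 24, 24, 24, 24, 23, 24, 23, 23, 23, 23, 23, 23, 24, 24, 24, 24, 24, 24, 23, 24, 23, 23, 23, 23, 23, 23, 24, 24, 24, 24, 24, 24, 23, 24, 23, 23, 23, 23, 23, 23, 24, 24, 24, 24, 24, 24],
  [23, 23, 24, 24, 24, 23, 24, 23, 23, 23, 23, 23, 23, 24, 24, 24, 24, 24, 24, 23, 24, 23, 23, 23, 23, 23, 23, 24, 24, 24, 24, 24, 24, 23, 24, 23, 23, 23, 23, 23, 23, 24, 24, 24, 24, 24, 24, 23, 24, 23, 23, 23, 23, 23, 23, 24, 24, 24, 24, 24, 24],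
  [23, 23, 23, 23, 24, 24, 23, 24, 23, 23, 23, 23, 23, 23, 24, 24, 24, 24, 24, 24, 23, 24, 23, 23, 23, 23, 23, 23, 24, 24, 24, 24, 24, 24, 23, 24, 23, 23, 23, 23, 23, 23, 24, 24, 24, 24, 24, 24, 23, 24, 23, 23, 23, 23, 23, 23, 24, 24, 24, 24, 24, 24, 23, 24, 23, 23, 23, 23, 23, 23, 24, 24, 24, 24, 24, 24, 23, 24, 23, 23, 23, 23, 23, 23, 24, 24, 24, 24, 24, 24],
  [23, 23, 23, 24, 24, 24, 24, 23, 24, 23, 23, 23, 23, 23, 23, 24, 24, 24, 24, 24, 24],
  [23, 23, 23, 23, 23, 23, 24, 24, 24, 24],
  [23, 23, 23, 23, 23, 23, 24, 24, 24, 24, 24, 24],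
  [23, 23, 24, 24, 24, 24, 23, 24, 23, 23, 23, 23, 23, 23, 24, 24, 24, 24, 24, 24, 23, 24, 23, 23, 23, 23, 23, 23, 24, 24, 24, 24, 24, 24, 23, 24, 23, 23, 23, 23, 23, 23, 24, 24, 24, 24, 24, 24, 23, 24, 23, 23, 23, 23, 23, 23, 24, 24, 24, 24, 24, 24, 23, 24, 23, 23, 23, 23, 23, 23, 24, 24, 24, 24, 24, 24, 23, 24, 23, 23, 23, 23, 23, 23, 24, 24, 24, 24, 24, 24],
  [24, 24, 24],
  [23, 23, 23, 24, 24, 24],
  [23, 23, 23, 23, 23, 23, 24, 24, 24, 23, 24, 23, 23, 23, 23, 23, 23, 24, 24, 24, 24, 24, 24, 23, 24, 23, 23, 23, 23, 23, 23, 24, 24, 24, 24, 24, 24, 23, 24, 23, 23, 23, 23, 23, 23, 24, 24, 24, 24, 24, 24, 23, 24, 23, 23, 23, 23, 23, 23, 24, 24, 24, 24, 24, 24, 23, 24, 23, 23, 23, 23, 23, 23, 24, 24, 24, 24, 24, 24, 23, 24, 23, 23, 23, 23, 23, 23, 24, 24, 24, 24, 24, 24],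
  [23, 23, 23, 24, 24, 23, 24, 23, 23, 23, 23, 23, 23, 24, 24, 24, 24, 24, 24, 23, 24, 23, 23, 23, 23, 23, 23, 24, 24, 24, 24, 24, 24, 23, 24, 23, 23, 23, 23, 23, 23, 24, 24, 24, 24, 24, 24],
  [23, 23, 23, 23, 24, 23, 24, 23, 23, 23, 23, 23, 23, 24, 24, 24, 24, 24, 24],
  [23, 23, 23, 23, 23, 23, 24, 24, 24, 24, 24, 24, 23, 24, 23, 23, 23, 23, 23, 23, 24, 24, 24, 24, 24, 24, 23, 24, 23, 23, 23, 23, 23, 23, 24, 24, 24, 24, 24, 24, 23, 24, 23, 23, 23, 23, 23, 23, 24, 24, 24, 24, 24, 24, 23, 24, 23, 23, 23, 23, 23, 23, 24, 24, 24, 24, 24, 24],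
  [23, 23, 23, 23, 24, 23, 24, 23, 23, 23, 23, 23, 23, 24, 24, 24, 24, 24, 24, 23, 24, 23, 23, 23, 23, 23, 23, 24, 24, 24, 24, 24, 24, 23, 24, 23, 23, 23, 23, 23, 23, 24, 24, 24, 24, 24, 24, 23, 24, 23, 23, 23, 23, 23, 23, 24, 24, 24, 24, 24, 24, 23, 24, 23, 23, 23, 23, 23, 23, 24, 24, 24, 24, 24, 24],
  [23, 23, 23, 23, 23, 24, 23, 24, 23, 23, 23, 23, 23, 23, 24, 24, 24, 24, 24, 24],
  [23, 23, 24, 24, 24, 23, 24, 23, 23, 23, 23, 23, 23, 24, 24, 24, 24, 24, 24],
  [23, 24, 24, 24, 24],
  [24, 24, 24, 23, 24, 23, 23, 23, 23, 23, 23, 24, 24, 24, 24, 24, 24],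
  [23, 23, 23, 24, 23, 23, 23, 23, 23, 23, 24, 24, 24, 24, 24, 24, 23, 24, 23, 23, 23, 23, 23, 23, 24, 24, 24, 24, 24, 24, 23, 24, 23, 23, 23, 23, 23, 23, 24, 24, 24, 24, 24, 24, 23, 24, 23, 23, 23, 23, 23, 23, 24, 24, 24, 24, 24, 24],
  [23, 24, 24, 24, 24, 23, 24, 23, 23, 23, 23, 23, 23, 24, 24, 24, 24, 24, 24, 23, 24, 23, 23, 23, 23, 23, 23, 24, 24, 24, 24, 24, 24],
  [23, 23, 23, 23, 24, 24, 24, 23, 24, 23, 23, 23, 23, 23, 23, 24, 24, 24, 24, 24, 24, 23, 24, 23, 23, 23, 23, 23, 23, 24, 24, 24, 24, 24, 24, 23, 24, 23, 23, 23, 23, 23, 23, 24, 24, 24, 24, 24, 24],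
  [23, 23, 23, 24, 23, 23, 23, 23, 23, 23, 24, 24, 24, 24, 24, 24, 23, 24, 23, 23, 23, 23, 23, 23, 24, 24, 24, 24, 24, 24],
  [23, 23, 24, 24, 24, 24, 23, 24, 23, 23, 23, 23, 23, 23, 24, 24, 24, 24, 24, 24],
  [23, 23, 23, 23, 23, 24, 24, 23, 24, 23, 23, 23, 23, 23, 23, 24, 24, 24, 24, 24, 24, 23, 24, 23, 23, 23, 23, 23, 23, 24, 24, 24, 24, 24, 24],
  [23, 23, 23],
  [23, 23, 23, 24, 24, 24, 24, 24, 24],
  [23, 23, 23, 24, 23, 24, 23, 23, 23, 23, 23, 23, 24, 24, 24, 24, 24, 24, 23, 24, 23, 23, 23, 23, 23, 23, 24, 24, 24, 24, 24, 24],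
  [23, 24, 24, 24, 24, 24, 23, 24, 23, 23, 23, 23, 23, 23, 24, 24, 24, 24, 24, 24, 23, 24, 23, 23, 23, 23, 23, 23, 24, 24, 24, 24, 24, 24, 23, 24, 23, 23, 23, 23, 23, 23, 24, 24, 24, 24, 24, 24],
  [23, 24, 23, 24, 23, 23, 23, 23, 23, 23, 24, 24, 24, 24, 24, 24, 23, 24, 23, 23, 23, 23, 23, 23, 24, 24, 24, 24, 24, 24, 23, 24, 23, 23, 23, 23, 23, 23, 24, 24, 24, 24, 24, 24],
  [23, 23, 23, 24, 24, 24, 24, 23, 24, 23, 23, 23, 23, 23, 23, 24, 24, 24, 24, 24, 24, 23, 24, 23, 23, 23, 23, 23, 23, 24, 24, 24, 24, 24, 24, 23, 24, 23, 23, 23, 23, 23, 23, 24, 24, 24, 24, 24, 24, 23, 24, 23, 23, 23, 23, 23, 23, 24, 24, 24, 24, 24, 24, 23, 24, 23, 23, 23, 23, 23, 23, 24, 24, 24, 24, 24, 24, 23, 24, 23, 23, 23, 23, 23, 23, 24, 24, 24, 24, 24, 24],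
  [23, 23, 23, 24, 24],
  [24, 23, 24, 23, 23, 23, 23, 23, 23, 24, 24, 24, 24, 24, 24, 23, 24, 23, 23, 23, 23, 23, 23, 24, 24, 24, 24, 24, 24, 23, 24, 23, 23, 23, 23, 23, 23, 24, 24, 24, 24, 24, 24, 23, 24, 23, 23, 23, 23, 23, 23, 24, 24, 24, 24, 24, 24],
  [23, 23, 23, 23, 24, 24, 24, 24, 24, 23, 24, 23, 23, 23, 23, 23, 23, 24, 24, 24, 24, 24, 24, 23, 24, 23, 23, 23, 23, 23, 23, 24, 24, 24, 24, 24, 24],
  [23, 23, 23, 23, 23, 24, 24, 24, 24, 24, 23, 24, 23, 23, 23, 23, 23, 23, 24, 24, 24, 24, 24, 24, 23, 24, 23, 23, 23, 23, 23, 23, 24, 24, 24, 24, 24, 24, 23, 24, 23, 23, 23, 23, 23, 23, 24, 24, 24, 24, 24, 24, 23, 24, 23, 23, 23, 23, 23, 23, 24, 24, 24, 24, 24, 24, 23, 24, 23, 23, 23, 23, 23, 23, 24, 24, 24, 24, 24, 24],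
  [23, 23, 23, 23, 23, 24, 24, 24, 24, 23, 24, 23, 23, 23, 23, 23, 23, 24, 24, 24, 24, 24, 24, 23, 24, 23, 23, 23, 23, 23, 23, 24, 24, 24, 24, 24, 24, 23, 24, 23, 23, 23, 23, 23, 23, 24, 24, 24, 24, 24, 24],
  [23, 23, 23, 23, 23, 24, 23, 24, 23, 23, 23, 23, 23, 23, 24, 24, 24, 24, 24, 24, 23, 24, 23, 23, 23, 23, 23, 23, 24, 24, 24, 24, 24, 24, 23, 24, 23, 23, 23, 23, 23, 23, 24, 24, 24, 24, 24, 24, 23, 24, 23, 23, 23, 23, 23, 23, 24, 24, 24, 24, 24, 24, 23, 24, 23, 23, 23, 23, 23, 23, 24, 24, 24, 24, 24, 24],
  [23, 23, 23, 24, 24, 24, 24, 23, 24, 23, 23, 23, 23, 23, 23, 24, 24, 24, 24, 24, 24, 23, 24, 23, 23, 23, 23, 23, 23, 24, 24, 24, 24, 24, 24],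
  [24, 24, 24, 24, 23, 24, 23, 23, 23, 23, 23, 23, 24, 24, 24, 24, 24, 24, 23, 24, 23, 23, 23, 23, 23, 23, 24, 24, 24, 24, 24, 24, 23, 24, 23, 23, 23, 23, 23, 23, 24, 24, 24, 24, 24, 24, 23, 24, 23, 23, 23, 23, 23, 23, 24, 24, 24, 24, 24, 24, 23, 24, 23, 23, 23, 23, 23, 23, 24, 24, 24, 24, 24, 24],
  [23, 23, 23, 23, 24, 23, 24, 23, 23, 23, 23, 23, 23, 24, 24, 24, 24, 24, 24, 23, 24, 23, 23, 23, 23, 23, 23, 24, 24, 24, 24, 24, 24],
  [24, 24, 23, 24, 23, 23, 23, 23, 23, 23, 24, 24, 24, 24, 24, 24, 23, 24, 23, 23, 23, 23, 23, 23, 24, 24, 24, 24, 24, 24, 23, 24, 23, 23, 23, 23, 23, 23, 24, 24, 24, 24, 24, 24],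
  [23, 23, 23, 24, 23, 23, 23, 23, 23, 23, 24, 24, 24, 24, 24, 24],
  [23, 23, 23, 23, 23, 23, 24, 24, 23, 24, 23, 23, 23, 23, 23, 23, 24, 24, 24, 24, 24, 24, 23, 24, 23, 23, 23, 23, 23, 23, 24, 24, 24, 24, 24, 24, 23, 24, 23, 23, 23, 23, 23, 23, 24, 24, 24, 24, 24, 24, 23, 24, 23, 23, 23, 23, 23, 23, 24, 24, 24, 24, 24, 24],
  [24, 24, 24, 24],
  [23, 23, 23, 23, 23, 23, 24, 23, 24, 23, 23, 23, 23, 23, 23, 24, 24, 24, 24, 24, 24],
  [23, 24, 24, 24, 24, 23, 24, 23, 23, 23, 23, 23, 23, 24, 24, 24, 24, 24, 24, 23, 24, 23, 23, 23, 23, 23, 23, 24, 24, 24, 24, 24, 24, 23, 24, 23, 23, 23, 23, 23, 23, 24, 24, 24, 24, 24, 24, 23, 24, 23, 23, 23, 23, 23, 23, 24, 24, 24, 24, 24, 24, 23, 24, 23, 23, 23, 23, 23, 23, 24, 24, 24, 24, 24, 24, 23, 24, 23, 23, 23, 23, 23, 23, 24, 24, 24, 24, 24, 24],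
  [23, 23, 23, 23, 23, 23, 24, 23, 23, 23, 23, 23, 23, 24, 24, 24, 24, 24, 24, 23, 24, 23, 23, 23, 23, 23, 23, 24, 24, 24, 24, 24, 24, 23, 24, 23, 23, 23, 23, 23, 23, 24, 24, 24, 24, 24, 24, 23, 24, 23, 23, 23, 23, 23, 23, 24, 24, 24, 24, 24, 24, 23, 24, 23, 23, 23, 23, 23, 23, 24, 24, 24, 24, 24, 24],
  [23, 24, 24, 24, 23, 24, 23, 23, 23, 23, 23, 23, 24, 24, 24, 24, 24, 24, 23, 24, 23, 23, 23, 23, 23, 23, 24, 24, 24, 24, 24, 24],
  [23, 23, 23, 23, 23, 23, 24, 24, 23, 24, 23, 23, 23, 23, 23, 23, 24, 24, 24, 24, 24, 24, 23, 24, 23, 23, 23, 23, 23, 23, 24, 24, 24, 24, 24, 24, 23, 24, 23, 23, 23, 23, 23, 23, 24, 24, 24, 24, 24, 24, 23, 24, 23, 23, 23, 23, 23, 23, 24, 24, 24, 24, 24, 24, 23, 24, 23, 23, 23, 23, 23, 23, 24, 24, 24, 24, 24, 24, 23, 24, 23, 23, 23, 23, 23, 23, 24, 24, 24, 24, 24, 24],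
  [23, 23, 24, 24, 24, 24, 23, 24, 23, 23, 23, 23, 23, 23, 24, 24, 24, 24, 24, 24, 23, 24, 23, 23, 23, 23, 23, 23, 24, 24, 24, 24, 24, 24, 23, 24, 23, 23, 23, 23, 23, 23, 24, 24, 24, 24, 24, 24, 23, 24, 23, 23, 23, 23, 23, 23, 24, 24, 24, 24, 24, 24, 23, 24, 23, 23, 23, 23, 23, 23, 24, 24, 24, 24, 24, 24],
  [23, 23, 23, 23, 23, 24, 24, 24, 24, 24, 23, 24, 23, 23, 23, 23, 23, 23, 24, 24, 24, 24, 24, 24, 23, 24, 23, 23, 23, 23, 23, 23, 24, 24, 24, 24, 24, 24, 23, 24, 23, 23, 23, 23, 23, 23, 24, 24, 24, 24, 24, 24],
  [23, 24, 24, 24, 23, 24, 23, 23, 23, 23, 23, 23, 24, 24, 24, 24, 24, 24, 23, 24, 23, 23, 23, 23, 23, 23, 24, 24, 24, 24, 24, 24, 23, 24, 23, 23, 23, 23, 23, 23, 24, 24, 24, 24, 24, 24, 23, 24, 23, 23, 23, 23, 23, 23, 24, 24, 24, 24, 24, 24, 23, 24, 23, 23, 23, 23, 23, 23, 24, 24, 24, 24, 24, 24, 23, 24, 23, 23, 23, 23, 23, 23, 24, 24, 24, 24, 24, 24],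
  [23, 23, 23, 23, 24, 23, 24, 23, 23, 23, 23, 23, 23, 24, 24, 24, 24, 24, 24, 23, 24, 23, 23, 23, 23, 23, 23, 24, 24, 24, 24, 24, 24, 23, 24, 23, 23, 23, 23, 23, 23, 24, 24, 24, 24, 24, 24],
  [23, 23, 24, 24, 23, 24, 23, 23, 23, 23, 23, 23, 24, 24, 24, 24, 24, 24, 23, 24, 23, 23, 23, 23, 23, 23, 24, 24, 24, 24, 24, 24, 23, 24, 23, 23, 23, 23, 23, 23, 24, 24, 24, 24, 24, 24, 23, 24, 23, 23, 23, 23, 23, 23, 24, 24, 24, 24, 24, 24],
  [23, 23, 23, 23, 24, 24, 23, 24, 23, 23, 23, 23, 23, 23, 24, 24, 24, 24, 24, 24, 23, 24, 23, 23, 23, 23, 23, 23, 24, 24, 24, 24, 24, 24, 23, 24, 23, 23, 23, 23, 23, 23, 24, 24, 24, 24, 24, 24, 23, 24, 23, 23, 23, 23, 23, 23, 24, 24, 24, 24, 24, 24],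
  [24, 24, 24, 24, 24, 23, 24, 23, 23, 23, 23, 23, 23, 24, 24, 24, 24, 24, 24, 23, 24, 23, 23, 23, 23, 23, 23, 24, 24, 24, 24, 24, 24, 23, 24, 23, 23, 23, 23, 23, 23, 24, 24, 24, 24, 24, 24, 23, 24, 23, 23, 23, 23, 23, 23, 24, 24, 24, 24, 24, 24, 23, 24, 23, 23, 23, 23, 23, 23, 24, 24, 24, 24, 24, 24],
  [24, 24, 24, 24, 24, 23, 24, 23, 23, 23, 23, 23, 23, 24, 24, 24, 24, 24, 24, 23, 24, 23, 23, 23, 23, 23, 23, 24, 24, 24, 24, 24, 24],
  [23, 23, 23, 23, 24],
  [23, 23, 23, 23, 23, 24, 24, 24, 23, 24, 23, 23, 23, 23, 23, 23, 24, 24, 24, 24, 24, 24, 23, 24, 23, 23, 23, 23, 23, 23, 24, 24, 24, 24, 24, 24],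
  [23, 23, 23, 24, 23, 23, 23, 23, 23, 23, 24, 24, 24, 24, 24, 24, 23, 24, 23, 23, 23, 23, 23, 23, 24, 24, 24, 24, 24, 24, 23, 24, 23, 23, 23, 23, 23, 23, 24, 24, 24, 24, 24, 24, 23, 24, 23, 23, 23, 23, 23, 23, 24, 24, 24, 24, 24, 24, 23, 24, 23, 23, 23, 23, 23, 23, 24, 24, 24, 24, 24, 24, 23, 24, 23, 23, 23, 23, 23, 23, 24, 24, 24, 24, 24, 24],
  [24, 24, 23, 24, 23, 23, 23, 23, 23, 23, 24, 24, 24, 24, 24, 24, 23, 24, 23, 23, 23, 23, 23, 23, 24, 24, 24, 24, 24, 24, 23, 24, 23, 23, 23, 23, 23, 23, 24, 24, 24, 24, 24, 24, 23, 24, 23, 23, 23, 23, 23, 23, 24, 24, 24, 24, 24, 24, 23, 24, 23, 23, 23, 23, 23, 23, 24, 24, 24, 24, 24, 24, 23, 24, 23, 23, 23, 23, 23, 23, 24, 24, 24, 24, 24, 24],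
  [23, 23, 23, 23, 23, 23, 24, 24, 24, 24, 23, 24, 23, 23, 23, 23, 23, 23, 24, 24, 24, 24, 24, 24, 23, 24, 23, 23, 23, 23, 23, 23, 24, 24, 24, 24, 24, 24, 23, 24, 23, 23, 23, 23, 23, 23, 24, 24, 24, 24, 24, 24, 23, 24, 23, 23, 23, 23, 23, 23, 24, 24, 24, 24, 24, 24, 23, 24, 23, 23, 23, 23, 23, 23, 24, 24, 24, 24, 24, 24],
  [23, 23, 23, 23, 24, 23, 24, 23, 23, 23, 23, 23, 23, 24, 24, 24, 24, 24, 24, 23, 24, 23, 23, 23, 23, 23, 23, 24, 24, 24, 24, 24, 24, 23, 24, 23, 23, 23, 23, 23, 23, 24, 24, 24, 24, 24, 24, 23, 24, 23, 23, 23, 23, 23, 23, 24, 24, 24, 24, 24, 24, 23, 24, 23, 23, 23, 23, 23, 23, 24, 24, 24, 24, 24, 24, 23, 24, 23, 23, 23, 23, 23, 23, 24, 24, 24, 24, 24, 24],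
  [24, 24, 23, 24, 23, 23, 23, 23, 23, 23, 24, 24, 24, 24, 24, 24, 23, 24, 23, 23, 23, 23, 23, 23, 24, 24, 24, 24, 24, 24, 23, 24, 23, 23, 23, 23, 23, 23, 24, 24, 24, 24, 24, 24, 23, 24, 23, 23, 23, 23, 23, 23, 24, 24, 24, 24, 24, 24, 23, 24, 23, 23, 23, 23, 23, 23, 24, 24, 24, 24, 24, 24],
  [23, 23, 23, 23, 24, 23, 23, 23, 23, 23, 23, 24, 24, 24, 24, 24, 24, 23, 24, 23, 23, 23, 23, 23, 23, 24, 24, 24, 24, 24, 24, 23, 24, 23, 23, 23, 23, 23, 23, 24, 24, 24, 24, 24, 24, 23, 24, 23, 23, 23, 23, 23, 23, 24, 24, 24, 24, 24, 24, 23, 24, 23, 23, 23, 23, 23, 23, 24, 24, 24, 24, 24, 24],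
  [23, 23, 24, 24, 24, 24, 24, 24, 23, 24, 23, 23, 23, 23, 23, 23, 24, 24, 24, 24, 24, 24, 23, 24, 23, 23, 23, 23, 23, 23, 24, 24, 24, 24, 24, 24],
  [23, 23, 23, 24, 24, 24, 24, 23, 24, 23, 23, 23, 23, 23, 23, 24, 24, 24, 24, 24, 24, 23, 24, 23, 23, 23, 23, 23, 23, 24, 24, 24, 24, 24, 24, 23, 24, 23, 23, 23, 23, 23, 23, 24, 24, 24, 24, 24, 24, 23, 24, 23, 23, 23, 23, 23, 23, 24, 24, 24, 24, 24, 24],
  [23, 23, 23, 23, 24, 23, 23, 23, 23, 23, 23, 24, 24, 24, 24, 24, 24, 23, 24, 23, 23, 23, 23, 23, 23, 24, 24, 24, 24, 24, 24, 23, 24, 23, 23, 23, 23, 23, 23, 24, 24, 24, 24, 24, 24, 23, 24, 23, 23, 23, 23, 23, 23, 24, 24, 24, 24, 24, 24],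
  [23, 24, 24, 23, 24, 23, 23, 23, 23, 23, 23, 24, 24, 24, 24, 24, 24, 23, 24, 23, 23, 23, 23, 23, 23, 24, 24, 24, 24, 24, 24, 23, 24, 23, 23, 23, 23, 23, 23, 24, 24, 24, 24, 24, 24, 23, 24, 23, 23, 23, 23, 23, 23, 24, 24, 24, 24, 24, 24],
  [23, 24, 24, 24, 24, 24, 24, 23, 24, 23, 23, 23, 23, 23, 23, 24, 24, 24, 24, 24, 24, 23, 24, 23, 23, 23, 23, 23, 23, 24, 24, 24, 24, 24, 24, 23, 24, 23, 23, 23, 23, 23, 23, 24, 24, 24, 24, 24, 24, 23, 24, 23, 23, 23, 23, 23, 23, 24, 24, 24, 24, 24, 24, 23, 24, 23, 23, 23, 23, 23, 23, 24, 24, 24, 24, 24, 24],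
  [23, 23, 23, 24, 24, 23, 24, 23, 23, 23, 23, 23, 23, 24, 24, 24, 24, 24, 24, 23, 24, 23, 23, 23, 23, 23, 23, 24, 24, 24, 24, 24, 24, 23, 24, 23, 23, 23, 23, 23, 23, 24, 24, 24, 24, 24, 24, 23, 24, 23, 23, 23, 23, 23, 23, 24, 24, 24, 24, 24, 24, 23, 24, 23, 23, 23, 23, 23, 23, 24, 24, 24, 24, 24, 24, 23, 24, 23, 23, 23, 23, 23, 23, 24, 24, 24, 24, 24, 24],
  [23, 23, 23, 23, 23, 24, 23, 24, 23, 23, 23, 23, 23, 23, 24, 24, 24, 24, 24, 24, 23, 24, 23, 23, 23, 23, 23, 23, 24, 24, 24, 24, 24, 24, 23, 24, 23, 23, 23, 23, 23, 23, 24, 24, 24, 24, 24, 24, 23, 24, 23, 23, 23, 23, 23, 23, 24, 24, 24, 24, 24, 24],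
  [23, 23, 23, 23, 24, 24, 24, 23, 24, 23, 23, 23, 23, 23, 23, 24, 24, 24, 24, 24, 24, 23, 24, 23, 23, 23, 23, 23, 23, 24, 24, 24, 24, 24, 24, 23, 24, 23, 23, 23, 23, 23, 23, 24, 24, 24, 24, 24, 24, 23, 24, 23, 23, 23, 23, 23, 23, 24, 24, 24, 24, 24, 24],
  [23, 23, 23, 24, 24, 24, 23, 24, 23, 23, 23, 23, 23, 23, 24, 24, 24, 24, 24, 24, 23, 24, 23, 23, 23, 23, 23, 23, 24, 24, 24, 24, 24, 24, 23, 24, 23, 23, 23, 23, 23, 23, 24, 24, 24, 24, 24, 24],
  [23, 24, 24, 24, 24, 23, 24, 23, 23, 23, 23, 23, 23, 24, 24, 24, 24, 24, 24],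
  [23, 23, 23, 23, 24, 24, 24, 24, 24, 23, 24, 23, 23, 23, 23, 23, 23, 24, 24, 24, 24, 24, 24, 23, 24, 23, 23, 23, 23, 23, 23, 24, 24, 24, 24, 24, 24, 23, 24, 23, 23, 23, 23, 23, 23, 24, 24, 24, 24, 24, 24, 23, 24, 23, 23, 23, 23, 23, 23, 24, 24, 24, 24, 24, 24, 23, 24, 23, 23, 23, 23, 23, 23, 24, 24, 24, 24, 24, 24],
  [23, 23, 23, 23, 23, 23, 24, 23, 24, 23, 23, 23, 23, 23, 23, 24, 24, 24, 24, 24, 24, 23, 24, 23, 23, 23, 23, 23, 23, 24, 24, 24, 24, 24, 24, 23, 24, 23, 23, 23, 23, 23, 23, 24, 24, 24, 24, 24, 24, 23, 24, 23, 23, 23, 23, 23, 23, 24, 24, 24, 24, 24, 24, 23, 24, 23, 23, 23, 23, 23, 23, 24, 24, 24, 24, 24, 24, 23, 24, 23, 23, 23, 23, 23, 23, 24, 24, 24, 24, 24, 24],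
  [23, 23, 23, 24, 24, 24, 24, 24, 23, 24, 23, 23, 23, 23, 23, 23, 24, 24, 24, 24, 24, 24, 23, 24, 23, 23, 23, 23, 23, 23, 24, 24, 24, 24, 24, 24, 23, 24, 23, 23, 23, 23, 23, 23, 24, 24, 24, 24, 24, 24, 23, 24, 23, 23, 23, 23, 23, 23, 24, 24, 24, 24, 24, 24],
  [23, 23, 23, 23, 23, 23, 24, 24, 24, 24, 24, 24, 23, 24, 23, 23, 23, 23, 23, 23, 24, 24, 24, 24, 24, 24],
  [23, 23, 23, 23, 23, 23, 24, 24, 24, 24, 24, 24, 23, 24, 23, 23, 23, 23, 23, 23, 24, 24, 24, 24, 24, 24, 23, 24, 23, 23, 23, 23, 23, 23, 24, 24, 24, 24, 24, 24, 23, 24, 23, 23, 23, 23, 23, 23, 24, 24, 24, 24, 24, 24],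
  [23, 23, 23, 24, 24, 24, 24, 24, 23, 24, 23, 23, 23, 23, 23, 23, 24, 24, 24, 24, 24, 24, 23, 24, 23, 23, 23, 23, 23, 23, 24, 24, 24, 24, 24, 24, 23, 24, 23, 23, 23, 23, 23, 23, 24, 24, 24, 24, 24, 24, 23, 24, 23, 23, 23, 23, 23, 23, 24, 24, 24, 24, 24, 24, 23, 24, 23, 23, 23, 23, 23, 23, 24, 24, 24, 24, 24, 24],
  [23, 23, 23, 23, 24, 24, 24, 24, 24, 24, 23, 24, 23, 23, 23, 23, 23, 23, 24, 24, 24, 24, 24, 24, 23, 24, 23, 23, 23, 23, 23, 23, 24, 24, 24, 24, 24, 24],
  [23, 23, 24, 24, 24, 23, 24, 23, 23, 23, 23, 23, 23, 24, 24, 24, 24, 24, 24, 23, 24, 23, 23, 23, 23, 23, 23, 24, 24, 24, 24, 24, 24, 23, 24, 23, 23, 23, 23, 23, 23, 24, 24, 24, 24, 24, 24, 23, 24, 23, 23, 23, 23, 23, 23, 24, 24, 24, 24, 24, 24, 23, 24, 23, 23, 23, 23, 23, 23, 24, 24, 24, 24, 24, 24],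
  [23, 24, 24, 23, 24, 23, 23, 23, 23, 23, 23, 24, 24, 24, 24, 24, 24, 23, 24, 23, 23, 23, 23, 23, 23, 24, 24, 24, 24, 24, 24, 23, 24, 23, 23, 23, 23, 23, 23, 24, 24, 24, 24, 24, 24, 23, 24, 23, 23, 23, 23, 23, 23, 24, 24, 24, 24, 24, 24, 23, 24, 23, 23, 23, 23, 23, 23, 24, 24, 24, 24, 24, 24],
  [23, 24, 24, 23, 24, 23, 23, 23, 23, 23, 23, 24, 24, 24, 24, 24, 24, 23, 24, 23, 23, 23, 23, 23, 23, 24, 24, 24, 24, 24, 24, 23, 24, 23, 23, 23, 23, 23, 23, 24, 24, 24, 24, 24, 24, 23, 24, 23, 23, 23, 23, 23, 23, 24, 24, 24, 24, 24, 24, 23, 24, 23, 23, 23, 23, 23, 23, 24, 24, 24, 24, 24, 24, 23, 24, 23, 23, 23, 23, 23, 23, 24, 24, 24, 24, 24, 24],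
  [23, 23, 23, 23, 23, 24, 24, 24, 24, 24, 23, 24, 23, 23, 23, 23, 23, 23, 24, 24, 24, 24, 24, 24, 23, 24, 23, 23, 23, 23, 23, 23, 24, 24, 24, 24, 24, 24, 23, 24, 23, 23, 23, 23, 23, 23, 24, 24, 24, 24, 24, 24, 23, 24, 23, 23, 23, 23, 23, 23, 24, 24, 24, 24, 24, 24],
  [23, 23, 24, 24, 23, 24, 23, 23, 23, 23, 23, 23, 24, 24, 24, 24, 24, 24, 23, 24, 23, 23, 23, 23, 23, 23, 24, 24, 24, 24, 24, 24, 23, 24, 23, 23, 23, 23, 23, 23, 24, 24, 24, 24, 24, 24, 23, 24, 23, 23, 23, 23, 23, 23, 24, 24, 24, 24, 24, 24, 23, 24, 23, 23, 23, 23, 23, 23, 24, 24, 24, 24, 24, 24],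
  [24, 24, 24, 24, 23, 24, 23, 23, 23, 23, 23, 23, 24, 24, 24, 24, 24, 24, 23, 24, 23, 23, 23, 23, 23, 23, 24, 24, 24, 24, 24, 24, 23, 24, 23, 23, 23, 23, 23, 23, 24, 24, 24, 24, 24, 24, 23, 24, 23, 23, 23, 23, 23, 23, 24, 24, 24, 24, 24, 24],
  [24, 23, 24, 23, 23, 23, 23, 23, 23, 24, 24, 24, 24, 24, 24, 23, 24, 23, 23, 23, 23, 23, 23, 24, 24, 24, 24, 24, 24, 23, 24, 23, 23, 23, 23, 23, 23, 24, 24, 24, 24, 24, 24, 23, 24, 23, 23, 23, 23, 23, 23, 24, 24, 24, 24, 24, 24, 23, 24, 23, 23, 23, 23, 23, 23, 24, 24, 24, 24, 24, 24],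
  [23, 23, 23, 23, 23, 24, 23, 23, 23, 23, 23, 23, 24, 24, 24, 24, 24, 24, 23, 24, 23, 23, 23, 23, 23, 23, 24, 24, 24, 24, 24, 24, 23, 24, 23, 23, 23, 23, 23, 23, 24, 24, 24, 24, 24, 24],
  [23, 23, 24, 24],
  [23, 23, 24, 24, 24, 24, 24, 24, 23, 24, 23, 23, 23, 23, 23, 23, 24, 24, 24, 24, 24, 24],
  [23, 23, 23, 24, 24, 24, 23, 24, 23, 23, 23, 23, 23, 23, 24, 24, 24, 24, 24, 24, 23, 24, 23, 23, 23, 23, 23, 23, 24, 24, 24, 24, 24, 24],
  [23, 23, 23, 23, 24, 23, 24, 23, 23, 23, 23, 23, 23, 24, 24, 24, 24, 24, 24, 23, 24, 23, 23, 23, 23, 23, 23, 24, 24, 24, 24, 24, 24, 23, 24, 23, 23, 23, 23, 23, 23, 24, 24, 24, 24, 24, 24, 23, 24, 23, 23, 23, 23, 23, 23, 24, 24, 24, 24, 24, 24],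
  [23, 23, 23, 23, 23, 24, 24, 24, 24, 24, 23, 24, 23, 23, 23, 23, 23, 23, 24, 24, 24, 24, 24, 24, 23, 24, 23, 23, 23, 23, 23, 23, 24, 24, 24, 24, 24, 24, 23, 24, 23, 23, 23, 23, 23, 23, 24, 24, 24, 24, 24, 24, 23, 24, 23, 23, 23, 23, 23, 23, 24, 24, 24, 24, 24, 24, 23, 24, 23, 23, 23, 23, 23, 23, 24, 24, 24, 24, 24, 24, 23, 24, 23, 23, 23, 23, 23, 23, 24, 24, 24, 24, 24, 24],
  [23, 23, 23, 23, 23, 24, 24, 24, 23, 24, 23, 23, 23, 23, 23, 23, 24, 24, 24, 24, 24, 24],
  [23, 23, 24, 24, 24, 24, 23, 24, 23, 23, 23, 23, 23, 23, 24, 24, 24, 24, 24, 24, 23, 24, 23, 23, 23, 23, 23, 23, 24, 24, 24, 24, 24, 24, 23, 24, 23, 23, 23, 23, 23, 23, 24, 24, 24, 24, 24, 24, 23, 24, 23, 23, 23, 23, 23, 23, 24, 24, 24, 24, 24, 24],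
  [23, 23, 23, 24, 23, 24, 23, 23, 23, 23, 23, 23, 24, 24, 24, 24, 24, 24, 23, 24, 23, 23, 23, 23, 23, 23, 24, 24, 24, 24, 24, 24, 23, 24, 23, 23, 23, 23, 23, 23, 24, 24, 24, 24, 24, 24, 23, 24, 23, 23, 23, 23, 23, 23, 24, 24, 24, 24, 24, 24, 23, 24, 23, 23, 23, 23, 23, 23, 24, 24, 24, 24, 24, 24, 23, 24, 23, 23, 23, 23, 23, 23, 24, 24, 24, 24, 24, 24],
  [23, 23, 23, 23, 23, 24, 24, 24, 23, 24, 23, 23, 23, 23, 23, 23, 24, 24, 24, 24, 24, 24, 23, 24, 23, 23, 23, 23, 23, 23, 24, 24, 24, 24, 24, 24, 23, 24, 23, 23, 23, 23, 23, 23, 24, 24, 24, 24, 24, 24, 23, 24, 23, 23, 23, 23, 23, 23, 24, 24, 24, 24, 24, 24, 23, 24, 23, 23, 23, 23, 23, 23, 24, 24, 24, 24, 24, 24, 23, 24, 23, 23, 23, 23, 23, 23, 24, 24, 24, 24, 24, 24],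
  [23, 23, 23, 23, 23, 23],
  [23, 23, 23, 23, 23, 23, 24, 24, 24, 24, 24],
  [23, 23, 23, 23, 23, 24, 23, 24, 23, 23, 23, 23, 23, 23, 24, 24, 24, 24, 24, 24, 23, 24, 23, 23, 23, 23, 23, 23, 24, 24, 24, 24, 24, 24],
  [23, 23, 23, 23, 23],
  [23, 23, 23, 23, 23, 24, 24, 24, 24, 23, 24, 23, 23, 23, 23, 23, 23, 24, 24, 24, 24, 24, 24, 23, 24, 23, 23, 23, 23, 23, 23, 24, 24, 24, 24, 24, 24, 23, 24, 23, 23, 23, 23, 23, 23, 24, 24, 24, 24, 24, 24, 23, 24, 23, 23, 23, 23, 23, 23, 24, 24, 24, 24, 24, 24],
  [23, 23, 24, 23, 24, 23, 23, 23, 23, 23, 23, 24, 24, 24, 24, 24, 24, 23, 24, 23, 23, 23, 23, 23, 23, 24, 24, 24, 24, 24, 24],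
  [23, 23, 24, 23, 23, 23, 23, 23, 23, 24, 24, 24, 24, 24, 24, 23, 24, 23, 23, 23, 23, 23, 23, 24, 24, 24, 24, 24, 24, 23, 24, 23, 23, 23, 23, 23, 23, 24, 24, 24, 24, 24, 24, 23, 24, 23, 23, 23, 23, 23, 23, 24, 24, 24, 24, 24, 24],
  [24, 24, 24, 24, 24, 24, 23, 24, 23, 23, 23, 23, 23, 23, 24, 24, 24, 24, 24, 24, 23, 24, 23, 23, 23, 23, 23, 23, 24, 24, 24, 24, 24, 24, 23, 24, 23, 23, 23, 23, 23, 23, 24, 24, 24, 24, 24, 24, 23, 24, 23, 23, 23, 23, 23, 23, 24, 24, 24, 24, 24, 24, 23, 24, 23, 23, 23, 23, 23, 23, 24, 24, 24, 24, 24, 24, 23, 24, 23, 23, 23, 23, 23, 23, 24, 24, 24, 24, 24, 24],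
  [23, 23, 24, 24, 24, 24, 24, 24],
  [23, 24, 24, 24],
  [23, 24, 24, 24, 24, 24, 23, 24, 23, 23, 23, 23, 23, 23, 24, 24, 24, 24, 24, 24, 23, 24, 23, 23, 23, 23, 23, 23, 24, 24, 24, 24, 24, 24],
  [23, 23, 23, 23, 24, 23, 23, 23, 23, 23, 23, 24, 24, 24, 24, 24, 24, 23, 24, 23, 23, 23, 23, 23, 23, 24, 24, 24, 24, 24, 24, 23, 24, 23, 23, 23, 23, 23, 23, 24, 24, 24, 24, 24, 24],
  [24, 23, 24, 23, 23, 23, 23, 23, 23, 24, 24, 24, 24, 24, 24, 23, 24, 23, 23, 23, 23, 23, 23, 24, 24, 24, 24, 24, 24, 23, 24, 23, 23, 23, 23, 23, 23, 24, 24, 24, 24, 24, 24],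
  [23, 23, 23, 24, 24, 24, 23, 24, 23, 23, 23, 23, 23, 23, 24, 24, 24, 24, 24, 24],
  [23, 23, 24, 24, 24, 24, 24, 23, 24, 23, 23, 23, 23, 23, 23, 24, 24, 24, 24, 24, 24, 23, 24, 23, 23, 23, 23, 23, 23, 24, 24, 24, 24, 24, 24, 23, 24, 23, 23, 23, 23, 23, 23, 24, 24, 24, 24, 24, 24, 23, 24, 23, 23, 23, 23, 23, 23, 24, 24, 24, 24, 24, 24, 23, 24, 23, 23, 23, 23, 23, 23, 24, 24, 24, 24, 24, 24, 23, 24, 23, 23, 23, 23, 23, 23, 24, 24, 24, 24, 24, 24],
  [23, 23, 24, 23, 23, 23, 23, 23, 23, 24, 24, 24, 24, 24, 24, 23, 24, 23, 23, 23, 23, 23, 23, 24, 24, 24, 24, 24, 24, 23, 24, 23, 23, 23, 23, 23, 23, 24, 24, 24, 24, 24, 24, 23, 24, 23, 23, 23, 23, 23, 23, 24, 24, 24, 24, 24, 24, 23, 24, 23, 23, 23, 23, 23, 23, 24, 24, 24, 24, 24, 24],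
  [23, 23, 24, 23, 23, 23, 23, 23, 23, 24, 24, 24, 24, 24, 24, 23, 24, 23, 23, 23, 23, 23, 23, 24, 24, 24, 24, 24, 24, 23, 24, 23, 23, 23, 23, 23, 23, 24, 24, 24, 24, 24, 24],
  [23, 23, 23, 23, 23, 23, 24, 24, 24, 24, 24, 23, 24, 23, 23, 23, 23, 23, 23, 24, 24, 24, 24, 24, 24],
  [23, 23, 24, 24, 24, 24],
  [23, 23, 23, 24, 24, 23, 24, 23, 23, 23, 23, 23, 23, 24, 24, 24, 24, 24, 24, 23, 24, 23, 23, 23, 23, 23, 23, 24, 24, 24, 24, 24, 24, 23, 24, 23, 23, 23, 23, 23, 23, 24, 24, 24, 24, 24, 24, 23, 24, 23, 23, 23, 23, 23, 23, 24, 24, 24, 24, 24, 24],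
  [23, 24, 24, 24, 24, 24, 23, 24, 23, 23, 23, 23, 23, 23, 24, 24, 24, 24, 24, 24, 23, 24, 23, 23, 23, 23, 23, 23, 24, 24, 24, 24, 24, 24, 23, 24, 23, 23, 23, 23, 23, 23, 24, 24, 24, 24, 24, 24, 23, 24, 23, 23, 23, 23, 23, 23, 24, 24, 24, 24, 24, 24, 23, 24, 23, 23, 23, 23, 23, 23, 24, 24, 24, 24, 24, 24, 23, 24, 23, 23, 23, 23, 23, 23, 24, 24, 24, 24, 24, 24],
  [23, 23, 23, 23, 23, 24, 24, 24, 24],
  [23, 23],
  [23, 23, 23, 24, 24, 24, 24, 24, 24, 23, 24, 23, 23, 23, 23, 23, 23, 24, 24, 24, 24, 24, 24, 23, 24, 23, 23, 23, 23, 23, 23, 24, 24, 24, 24, 24, 24, 23, 24, 23, 23, 23, 23, 23, 23, 24, 24, 24, 24, 24, 24, 23, 24, 23, 23, 23, 23, 23, 23, 24, 24, 24, 24, 24, 24, 23, 24, 23, 23, 23, 23, 23, 23, 24, 24, 24, 24, 24, 24, 23, 24, 23, 23, 23, 23, 23, 23, 24, 24, 24, 24, 24, 24],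
  [24, 24, 24, 24, 24, 24, 23, 24, 23, 23, 23, 23, 23, 23, 24, 24, 24, 24, 24, 24, 23, 24, 23, 23, 23, 23, 23, 23, 24, 24, 24, 24, 24, 24, 23, 24, 23, 23, 23, 23, 23, 23, 24, 24, 24, 24, 24, 24, 23, 24, 23, 23, 23, 23, 23, 23, 24, 24, 24, 24, 24, 24, 23, 24, 23, 23, 23, 23, 23, 23, 24, 24, 24, 24, 24, 24],
  [24, 24, 24, 24, 24, 24],
  [23, 23, 23, 23, 23, 23, 24, 24, 24, 24, 23, 24, 23, 23, 23, 23, 23, 23, 24, 24, 24, 24, 24, 24, 23, 24, 23, 23, 23, 23, 23, 23, 24, 24, 24, 24, 24, 24],
  [24, 24, 23, 24, 23, 23, 23, 23, 23, 23, 24, 24, 24, 24, 24, 24, 23, 24, 23, 23, 23, 23, 23, 23, 24, 24, 24, 24, 24, 24],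
  [23, 24],
  [23, 23, 23, 23, 23, 24, 24, 24, 24, 24, 24],
  [23, 23, 23, 23, 24, 24, 24, 24, 23, 24, 23, 23, 23, 23, 23, 23, 24, 24, 24, 24, 24, 24, 23, 24, 23, 23, 23, 23, 23, 23, 24, 24, 24, 24, 24, 24],
  [23, 23, 23, 23, 23, 23, 24, 24, 24, 24, 23, 24, 23, 23, 23, 23, 23, 23, 24, 24, 24, 24, 24, 24],
  [23, 23, 24, 24, 24, 24, 24, 23, 24, 23, 23, 23, 23, 23, 23, 24, 24, 24, 24, 24, 24, 23, 24, 23, 23, 23, 23, 23, 23, 24, 24, 24, 24, 24, 24, 23, 24, 23, 23, 23, 23, 23, 23, 24, 24, 24, 24, 24, 24, 23, 24, 23, 23, 23, 23, 23, 23, 24, 24, 24, 24, 24, 24, 23, 24, 23, 23, 23, 23, 23, 23, 24, 24, 24, 24, 24, 24],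
  [23, 23, 23, 23, 24, 24, 24, 24, 23, 24, 23, 23, 23, 23, 23, 23, 24, 24, 24, 24, 24, 24, 23, 24, 23, 23, 23, 23, 23, 23, 24, 24, 24, 24, 24, 24, 23, 24, 23, 23, 23, 23, 23, 23, 24, 24, 24, 24, 24, 24, 23, 24, 23, 23, 23, 23, 23, 23, 24, 24, 24, 24, 24, 24, 23, 24, 23, 23, 23, 23, 23, 23, 24, 24, 24, 24, 24, 24],
  [23, 23, 23, 23, 23, 24, 24, 24, 24, 24, 24, 23, 24, 23, 23, 23, 23, 23, 23, 24, 24, 24, 24, 24, 24, 23, 24, 23, 23, 23, 23, 23, 23, 24, 24, 24, 24, 24, 24, 23, 24, 23, 23, 23, 23, 23, 23, 24, 24, 24, 24, 24, 24, 23, 24, 23, 23, 23, 23, 23, 23, 24, 24, 24, 24, 24, 24, 23, 24, 23, 23, 23, 23, 23, 23, 24, 24, 24, 24, 24, 24, 23, 24, 23, 23, 23, 23, 23, 23, 24, 24, 24, 24, 24, 24]]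

/-- Points for their keys. -/
def pts7 : List ℕ := [1023]

end CfsgLib.HeldMult
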